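import Groth.Agent.SplitGrp.Full

/-!
# Generic functionals
-/

namespace Groth.Agent.SplitGrp

/-- Perturb a functional so that it vanishes on no vector, keeping the signs. -/
theorem exists_generic {M : Type*} [AddCommGroup M] [Module.Free ℤ M] [Module.Finite ℤ M] {J : Type*}
    [Fintype J] (v : J → M) (hv : ∀ a, v a ≠ 0) (lam₁ : M →+ ℤ) :
    ∃ lam : M →+ ℤ, (∀ a, lam (v a) ≠ 0) ∧ (∀ a, 0 < lam₁ (v a) → 0 < lam (v a)) ∧
      ∀ a, lam₁ (v a) < 0 → lam (v a) < 0 := by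
  obtain ⟨lam₀, h₀⟩ := exists_functional_ne_zero v hv
  let N : ℤ := 1 + ∑ a, |lam₀ (v a)|
  have hN : ∀ a, |lam₀ (v a)| < N := fun a =>
    lt_of_le_of_lt (Finset.single_le_sum (f := fun a => |lam₀ (v a)|) (fun b _ => abs_nonneg _) (Finset.mem_univ a))
      (lt_one_add _)
  refine ⟨N • lam₁ + lam₀, ?_⟩
  have hval : ∀ a, (N • lam₁ + lam₀) (v a) = N * lam₁ (v a) + lam₀ (v a) := fun a => by simp
  have hp : ∀ a, 0 < lam₁ (v a) → 0 < N * lam₁ (v a) + lam₀ (v a) := fun a ha => by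
    have := abs_lt.1 (hN a); nlinarith
  have hn : ∀ a, lam₁ (v a) < 0 → N * lam₁ (v a) + lam₀ (v a) < 0 := fun a ha => by
    have := abs_lt.1 (hN a); nlinarith
  refine ⟨fun a => ?_, fun a ha => (hval a).symm ▸ hp a ha, fun a ha => (hval a).symm ▸ hn a ha⟩
  rw [hval]
  rcases lt_trichotomy (lam₁ (v a)) 0 with h | h | h
  · exact (hn a h).ne
  · simpa [h] using h₀ a
  · exact (hp a h).ne'

end Groth.Agent.SplitGrp
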