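import Groth.Agent.SplitGrp.Generate
import Mathlib.Algebra.Polynomial.Roots

/-!
# Full big cells exist; comparison with `RedSub.cellMap`; the centre
-/

universe u

open CategoryTheory CategoryTheory.Limits MonoidalCategory CartesianMonoidalCategory MonObj GrpObj AlgebraicGeometry

attribute [local instance] CategoryTheory.Hom.monoid CategoryTheory.Hom.group
set_option linter.unusedSectionVars false

namespace Groth.Agent.SplitGrp

noncomputable section

/-- A functional vanishing on none of finitely many nonzero vectors. -/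
theorem exists_functional_ne_zero {M : Type*} [AddCommGroup M] [Module.Free ℤ M] [Module.Finite ℤ M] {J : Type*}
    [Fintype J] (v : J → M) (hv : ∀ a, v a ≠ 0) : ∃ lam : M →+ ℤ, ∀ a, lam (v a) ≠ 0 := by
  let b := Module.Free.chooseBasis ℤ M
  let emb : Module.Free.ChooseBasisIndex ℤ M → ℕ := fun i => (Fintype.equivFin _ i : ℕ)
  let P : M →ₗ[ℤ] Polynomial ℤ := b.constr ℤ fun i => Polynomial.X ^ emb i
  have hP : ∀ x, x ≠ 0 → P x ≠ 0 := fun x hx h0 => hx (b.repr.injective (Finsupp.ext fun i => by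
    have h1 := congrArg (fun p : Polynomial ℤ => p.coeff (emb i)) h0
    simp only [P, Module.Basis.constr_apply_fintype, Polynomial.finset_sum_coeff, Polynomial.coeff_smul,
      Polynomial.coeff_X_pow, Polynomial.coeff_zero] at h1
    rw [Finset.sum_eq_single i (fun j _ hj => by
      rw [if_neg fun h => hj ((Fintype.equivFin _).injective (Fin.ext h.symm)), smul_zero]) (by simp)] at h1
    simpa using h1))
  have hQ : ∏ a, P (v a) ≠ 0 := Finset.prod_ne_zero_iff.2 fun a _ => hP _ (hv a)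
  obtain ⟨N, hN⟩ := Polynomial.exists_eval_ne_zero_of_natDegree_lt_card _ hQ (by
    rw [Cardinal.mk_int]; exact Cardinal.natCast_lt_aleph0)
  refine ⟨((Polynomial.aeval N).toLinearMap.restrictScalars ℤ ∘ₗ P).toAddMonoidHom, fun a h0 => ?_⟩
  rw [Polynomial.eval_prod] at hN
  exact (Finset.prod_ne_zero_iff.1 hN a (Finset.mem_univ _)) (by simpa [Polynomial.coe_aeval_eq_eval] using h0)

variable {S : Scheme.{u}} {G : Over S} [GrpObj G]

theorem exists_isFull (D : Sys G) : ∃ (lam : D.M →+ ℤ) (n m : ℕ) (e : Fin n → D.idx) (e' : Fin m → D.idx),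
    IsFull lam e e' := by
  obtain ⟨lam, hlam⟩ := exists_functional_ne_zero D.r D.r_ne
  classical
  let A := {a // lam (D.r a) < 0}
  let B := {a // ¬ lam (D.r a) < 0}
  refine ⟨lam, _, _, fun l => ((Fintype.equivFin A).symm l).1, fun l => ((Fintype.equivFin B).symm l).1,
    ⟨Subtype.val_injective.comp (Equiv.injective _), Subtype.val_injective.comp (Equiv.injective _),
      fun l => ((Fintype.equivFin A).symm l).2,
      fun l => lt_of_le_of_ne (not_lt.1 ((Fintype.equivFin B).symm l).2) (hlam _).symm, ?_⟩⟩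
  rw [← Fintype.card_sum]
  exact Fintype.card_congr (Equiv.sumCompl _)

section Split

variable (D : Red.SplitRed G) {b : D.P.Base} {n m : ℕ}

theorem exists_isFull_of_base (b : D.P.Base) : ∃ lam : D.M →+ ℤ, ∀ (n m : ℕ) (eneg : Fin n → D.idx)
    (epos : Fin m → D.idx), RedSub.Enumerates (RedSub.negRoots D.P b) eneg →
    RedSub.Enumerates (RedSub.posRoots D.P b) epos → IsFull (D := ofSplit D) lam eneg epos := by
  obtain ⟨lam, hp, hn, hall⟩ := exists_separating D.P b
  refine ⟨lam, fun n m eneg epos hneg hpos => ⟨hneg.1, hpos.1, fun l => hn _ (hneg.2.le ⟨l, rfl⟩),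
    fun l => hp _ (hpos.2.le ⟨l, rfl⟩), ?_⟩⟩
  haveI : Fintype D.idx := inferInstance
  rw [← Fintype.card_fin n, ← Fintype.card_fin m, ← Fintype.card_sum]
  refine Fintype.card_of_bijective (f := Sum.elim eneg epos) ⟨hneg.1.sumElim hpos.1 fun i j hij => ?_, fun a => ?_⟩
  · have h1 := hn _ (hneg.2.le ⟨i, rfl⟩)
    have h2 := hp _ (hpos.2.le ⟨j, rfl⟩)
    rw [hij] at h1
    exact absurd h1 h2.le.not_gt
  · rcases hall a with ha | ha
    · obtain ⟨j, rfl⟩ := hpos.2.ge ha; exact ⟨Sum.inr j, rfl⟩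
    · obtain ⟨i, rfl⟩ := hneg.2.ge ha; exact ⟨Sum.inl i, rfl⟩

theorem isIso_split_hom : IsIso D.split.hom.hom.hom :=
  ((Grp.forget _).mapIso D.split).isIso_hom

/-- The big cell source in split coordinates. -/
def cellIso (n m : ℕ) :
    RedSub.pow (Red.Ga S) n ⊗ (D.T ⊗ RedSub.pow (Red.Ga S) m) ≅ cellOb (ofSplit D) n m :=
  whiskerLeftIso _ (whiskerRightIso ((Grp.forget _).mapIso D.split) _)

theorem cellMap_eq (eneg : Fin n → D.idx) (epos : Fin m → D.idx) :
    RedSub.cellMap D eneg epos = (cellIso D n m).hom ≫ (ofSplit D).cell eneg epos := by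
  have e1 : D.split.hom.hom.hom ≫ D.split.inv.hom.hom = 𝟙 _ := congrArg (fun m => m.hom.hom) D.split.hom_inv_id
  have h1 : ∀ {Y : Over S} (x : Y ⟶ D.T), (x ≫ D.split.hom.hom.hom) ≫ (ofSplit D).j = x ≫ D.i := fun x => by
    show (x ≫ D.split.hom.hom.hom) ≫ D.split.inv.hom.hom ≫ D.i = _
    rw [Category.assoc, reassoc_of% e1]
  rw [comp_cell, ← comp_prodMap, ← comp_prodMap]
  simp only [cellIso, whiskerLeftIso_hom, whiskerRightIso_hom, Functor.mapIso_hom, whiskerLeft_fst, whiskerLeft_snd_assoc,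
    whiskerRight_fst_assoc, whiskerRight_snd_assoc, Category.assoc]
  unfold RedSub.cellMap
  refine congrArg₂ (· * ·) rfl (congrArg₂ (· * ·) ?_ ?_)
  · have h2 : D.split.hom.hom.hom ≫ (ofSplit D).j = D.i := by simpa using h1 (𝟙 _)
    show _ = _ ≫ (D.split.hom.hom.hom ▷ _) ≫ _
    exact congrArg (snd _ _ ≫ ·) (((whiskerRight_fst_assoc D.split.hom.hom.hom _ (ofSplit D).j).trans (congrArg (fst _ _ ≫ ·) h2)).symm)
  · show _ = _ ≫ (D.split.hom.hom.hom ▷ _) ≫ _
    exact congrArg (snd _ _ ≫ ·) (whiskerRight_snd_assoc D.split.hom.hom.hom _ _).symm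

/-- The range of the big cell map. -/
theorem range_cellMap (eneg : Fin n → D.idx) (epos : Fin m → D.idx) :
    Set.range (RedSub.cellMap D eneg epos).left = Set.range ((ofSplit D).cell eneg epos).left := by
  haveI : IsIso (cellIso D n m).hom.left := ((Over.forget S).mapIso (cellIso D n m)).isIso_hom
  rw [cellMap_eq, Over.comp_left]
  refine Set.ext fun z => ⟨?_, ?_⟩
  · rintro ⟨w, rfl⟩; exact ⟨_, (Scheme.Hom.comp_apply _ _ w).symm⟩
  · rintro ⟨w, rfl⟩
    obtain ⟨w', rfl⟩ := (cellIso D n m).hom.left.surjective w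
    exact ⟨w', Scheme.Hom.comp_apply _ _ w'⟩

end Split

variable (D : Sys G)

/-- A point of the torus killed by all roots commutes with every point of the group. -/
theorem commute_of_roots {X : Over S} (t : X ⟶ Red.DS S D.M)
    (ht : ∀ a, t ≫ Red.chi S (D.r a) = 1) (h : X ⟶ G) : (t ≫ D.j) * h = h * (t ≫ D.j) := by
  obtain ⟨lam, n, m, e, e', hf⟩ := exists_isFull D
  obtain ⟨Z, p, a, b, hp, hab⟩ := exists_cover hf h
  have hcomm : ∀ x : Z ⟶ cellOb D n m,
      ((p ≫ t) ≫ D.j) * (x ≫ D.cell e e') = (x ≫ D.cell e e') * ((p ≫ t) ≫ D.j) := fun x => by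
    obtain ⟨v, t', w, rfl⟩ := exists_cellPt D x
    have h1 : ∀ d : D.idx, Red.gmFn ((p ≫ t) ≫ Red.chi S (D.r d)) = 1 := fun d => by
      rw [Category.assoc, ht, MonObj.comp_one, GmPts.gmFn_one]
    have h2 := conj_cellPt D e e' (p ≫ t) v t' w
    simp only [h1, _root_.one_mul] at h2
    exact mul_inv_eq_iff_eq_mul.1 h2
  rw [← cancel_epi p, MonObj.comp_mul, MonObj.comp_mul, hab, ← Category.assoc]
  calc _ = ((p ≫ t) ≫ D.j) * (a ≫ D.cell e e') * (b ≫ D.cell e e') := (_root_.mul_assoc _ _ _).symm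
    _ = (a ≫ D.cell e e') * (((p ≫ t) ≫ D.j) * (b ≫ D.cell e e')) := by rw [hcomm, _root_.mul_assoc]
    _ = _ := by rw [hcomm, ← _root_.mul_assoc]

/-- The centre is the intersection of the kernels of the roots. -/
theorem central_iff {X : Over S} (g : X ⟶ G) :
    (∀ (X' : Over S) (x : X' ⟶ X) (h : X' ⟶ G), (x ≫ g) * h = h * (x ≫ g)) ↔
      ∃ t : X ⟶ Red.DS S D.M, t ≫ D.j = g ∧ ∀ a, t ≫ Red.chi S (D.r a) = 1 := by
  constructor
  · intro hg
    obtain ⟨lam, n, m, e, e', hf⟩ := exists_isFull D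
    obtain ⟨t, rfl⟩ := exists_torus_of_commute hf g fun X' x s => hg X' x _
    refine ⟨t, rfl, fun a => GmPts.gmFn_injective ?_⟩
    show Red.gmFn (t ≫ Red.chi S (D.r a)) = Red.gmFn (1 : X ⟶ Red.Gm S)
    have h1 := hg X (𝟙 X) (D.U a 1)
    rw [Category.id_comp, ← mul_inv_eq_iff_eq_mul, conj_U, _root_.mul_one] at h1
    rw [GmPts.gmFn_one]
    exact U_injective h1
  · rintro ⟨t, rfl, ht⟩ X' x h
    rw [← Category.assoc]
    exact commute_of_roots D (x ≫ t) (fun a => by rw [Category.assoc, ht, MonObj.comp_one]) h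

end

end Groth.Agent.SplitGrp
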