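import Mathlib.LinearAlgebra.RootSystem.Finite.Lemmas
import Groth.Agent.SplitGrp.Full

/-!
# Pairs of roots in a root datum
-/

namespace Groth.Agent.SplitGrp

open Module

variable {J M N : Type} [Fintype J] [AddCommGroup M] [AddCommGroup N] (P : RootPairing J ℤ M N)

theorem isCrystallographic : P.IsCrystallographic := ⟨fun i j => ⟨P.pairing i j, rfl⟩⟩

/-- The functional of a coroot. -/
def corootFn (a : J) : M →+ ℤ := (P.coroot' a).toAddMonoidHom

theorem corootFn_root (a c : J) : corootFn P a (P.root c) = P.pairing c a := P.root_coroot'_eq_pairing a c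

theorem pairingIn_eq (i j : J) : P.pairingIn ℤ i j = P.pairing i j := by
  haveI := isCrystallographic P
  simpa using P.algebraMap_pairingIn ℤ i j

theorem pairing_nonneg_of_add_notMem {a b : J} (h0 : P.root a + P.root b ≠ 0)
    (hab : P.root a + P.root b ∉ Set.range P.root) : 0 ≤ P.pairing b a := by
  haveI := isCrystallographic P
  by_contra h
  push_neg at h
  rw [← pairingIn_eq] at h
  exact hab (by
    rw [add_comm]
    exact P.root_add_root_mem_of_pairingIn_neg h fun hb => h0 (by rw [hb, add_neg_cancel]))

theorem sub_mem_of_pos {c a : J} (h : 0 < P.pairing c a) (hne : c ≠ a) :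
    P.root c - P.root a ∈ Set.range P.root := by
  haveI := isCrystallographic P
  rw [← pairingIn_eq] at h
  exact P.root_sub_root_mem_of_pairingIn_pos h hne

/-- If `a + b` is not a root then no positive combination of `a` and `b` is. -/
theorem combination_notMem {a b : J} (h0 : P.root a + P.root b ≠ 0)
    (hab : P.root a + P.root b ∉ Set.range P.root) :
    ∀ (p q : ℕ), 1 ≤ p → 1 ≤ q → (p : ℤ) • P.root a + (q : ℤ) • P.root b ∉ Set.range P.root := by
  have hA := pairing_nonneg_of_add_notMem P h0 hab
  have hB := pairing_nonneg_of_add_notMem P (a := b) (b := a) (by rwa [add_comm]) (by rwa [add_comm])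
  have hlam : ∀ c, (c = a ∨ c = b) → 0 < P.pairing c a + P.pairing c b := by
    rintro c (rfl | rfl) <;> rw [P.pairing_same] <;> omega
  intro p
  induction p using Nat.strong_induction_on with
  | h p ihp =>
    intro q
    induction q using Nat.strong_induction_on with
    | h q ihq =>
      intro hp hq ⟨c, hc⟩
      have ea : ∀ d, P.pairing c d = (p : ℤ) * P.pairing a d + (q : ℤ) * P.pairing b d := fun d => by
        rw [← corootFn_root, hc, map_add, map_zsmul, map_zsmul, corootFn_root, corootFn_root, smul_eq_mul, smul_eq_mul]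
      by_cases hp1 : p = 1
      · by_cases hq1 : q = 1
        · subst hp1 hq1
          exact hab ⟨c, by simpa using hc⟩
        · have hpos : 0 < P.pairing c b := by
            rw [ea, P.pairing_same]; nlinarith
          have hne : c ≠ b := by
            intro hcb
            have e1 := ea a
            have e2 := ea b
            rw [hcb] at e1 e2
            have := hlam b (Or.inr rfl)
            have := hlam a (Or.inl rfl)
            rw [P.pairing_same] at *
            nlinarith
          obtain ⟨d, hd⟩ := sub_mem_of_pos P hpos hne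
          refine ihq (q - 1) (by omega) hp (by omega) ⟨d, ?_⟩
          rw [hd, hc, Nat.cast_sub (by omega), Nat.cast_one, sub_smul, one_smul]
          abel
      · have hpos : 0 < P.pairing c a := by
          rw [ea, P.pairing_same]; nlinarith
        have hne : c ≠ a := by
          intro hca
          have e1 := ea a
          have e2 := ea b
          rw [hca] at e1 e2
          have := hlam b (Or.inr rfl)
          have := hlam a (Or.inl rfl)
          rw [P.pairing_same] at *
          nlinarith
        obtain ⟨d, hd⟩ := sub_mem_of_pos P hpos hne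
        refine ihp (p - 1) (by omega) q (by omega) hq ⟨d, ?_⟩
        rw [hd, hc, Nat.cast_sub (by omega), Nat.cast_one, sub_smul, one_smul]
        abel

/-- A root is a positive combination of two roots of the same sign in at most one way. -/
theorem exponents_unique {a b c : J} (lam : M →+ ℤ) (ha : 0 < lam (P.root a)) (hb : 0 < lam (P.root b))
    {p q p' q' : ℕ} (hp : 1 ≤ p) (hq : 1 ≤ q) (hp' : 1 ≤ p') (hq' : 1 ≤ q')
    (h : P.root c = (p : ℤ) • P.root a + (q : ℤ) • P.root b)
    (h' : P.root c = (p' : ℤ) • P.root a + (q' : ℤ) • P.root b) : p = p' ∧ q = q' := by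
  have hev : ∀ (f : M →+ ℤ) {u v : ℕ}, P.root c = (u : ℤ) • P.root a + (v : ℤ) • P.root b →
      f (P.root c) = (u : ℤ) * f (P.root a) + (v : ℤ) * f (P.root b) := fun f u v e => by
    rw [e, map_add, map_zsmul, map_zsmul, smul_eq_mul, smul_eq_mul]
  by_contra hne
  have hl := hev lam h
  have hl' := hev lam h'
  have hd : ((q : ℤ) - q') ≠ 0 := fun hd => hne ⟨by nlinarith, by omega⟩
  have eA : ∀ (f : M →+ ℤ), ((p : ℤ) - p') * f (P.root a) + ((q : ℤ) - q') * f (P.root b) = 0 := fun f => by
    have := hev f h
    have := hev f h'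
    linarith
  have eK : ∀ (f : M →+ ℤ), ((q : ℤ) - q') * f (P.root c) =
      ((p : ℤ) * ((q : ℤ) - q') - (q : ℤ) * ((p : ℤ) - p')) * f (P.root a) := fun f => by
    rw [hev f h]; linear_combination (q : ℤ) * eA f
  set K := (p : ℤ) * ((q : ℤ) - q') - (q : ℤ) * ((p : ℤ) - p')
  have eK0 : K ≠ 0 := fun hK => by
    have := eK lam
    rw [hK, zero_mul, mul_eq_zero] at this
    rcases this with h1 | h1
    · exact hd h1
    · nlinarith
  have k1 := eK (corootFn P a)
  have k2 := eK (corootFn P c)
  simp only [corootFn_root, P.pairing_same] at k1 k2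
  have hAx : P.pairing c a * P.pairing a c = 4 := by
    apply mul_left_cancel₀ (mul_ne_zero hd eK0)
    calc ((q : ℤ) - q') * K * (P.pairing c a * P.pairing a c)
        = (((q : ℤ) - q') * P.pairing c a) * (K * P.pairing a c) := by ring
      _ = _ := by rw [k1, ← k2]; ring
  have a1 := eA (corootFn P a)
  have a2 := eA lam
  have c1 := hev (corootFn P a) h
  have c2 := hev (corootFn P a) h'
  simp only [corootFn_root, P.pairing_same] at a1 c1 c2
  have hppos : 0 < P.pairing b a := by
    rcases lt_or_gt_of_ne hd with hd' | hd'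
    · have : 0 < (p : ℤ) - p' := by nlinarith
      nlinarith
    · have : (p : ℤ) - p' < 0 := by nlinarith
      nlinarith
  have hA3 : 3 ≤ P.pairing c a := by nlinarith
  have hdvd : P.pairing c a ∣ 4 := ⟨_, hAx.symm⟩
  have h4 : P.pairing c a = 4 := by
    have h5 : P.pairing c a ≤ 4 := Int.le_of_dvd (by norm_num) hdvd
    rcases eq_or_lt_of_le hA3 with h6 | h6
    · rw [← h6] at hdvd; norm_num at hdvd
    · omega
  rw [h4] at c1 c2
  have : p = 1 ∧ p' = 1 := ⟨by nlinarith, by nlinarith⟩
  obtain ⟨rfl, rfl⟩ := this
  exact hne ⟨rfl, by nlinarith⟩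

end Groth.Agent.SplitGrp
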