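import Groth.Agent.RootData.Closed
import Groth.Agent.RootData.Simple
import Groth.Agent.SplitGrp.Functional
import Groth.Agent.SplitGrp.RootPair

/-!
# Closed sets of roots without opposite pairs
-/

namespace Groth.Agent.SplitGrp

open RootD RootData

variable {J M N : Type} [Fintype J] [AddCommGroup M] [AddCommGroup N] (P : RootPairing J ℤ M N)

/-- Non-negative combinations of a closed set of roots which are roots lie in the set. -/
theorem mem_of_comb {Ψ : Set J} (hcl : ∀ a b c : J, a ∈ Ψ → b ∈ Ψ → P.root a + P.root b = P.root c → c ∈ Ψ)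
    {c : J} {k : ℕ} (f : Fin k → J) (hf : ∀ i, f i ∈ Ψ) (d : Fin k → ℕ)
    (hc : P.root c = ∑ i, (d i : ℤ) • P.root (f i)) : c ∈ Ψ := by
  haveI := isCrystallographic P
  refine (closed_iff_natSpan (P := P)).1 (fun i j l hi hj hl => hcl i j l hi hj hl.symm) c ?_
  rw [hc]
  refine AddSubmonoid.sum_mem _ fun i _ => ?_
  rw [natCast_zsmul]
  exact AddSubmonoid.nsmul_mem _ (root_mem_natSpan (hf i)) _

/-- A closed set of roots without opposite pairs is positive for a functional. -/
theorem exists_functional_pos [Module.Free ℤ M] [Module.Finite ℤ M] (Ψ : Set J)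
    (hcl : ∀ a b c : J, a ∈ Ψ → b ∈ Ψ → P.root a + P.root b = P.root c → c ∈ Ψ)
    (hd : ∀ a b : J, a ∈ Ψ → P.root b = -P.root a → b ∉ Ψ) :
    ∃ lam : M →+ ℤ, (∀ a, lam (P.root a) ≠ 0) ∧ ∀ a ∈ Ψ, 0 < lam (P.root a) := by
  classical
  haveI := isCrystallographic P
  let Good : Set J → Prop := fun Φ => IsClosedSub P Φ ∧ ∀ i ∈ Φ, P.reflectionPerm i i ∉ Φ
  have hΨ : Good Ψ := ⟨fun i j l hi hj hl => hcl i j l hi hj hl.symm, fun i hi => hd i _ hi (root_neg P i)⟩
  obtain ⟨Φ, hΨΦ, hΦ⟩ := Set.Finite.exists_le_maximal (s := {Φ | Good Φ}) (Set.toFinite _) hΨ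
  have hpos : IsPosSys P Φ := by
    refine isPosSys_of_closed hΦ.1.2 (fun a => ?_) hΦ.1.1
    by_contra hh
    push Not at hh
    have key : ∀ x : J, x ∉ Φ → ∃ n : ℕ, 0 < n ∧ ∃ y ∈ natSpan P Φ, y + n • P.root x = 0 := by
      intro x hx
      by_contra hno
      let Φ' : Set J := {k | P.root k ∈ natSpan P (insert x Φ)}
      have hsub : Φ ⊆ Φ' := fun i hi => root_mem_natSpan (Set.mem_insert_of_mem x hi)
      have hg : Good Φ' := by
        refine ⟨fun i j l hi hj hl => ?_, fun i hi hi' => ?_⟩
        · show P.root l ∈ natSpan P (insert x Φ)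
          rw [hl]; exact add_mem hi hj
        · have hdec : ∀ z ∈ natSpan P (insert x Φ), ∃ y ∈ natSpan P Φ, ∃ n : ℕ, z = y + n • P.root x := by
            intro z hz
            induction hz using AddSubmonoid.closure_induction with
            | mem w hw =>
              obtain ⟨i, hi, rfl⟩ := hw
              rcases hi with rfl | hi
              · exact ⟨0, zero_mem _, 1, by simp⟩
              · exact ⟨_, root_mem_natSpan hi, 0, by simp⟩
            | zero => exact ⟨0, zero_mem _, 0, by simp⟩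
            | add u v _ _ hu hv =>
              obtain ⟨y, hy, n, rfl⟩ := hu; obtain ⟨y', hy', n', rfl⟩ := hv
              exact ⟨y + y', add_mem hy hy', n + n', by rw [add_smul]; abel⟩
          obtain ⟨y, hy, n, hn⟩ := hdec _ hi
          obtain ⟨y', hy', n', hn'⟩ := hdec _ hi'
          rw [root_neg] at hn'
          rcases Nat.eq_zero_or_pos (n + n') with h0 | h0
          · obtain ⟨rfl, rfl⟩ : n = 0 ∧ n' = 0 := by omega
            rw [zero_smul, add_zero] at hn hn'
            exact P.ne_zero i (pointed_add hΦ.1.1 hΦ.1.2 (hn ▸ hy) (hn' ▸ hy'))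
          · refine hno ⟨n + n', h0, y + y', add_mem hy hy', ?_⟩
            calc y + y' + (n + n') • P.root x = (y + n • P.root x) + (y' + n' • P.root x) := by rw [add_smul]; abel
              _ = 0 := by rw [← hn, ← hn', add_neg_cancel]
      exact hx (hΦ.2 hg hsub (root_mem_natSpan (Set.mem_insert x Φ)))
    obtain ⟨n, hn, y, hy, e⟩ := key a hh.1
    obtain ⟨n', hn', y', hy', e'⟩ := key _ hh.2
    rw [root_neg, smul_neg] at e'
    have h1 : n' • y + n • y' = 0 := by
      have e1 : y = -(n • P.root a) := eq_neg_of_add_eq_zero_left e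
      have e2 : y' = n' • P.root a := by rw [← sub_eq_zero, sub_eq_add_neg]; exact e'
      rw [e1, e2, smul_neg, smul_smul, smul_smul, mul_comm n n', neg_add_cancel]
    have h2 := pointed_add hΦ.1.1 hΦ.1.2 (nsmul_mem hy n') (by
      rw [neg_eq_of_add_eq_zero_right h1]; exact nsmul_mem hy' n)
    rw [eq_neg_of_add_eq_zero_left e, smul_neg, neg_eq_zero, smul_smul] at h2
    refine P.ne_zero a (zsmul_cancelM P (Int.natCast_ne_zero.mpr (Nat.mul_pos hn' hn).ne') ?_)
    rw [natCast_zsmul, h2, smul_zero]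
  have hsimp := indec_simple hpos
  have hgen : ∀ a ∈ Φ, P.root a ∈ natSpan P (indec P Φ) := fun a ha =>
    (posOf_indec hpos).symm.subset ha
  obtain ⟨l₁, hl₁⟩ := exists_pos_functional P.root (indec P Φ).toFinite.toFinset
    (by rw [Set.Finite.coe_toFinset]; exact hsimp.li)
  have key2 : ∀ z ∈ natSpan P (indec P Φ), z = 0 ∨ 0 < l₁ z := by
    intro z hz
    induction hz using AddSubmonoid.closure_induction with
    | mem w hw => obtain ⟨i, hi, rfl⟩ := hw; exact Or.inr (hl₁ i ((Set.Finite.mem_toFinset _).2 hi))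
    | zero => exact Or.inl rfl
    | add u v _ _ hu hv =>
      rcases hu with rfl | hu
      · simpa using hv
      · rcases hv with rfl | hv
        · simpa using Or.inr hu
        · exact Or.inr (by rw [map_add]; exact add_pos hu hv)
  obtain ⟨lam, h0, hp, -⟩ := exists_generic P.root (fun a => P.ne_zero a) l₁
  exact ⟨lam, h0, fun a ha => hp a ((key2 _ (hgen a (hΨΦ ha))).resolve_left (P.ne_zero a))⟩

end Groth.Agent.SplitGrp
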