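import Groth.Agent.SplitGrp.UnipProps
import Groth.Agent.SplitGrp.ClosedPos

/-!
# Subgroups attached to closed sets of roots of a split group
-/

universe u

open CategoryTheory CategoryTheory.Limits MonoidalCategory CartesianMonoidalCategory MonObj GrpObj AlgebraicGeometry

attribute [local instance] CategoryTheory.Hom.monoid CategoryTheory.Hom.group
set_option linter.style.haveILetI false
set_option linter.unusedSectionVars false

namespace Groth.Agent.SplitGrp

noncomputable section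

variable {S : Scheme.{u}} {G : Over S} [GrpObj G]

/-- An enumeration of a closed set of positive roots gives a subgroup. -/
theorem exists_closedPos (D : Red.SplitRed G) {Ψ : Set D.idx}
    (hcl : ∀ a b c : D.idx, a ∈ Ψ → b ∈ Ψ → D.P.root a + D.P.root b = D.P.root c → c ∈ Ψ)
    (lam : D.M →+ ℤ) (hlam : ∀ a, lam (D.P.root a) ≠ 0) (hpos : ∀ a ∈ Ψ, 0 < lam (D.P.root a))
    {p : ℕ} (a : Fin p → D.idx) (ha : RedSub.Enumerates Ψ a) :
    ∃ (n q : ℕ) (e : Fin n → D.idx) (b : Fin q → D.idx), IsClosedPos (D := ofSplit D) lam e a b := by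
  obtain ⟨n, q, e, b, hf⟩ := exists_isFull_extend (D := ofSplit D) hlam a ha.1 fun l => hpos _ (ha.2.le ⟨l, rfl⟩)
  exact ⟨n, q, e, b, hf, fun f c d hc => ha.2.ge (mem_of_comb D.P hcl (fun i => a (f i))
    (fun i => ha.2.le ⟨f i, rfl⟩) d hc)⟩

theorem exists_closedPos' (D : Red.SplitRed G) {Ψ : Set D.idx}
    (hcl : ∀ a b c : D.idx, a ∈ Ψ → b ∈ Ψ → D.P.root a + D.P.root b = D.P.root c → c ∈ Ψ)
    (hneg : ∀ a b : D.idx, a ∈ Ψ → D.P.root b = -D.P.root a → b ∉ Ψ) {p : ℕ} (a : Fin p → D.idx)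
    (ha : RedSub.Enumerates Ψ a) :
    ∃ (lam : D.M →+ ℤ) (n q : ℕ) (e : Fin n → D.idx) (b : Fin q → D.idx), IsClosedPos (D := ofSplit D) lam e a b := by
  obtain ⟨lam, h0, hp⟩ := exists_functional_pos D.P Ψ hcl hneg
  exact ⟨lam, exists_closedPos D hcl lam h0 hp a ha⟩

theorem exists_enum {J : Type} [Fintype J] (Ψ : Set J) : ∃ (p : ℕ) (a : Fin p → J), RedSub.Enumerates Ψ a := by
  classical
  refine ⟨_, fun l => ((Fintype.equivFin Ψ).symm l).1, Subtype.val_injective.comp (Equiv.injective _), ?_⟩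
  ext x
  exact ⟨fun ⟨l, hl⟩ => hl ▸ ((Fintype.equivFin Ψ).symm l).2, fun hx => ⟨Fintype.equivFin Ψ ⟨x, hx⟩, by simp⟩⟩

theorem split_comp_j (D : Red.SplitRed G) {X : Over S} (t : X ⟶ D.T) :
    (t ≫ D.split.hom.hom.hom) ≫ (ofSplit D).j = t ≫ D.i := by
  show (t ≫ D.split.hom.hom.hom) ≫ D.split.inv.hom.hom ≫ D.i = t ≫ D.i
  erw [Category.assoc, ← Category.assoc D.split.hom.hom.hom,
    show D.split.hom.hom.hom ≫ D.split.inv.hom.hom = 𝟙 _ from congrArg (fun m => m.hom.hom) D.split.hom_inv_id,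
    Category.id_comp]

variable {D : Sys G} {lam lam' : D.M →+ ℤ} {n n' p p' q q' : ℕ} {e : Fin n → D.idx} {e' : Fin n' → D.idx}
  {a : Fin p → D.idx} {a' : Fin p' → D.idx} {b : Fin q → D.idx} {b' : Fin q' → D.idx}

theorem IsClosedPos.exists_reorder (h : IsClosedPos lam e a b) (hsub : Set.range a' ⊆ Set.range a) {X : Over S}
    (v : Fin p' → Γ(X.left, ⊤)) : ∃ w, D.Prod a' v = D.Prod a w := by
  choose σ hσ using fun i => hsub ⟨i, rfl⟩
  obtain ⟨w, hw⟩ := h.exists_word σ v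
  exact ⟨w, by rw [← hw]; congr 1; funext i; exact (hσ i).symm⟩

theorem IsClosedPos.exists_iso (h : IsClosedPos lam e a b) (h' : IsClosedPos lam' e' a' b')
    (heq : Set.range a' = Set.range a) :
    ∃ ψ : RedSub.pow (Red.Ga S) p' ≅ RedSub.pow (Red.Ga S) p, ψ.hom ≫ vmap a = vmap a' := by
  haveI := h.mono_vmap
  haveI := h'.mono_vmap
  obtain ⟨w, hw⟩ := h.exists_reorder heq.le (coord (𝟙 (RedSub.pow (Red.Ga S) p')))
  obtain ⟨w', hw'⟩ := h'.exists_reorder heq.ge (coord (𝟙 (RedSub.pow (Red.Ga S) p)))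
  have h1 : ofCoord w ≫ vmap a = vmap a' := by rw [ofCoord_vmap, ← hw, ← comp_vmap, Category.id_comp]
  have h2 : ofCoord w' ≫ vmap a' = vmap a := by rw [ofCoord_vmap, ← hw', ← comp_vmap, Category.id_comp]
  exact ⟨⟨ofCoord w, ofCoord w', by rw [← cancel_mono (vmap a'), Category.assoc, h2, h1, Category.id_comp],
    by rw [← cancel_mono (vmap a), Category.assoc, h1, h2, Category.id_comp]⟩, h1⟩

theorem IsClosedPos.isClosedImmersion_incl (h : IsClosedPos lam e a b) : IsClosedImmersion h.incl.left :=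
  h.isClosedImmersion

theorem IsClosedPos.smooth (h : IsClosedPos lam e a b) : Smooth (UObj h).hom := smooth_pow p

theorem IsClosedPos.connected (h : IsClosedPos lam e a b) {K : Type u} [Field K] [IsAlgClosed K]
    (k : Spec (CommRingCat.of K) ⟶ S) : ConnectedSpace ↥(Red.bc k (UObj h)).left := goodFibres_pow k p

theorem IsClosedPos.exists_conj_torus (h : IsClosedPos lam e a b) {X : Over S} (t : X ⟶ Red.DS S D.M)
    (x : X ⟶ UObj h) : ∃ x' : X ⟶ UObj h, (t ≫ D.j) * (x ≫ h.incl) * (t ≫ D.j)⁻¹ = x' ≫ h.incl := by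
  rw [← h.Prod_cd, conj_Prod]
  exact ⟨ofCoord _, (ofCoord_vmap _).symm⟩

end

end Groth.Agent.SplitGrp
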