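import Groth.Agent.SplitGrp.Psi

/-!
# The filtration of a unipotent subgroup by levels
-/

universe u

open CategoryTheory CategoryTheory.Limits MonoidalCategory CartesianMonoidalCategory MonObj GrpObj AlgebraicGeometry

attribute [local instance] CategoryTheory.Hom.monoid CategoryTheory.Hom.group
set_option linter.style.haveILetI false
set_option linter.unusedSectionVars false

namespace Groth.Agent.SplitGrp

noncomputable section

variable {S : Scheme.{u}} {G : Over S} [GrpObj G] {D : Sys G} {lam : D.M →+ ℤ} {n m k q : ℕ} {e : Fin n → D.idx}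
  {a₀ : Fin m → D.idx} {a₂ : Fin k → D.idx} {b : Fin q → D.idx}

/-- An upper piece after a lowest level. -/
structure IsLevel (lam : D.M →+ ℤ) (e : Fin n → D.idx) (a₀ : Fin m → D.idx) (a₂ : Fin k → D.idx)
    (b : Fin q → D.idx) (N : ℤ) : Prop where
  closed : IsClosedPos lam e (Fin.append a₀ a₂) b
  low : ∀ l, lam (D.r (a₀ l)) = N
  high : ∀ l, N < lam (D.r (a₂ l))

variable {N : ℤ} (h : IsLevel lam e a₀ a₂ b N)
include h

theorem IsLevel.low_vanish {α : Type*} [Zero α] (v : Fin (m + k) → α) (i : Fin m) (j : Fin (m + k))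
    (hj : lam (D.r (Fin.append a₀ a₂ j)) < lam (D.r (Fin.append a₀ a₂ (Fin.castAdd k i)))) : v j = 0 := by
  exfalso
  rw [Fin.append_left, h.low] at hj
  revert hj
  refine Fin.addCases (fun l hl => ?_) (fun l hl => ?_) j
  · rw [Fin.append_left, h.low] at hl; omega
  · rw [Fin.append_right] at hl; have := h.high l; omega

/-- The lowest coordinates are additive. -/
theorem IsLevel.lead_mul {X : Over S} (v v' w : Fin (m + k) → Γ(X.left, ⊤))
    (hw : D.Prod (Fin.append a₀ a₂) v * D.Prod (Fin.append a₀ a₂) v' = D.Prod (Fin.append a₀ a₂) w) (i : Fin m) :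
    w (Fin.castAdd k i) = v (Fin.castAdd k i) + v' (Fin.castAdd k i) :=
  h.closed.coord_mul v v' w hw _ (fun j hj => h.low_vanish v i j hj) (fun j hj => h.low_vanish v' i j hj)

theorem IsLevel.lead_inv {X : Over S} (v w : Fin (m + k) → Γ(X.left, ⊤))
    (hw : (D.Prod (Fin.append a₀ a₂) v)⁻¹ = D.Prod (Fin.append a₀ a₂) w) (i : Fin m) :
    w (Fin.castAdd k i) = -v (Fin.castAdd k i) := by
  have h1 := h.lead_mul v w (fun _ => 0) (by rw [Prod_zero, ← hw, mul_inv_cancel]) i
  exact eq_neg_of_add_eq_zero_right h1.symm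

theorem IsLevel.lead_conj {X : Over S} (v v' w : Fin (m + k) → Γ(X.left, ⊤))
    (hw : D.Prod (Fin.append a₀ a₂) v * D.Prod (Fin.append a₀ a₂) v' * (D.Prod (Fin.append a₀ a₂) v)⁻¹ =
      D.Prod (Fin.append a₀ a₂) w) (i : Fin m) :
    w (Fin.castAdd k i) = v' (Fin.castAdd k i) := by
  obtain ⟨z, hz⟩ := h.closed.exists_mul v v'
  obtain ⟨z', hz'⟩ := h.closed.exists_inv v
  rw [hz, hz'] at hw
  rw [h.lead_mul z z' w hw i, h.lead_mul v v' z hz i, h.lead_inv v z' hz' i]
  abel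

/-- An element with vanishing lowest coordinates lies in the upper piece. -/
theorem IsLevel.exists_upper {X : Over S} (w : Fin (m + k) → Γ(X.left, ⊤))
    (hw : ∀ i, w (Fin.castAdd k i) = 0) :
    D.Prod (Fin.append a₀ a₂) w = D.Prod a₂ (fun l => w (Fin.natAdd m l)) := by
  have h1 : w = Fin.append (fun _ => 0) (fun l => w (Fin.natAdd m l)) :=
    funext fun l => Fin.addCases (fun i => by simp [hw i]) (fun i => by simp) l
  conv_lhs => rw [h1, Prod_append, Prod_zero]
  exact _root_.one_mul _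

omit h in
theorem Prod_upper (a₀ : Fin m → D.idx) {X : Over S} (v : Fin k → Γ(X.left, ⊤)) :
    D.Prod a₂ v = D.Prod (Fin.append a₀ a₂) (Fin.append (fun _ => 0) v) := by
  rw [Prod_append, Prod_zero]
  exact (_root_.one_mul _).symm

/-- The upper piece is normal. -/
theorem IsLevel.exists_conj {X : Over S} (v : Fin (m + k) → Γ(X.left, ⊤)) (v' : Fin k → Γ(X.left, ⊤)) :
    ∃ w, D.Prod (Fin.append a₀ a₂) v * D.Prod a₂ v' * (D.Prod (Fin.append a₀ a₂) v)⁻¹ = D.Prod a₂ w := by
  obtain ⟨z, hz⟩ := h.closed.exists_mul v (Fin.append (fun _ => 0) v')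
  obtain ⟨z', hz'⟩ := h.closed.exists_inv v
  obtain ⟨w, hw⟩ := h.closed.exists_mul z z'
  have h1 : D.Prod (Fin.append a₀ a₂) v * D.Prod a₂ v' * (D.Prod (Fin.append a₀ a₂) v)⁻¹ =
      D.Prod (Fin.append a₀ a₂) w := by rw [Prod_upper a₀ v', hz, hz', hw]
  refine ⟨_, h1.trans (h.exists_upper w fun i => ?_)⟩
  rw [Prod_upper a₀ v'] at h1
  rw [h.lead_conj v _ w h1 i]
  simp

/-- The lowest level commutes modulo the upper piece. -/
theorem IsLevel.exists_commutator {X : Over S} (v v' : Fin (m + k) → Γ(X.left, ⊤)) :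
    ∃ w, D.Prod (Fin.append a₀ a₂) v * D.Prod (Fin.append a₀ a₂) v' * (D.Prod (Fin.append a₀ a₂) v)⁻¹ *
      (D.Prod (Fin.append a₀ a₂) v')⁻¹ = D.Prod a₂ w := by
  obtain ⟨z, hz⟩ := h.closed.exists_mul v v'
  obtain ⟨z', hz'⟩ := h.closed.exists_inv v
  obtain ⟨z₂, hz₂⟩ := h.closed.exists_mul z z'
  obtain ⟨y, hy⟩ := h.closed.exists_inv v'
  obtain ⟨w, hw⟩ := h.closed.exists_mul z₂ y
  refine ⟨_, (by rw [hz, hz', hz₂, hy, hw] : _ = D.Prod (Fin.append a₀ a₂) w).trans (h.exists_upper w fun i => ?_)⟩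
  rw [h.lead_mul z₂ y w hw i, h.lead_conj v v' z₂ (by rw [hz, hz', hz₂]) i, h.lead_inv v' y hy i, add_neg_cancel]

end

end Groth.Agent.SplitGrp
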