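import Groth.Agent.SplitGrp.BorelMax

/-!
# The fibres of `T U` are Borel subgroups
-/

universe u

open CategoryTheory CategoryTheory.Limits MonoidalCategory CartesianMonoidalCategory MonObj GrpObj AlgebraicGeometry

attribute [local instance] CategoryTheory.Hom.monoid CategoryTheory.Hom.group
set_option linter.style.haveILetI false
set_option linter.unusedSectionVars false

namespace Groth.Agent.SplitGrp

open Deform.Chev (Pt pimg)

noncomputable section

variable {S : Scheme.{u}} {G : Over S} [GrpObj G] {D : Sys G} {lam : D.M →+ ℤ} {n p r : ℕ} {e : Fin n → D.idx}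
  {a : Fin p → D.idx} {b : Fin r → D.idx}

set_option maxHeartbeats 1000000 in
theorem IsClosedPos.isBorelOver (h : IsClosedPos lam e a b) (hall : ∀ d, 0 < lam (D.r d) → d ∈ Set.range a)
    (hred : NoProp D) (hnu : ∀ d, ∃ nu : D.M →+ ℤ, nu (D.r d) = 2) {K : Type u} [Field K] [IsAlgClosed K]
    (q : Spec (CommRingCat.of K) ⟶ S) (hG : Red.IsReductiveOver K (Red.bc q G)) :
    Red.IsBorelOver K ((Over.pullback q).map h.bincl) := by
  classical
  haveI := hG.1; haveI := hG.2.1; haveI := hG.2.2.1
  haveI := h.isClosedImmersion_bincl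
  haveI := h.smooth_BObj
  haveI := h.connected_BObj q
  haveI : IsClosedImmersion ((Over.pullback q).map h.bincl).left := MorphismProperty.of_isPullback
    (Deform.Extension.isPullback_map_left q h.bincl).flip ‹IsClosedImmersion h.bincl.left›
  haveI : Smooth (Red.bc q (BObj h)).hom := inferInstanceAs (Smooth (pullback.snd (BObj h).hom q))
  refine ⟨inferInstance, inferInstance, inferInstance, inferInstance,
    Deform.Luna.isSolvableGrp_bc q h.isSolvableGrp_BObj, fun B' _ i' _ f hic hBs hBc hBsol hf => ?_⟩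
  haveI := hic; haveI := hBs; haveI := hBc
  let iK : Red.bc q (BObj h) ⟶ Red.bc q G := (Over.pullback q).map h.bincl
  haveI : IsClosedImmersion iK.left := inferInstanceAs (IsClosedImmersion ((Over.pullback q).map h.bincl).left)
  haveI : Group.IsSolvable (Pt B') := Deform.Borel.isSolvable_pts_of_grp hBsol
  have hlift : ∀ (Y : Over (Spec (CommRingCat.of K))) (t : (Over.map q).obj Y ⟶ Red.DS S D.M)
      (v : Fin p → Γ(((Over.map q).obj Y).left, ⊤)),
      ∃ x : Y ⟶ B', DSPtsLib.theta q (x ≫ i') = (t ≫ D.j) * D.Prod a v := fun Y t v => by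
    obtain ⟨y, hy⟩ := h.exists_of_pt t v
    obtain ⟨y', hy'⟩ := (DSPtsLib.theta_bijective (H := BObj h) q).surjective y
    refine ⟨y' ≫ f, ?_⟩
    rw [Category.assoc, hf, Deform.Luna.theta_comp_map, hy', hy]
  have hT : HasTorus D i' := fun Y t => by
    obtain ⟨x, hx⟩ := hlift Y t (fun _ => 0)
    exact ⟨x, by rw [hx, Prod_zero, _root_.mul_one]⟩
  have hpos : ∀ d, 0 < lam (D.r d) → ∀ y, D.U d (sec q y) ∈ (ptsHom i').range := fun d hd y => by
    obtain ⟨l, rfl⟩ := hall d hd
    obtain ⟨x, hx⟩ := hlift (𝟙_ _) (1 : pX q ⟶ Red.DS S D.M) (Pi.single l (sec q y))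
    refine ⟨x, hx.trans ?_⟩
    rw [Prod_single]
    exact (congrArg (· * D.U (a l) (sec q y)) (MonObj.one_comp (D.j) (X := pX q))).trans (_root_.one_mul _)
  have hnoneg : ∀ v : Fin n → K, D.Prod e (fun l => sec q (v l)) ∈ (ptsHom i').range → v = 0 := fun v hv => by
    by_contra hne
    obtain ⟨l, x, hx, hmem⟩ := exists_single hT hred h.full.inj h.full.neg v hne hv
    obtain ⟨nu, hn⟩ := hnu (e l)
    exact false_of_rootGroup h.full hred hG hT hpos (h.full.neg l) nu hn (mem_of_mem_U hT _ nu hn hx hmem)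
  -- points of the open cell
  haveI := h.full.isOpenImmersion
  let cK := (Over.pullback q).map (D.cell e (Fin.append a b))
  haveI : IsOpenImmersion cK.left := MorphismProperty.of_isPullback
    (Deform.Extension.isPullback_map_left q (D.cell e (Fin.append a b))).flip
    ‹IsOpenImmersion (D.cell e (Fin.append a b)).left›
  let U : Set B'.left := i'.left ⁻¹' Set.range cK.left
  have hU : IsOpen U := cK.left.isOpenEmbedding.isOpen_range.preimage i'.left.continuous
  have hptU : ∀ x : Pt B', pimg x ∈ U → pimg (x ≫ i') ∈ Set.range iK.left := fun x hx => by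
    obtain ⟨c, hc⟩ := exists_lift cK (x ≫ i') (by
      rintro _ ⟨P, rfl⟩
      obtain rfl : P = IsLocalRing.closedPoint K := Subsingleton.elim (α := PrimeSpectrum K) _ _
      exact hx)
    obtain ⟨v, t, w, hc'⟩ := exists_cellPt D (show pX q ⟶ cellOb D n (p + r) from DSPtsLib.theta q c)
    have hg : DSPtsLib.theta q (x ≫ i') = cellPt D v t w ≫ D.cell e (Fin.append a b) := by
      rw [← hc, Deform.Luna.theta_comp_map, ← hc']
      rfl
    haveI : IsEmpty (Fin r) := ⟨fun j => by
      obtain ⟨i, hi⟩ := hall (b j) (by simpa using h.full.pos (Fin.natAdd p j))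
      have h1 : Fin.castAdd r i = Fin.natAdd p j := h.full.inj' (by
        rw [Fin.append_left, Fin.append_right]; exact hi)
      have h2 := congrArg Fin.val h1
      simp only [Fin.val_castAdd, Fin.val_natAdd] at h2
      omega⟩
    have hw : D.Prod (Fin.append a b) w = D.Prod a (fun i => w (Fin.castAdd r i)) := by
      conv_lhs => rw [show w = Fin.append (fun i => w (Fin.castAdd r i)) (fun _ => 0) from
        funext fun l => Fin.addCases (fun i => by simp) (fun j => isEmptyElim j) l]
      rw [Prod_append, Prod_zero]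
      exact _root_.mul_one _
    have hmemw : (t ≫ D.j) * D.Prod (Fin.append a b) w ∈ (ptsHom i').range := by
      rw [hw]
      exact (hlift (𝟙_ _) t _).imp fun _ hx => hx
    obtain ⟨v₀, hv₀⟩ := exists_sec q v
    have hv : D.Prod e v ∈ (ptsHom i').range := by
      have h1 : DSPtsLib.theta q (x ≫ i') ∈ (ptsHom i').range := ⟨x, rfl⟩
      rw [hg, cellPt_cell] at h1
      exact (Subgroup.mul_mem_cancel_right _ hmemw).1 h1
    rw [hv₀] at hv hg
    rw [show v₀ = 0 from hnoneg v₀ hv, cellPt_cell, hw,
      show (fun l => sec q ((0 : Fin n → K) l)) = fun _ => 0 from funext fun _ => map_zero _, Prod_zero,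
      _root_.one_mul] at hg
    obtain ⟨y, hy⟩ := h.exists_of_pt t (fun i => w (Fin.castAdd r i))
    obtain ⟨y', hy'⟩ := (DSPtsLib.theta_bijective (H := BObj h) q).surjective
      (show (Over.map q).obj (𝟙_ (Over (Spec (CommRingCat.of K)))) ⟶ _ from y)
    refine ⟨pimg y', ?_⟩
    rw [← Deform.Chev.pimg_comp]
    congr 1
    refine (DSPtsLib.theta_bijective q).injective ?_
    rw [Deform.Luna.theta_comp_map, hy', hg, ← hy]
    rfl
  haveI : IsAffine B'.left := isAffine_of_isAffineHom i'.left
  haveI : IsAffineHom B'.hom := isAffineHom_of_isAffine _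
  haveI : QuasiCompact B'.hom := inferInstance
  haveI : IsIntegral B'.left := GrpSchLib.Kunneth.isIntegral_grp B'
  have hUne : pimg (1 : Pt B') ∈ U := by
    obtain ⟨x₀, hx₀⟩ := (DSPtsLib.theta_bijective (H := cellOb D n (p + r)) q).surjective
      (show (Over.map q).obj (𝟙_ (Over (Spec (CommRingCat.of K)))) ⟶ _ from
        cellPt D (n := n) (m := p + r) (X := pX q) 0 1 0)
    refine Set.mem_preimage.2 ⟨pimg x₀, ?_⟩
    rw [← Deform.Chev.pimg_comp, ← Deform.Chev.pimg_comp, MonObj.one_comp]
    congr 1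
    refine (DSPtsLib.theta_bijective q).injective ?_
    rw [Deform.Luna.theta_comp_map, hx₀, GrpSchLib.RankOne.theta_one]
    exact (torus_factor D e _ (X := pX q) 1).trans (MonObj.one_comp _)
  have hr : Set.range i'.left ⊆ Set.range iK.left := by
    have hC : IsClosed (i'.left ⁻¹' Set.range iK.left) :=
      iK.left.isClosedEmbedding.isClosed_range.preimage i'.left.continuous
    have hUC : U ⊆ i'.left ⁻¹' Set.range iK.left := fun P hP => by
      by_contra hPC
      obtain ⟨x, hx⟩ := Deform.Chev.exists_pt (G := B') (S := U ∩ (i'.left ⁻¹' Set.range iK.left)ᶜ) ⟨P, hP, hPC⟩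
        (hU.inter hC.isOpen_compl).isLocallyClosed
      exact hx.2 (hptU x hx.1)
    rintro _ ⟨P, rfl⟩
    exact closure_minimal hUC hC ((hU.dense ⟨_, hUne⟩) P)
  haveI : IsReduced B'.left := GrpSchLib.isReduced_of_smooth_field B'.hom
  obtain ⟨ρ, hρ⟩ := Deform.Chev.exists_lift_range iK i' hr
  haveI : Mono iK := (Over.forget _).mono_of_mono_map (inferInstanceAs (Mono iK.left))
  haveI : Mono i' := (Over.forget _).mono_of_mono_map (inferInstanceAs (Mono i'.left))
  exact ⟨ρ, by rw [← cancel_mono iK, Category.assoc, hρ, hf, Category.id_comp],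
    by rw [← cancel_mono i', Category.assoc, hf, hρ, Category.id_comp]⟩

/-- `T U` is a Borel subgroup. -/
theorem IsClosedPos.isBorel (h : IsClosedPos lam e a b) (hall : ∀ d, 0 < lam (D.r d) → d ∈ Set.range a)
    (hred : NoProp D) (hnu : ∀ d, ∃ nu : D.M →+ ℤ, nu (D.r d) = 2) : Red.IsBorel h.bincl :=
  ⟨inferInstance, h.isClosedImmersion_bincl, h.smooth_BObj,
    fun s => h.isBorelOver hall hred hnu (Red.geomPt s) (D.reductive.2.2 s)⟩

end

end Groth.Agent.SplitGrp
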