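import Groth.Agent.RootData.Weyl
import Mathlib.LinearAlgebra.RootSystem.Base
import Groth.Agent.SplitGrp.RootPair

/-!
# Root data with a base are reduced
-/

namespace Groth.Agent.SplitGrp

open RootD RootData

variable {J M N : Type} [Fintype J] [AddCommGroup M] [AddCommGroup N] (P : RootPairing J ℤ M N) (b : P.Base)

include b in
/-- No root is twice another. -/
theorem two_smul_root_ne {i j : J} : P.root j ≠ (2 : ℤ) • P.root i := fun h => by
  haveI := isCrystallographic P
  haveI := torsionFreeM P
  haveI := torsionFreeN P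
  have hind : IsIndiv P i := fun k hk => by
    have h1 := congrArg (corootFn P j) h
    have h2 := congrArg (corootFn P j) hk
    simp only [map_zsmul, corootFn_root, P.pairing_same, smul_eq_mul] at h1 h2
    omega
  obtain ⟨g, -, a, ha, hga⟩ := (Simple.of_base b).indiv_conj hind
  have h3 := smul_two_root g⁻¹ h
  rw [show g⁻¹ • i = a by rw [← hga, inv_smul_smul]] at h3
  rcases b.eq_one_or_neg_one_of_mem_support_of_smul_mem a (Finset.mem_coe.1 ha) 2 ⟨_, h3⟩ with h4 | h4 <;> omega

include b in
/-- Proportional roots are equal or opposite. -/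
theorem eq_or_eq_neg_of_smul {i j : J} {m n : ℤ} (hm : m ≠ 0) (h : m • P.root i = n • P.root j) :
    P.root i = P.root j ∨ P.root i = -P.root j := by
  haveI := torsionFreeM P
  have h1 := congrArg (corootFn P i) h
  have h2 := congrArg (corootFn P j) h
  simp only [map_zsmul, corootFn_root, P.pairing_same, smul_eq_mul] at h1 h2
  have hn : n ≠ 0 := fun hn => by rw [hn, zero_mul] at h1; omega
  have h4 : P.pairing i j * P.pairing j i = 4 :=
    mul_left_cancel₀ (mul_ne_zero hm hn) (by linear_combination (n * P.pairing j i) * h2 - (n * 2) * h1)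
  have hdvd : P.pairing i j ∣ 4 := ⟨_, h4.symm⟩
  have hle : P.pairing i j ≤ 4 := Int.le_of_dvd (by norm_num) hdvd
  have hge : -4 ≤ P.pairing i j := by
    have := Int.le_of_dvd (by norm_num) ((neg_dvd).2 hdvd)
    omega
  have hc : ∀ c : ℤ, n = m * c → P.root i = c • P.root j := fun c hc =>
    zsmul_cancelM P hm (by rw [h, hc, mul_zsmul])
  have hc' : ∀ c : ℤ, m = n * c → P.root j = c • P.root i := fun c hc =>
    zsmul_cancelM P hn (by rw [← h, hc, mul_zsmul])
  have hneg : ∀ k : J, P.root (P.reflectionPerm k k) = -P.root k := root_neg P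
  interval_cases hp : P.pairing i j <;> try (norm_num at hdvd)
  · exact absurd (by rw [hneg, hc (-2) (by omega), neg_smul, neg_neg]) (two_smul_root_ne P b (i := j) (j := P.reflectionPerm i i))
  · exact Or.inr (by rw [hc (-1) (by omega), neg_smul, one_smul])
  · exact absurd (by rw [hneg, hc' (-2) (by omega), neg_smul, neg_neg]) (two_smul_root_ne P b (i := i) (j := P.reflectionPerm j j))
  · exact absurd (hc' 2 (by omega)) (two_smul_root_ne P b)
  · exact Or.inl (by rw [hc 1 (by omega), one_smul])
  · exact absurd (hc 2 (by omega)) (two_smul_root_ne P b)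

end Groth.Agent.SplitGrp
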