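import Groth.Agent.SplitGrp.Full
import Groth.Agent.GrpSchLib.RankOneDense
import Mathlib.AlgebraicGeometry.Sites.Fpqc

/-!
# Extending maps from the big cell to homomorphisms
-/

universe u

open CategoryTheory CategoryTheory.Limits MonoidalCategory CartesianMonoidalCategory MonObj GrpObj AlgebraicGeometry

attribute [local instance] CategoryTheory.Hom.monoid CategoryTheory.Hom.group
set_option linter.style.haveILetI false
set_option linter.unusedSectionVars false

namespace Groth.Agent.SplitGrp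

noncomputable section

variable {S : Scheme.{u}} {G : Over S} [GrpObj G] {D : Sys G} {n m : ℕ} {e : Fin n → D.idx} {e' : Fin m → D.idx}
  {lam : D.M →+ ℤ}

/-- Locally, finitely many points can be moved into the big cell by one point of the big cell. -/
theorem exists_translate (h : IsFull lam e e') {X : Over S} {k : ℕ} (a : Fin k → (X ⟶ G)) :
    ∃ (Z : Over S) (p : Z ⟶ X) (w : Z ⟶ cellOb D n m) (z : Fin k → (Z ⟶ cellOb D n m)), Epi p ∧
      ∀ i, z i ≫ D.cell e e' = (p ≫ a i) * (w ≫ D.cell e e') := by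
  haveI := h.isOpenImmersion
  haveI : Smooth G.hom := D.reductive.2.1
  let Ω := (D.cell e e').left.opensRange
  let mm : Fin k → (X ⊗ G ⟶ G) := fun i => (fst _ _ ≫ a i) * snd _ _
  let W : (X ⊗ G).left.Opens := ⟨(snd X G).left ⁻¹' (Ω : Set G.left) ∩ ⋂ i, (mm i).left ⁻¹' (Ω : Set G.left),
    (Ω.2.preimage (snd X G).left.continuous).inter
      (isOpen_iInter_of_finite fun i => Ω.2.preimage (mm i).left.continuous)⟩
  have hW : ∀ z, z ∈ W ↔ (snd X G).left z ∈ Ω ∧ ∀ i, (mm i).left z ∈ Ω := fun z =>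
    and_congr Iff.rfl Set.mem_iInter
  let Z : Over S := Over.mk (W.ι ≫ (X ⊗ G).hom)
  let inc : Z ⟶ X ⊗ G := Over.homMk W.ι rfl
  have hsub : ∀ f : X ⊗ G ⟶ G, (∀ z ∈ W, f.left z ∈ Ω) → Set.range (inc ≫ f).left ⊆ Set.range (D.cell e e').left := by
    rintro f hf _ ⟨z, rfl⟩
    rw [Over.comp_left, Scheme.Hom.comp_apply]
    exact hf _ z.2
  obtain ⟨w, hw⟩ := exists_lift (D.cell e e') (inc ≫ snd X G) (hsub _ fun z hz => ((hW z).1 hz).1)
  choose zz hzz using fun i => exists_lift (D.cell e e') (inc ≫ mm i) (hsub _ fun z hz => ((hW z).1 hz).2 i)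
  refine ⟨Z, inc ≫ fst _ _, w, zz, ?_, fun i => by
    rw [hzz, hw, MonObj.comp_mul, Category.assoc]⟩
  haveI : Flat (W.ι ≫ (fst X G).left) := by
    haveI : Flat (fst X G).left := inferInstanceAs (Flat (pullback.fst X.hom G.hom))
    infer_instance
  haveI : Surjective (W.ι ≫ (fst X G).left) := by
    refine ⟨fun x₀ => ?_⟩
    let K := AlgebraicClosure (X.left.residueField x₀)
    let geo : Spec (CommRingCat.of K) ⟶ X.left := Red.geomPt x₀
    let b := geo ≫ X.hom
    let ξ : Over.mk b ⟶ X := Over.homMk geo rfl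
    haveI := GrpSchLib.RankOne.irreducible_fibre D.reductive b
    haveI : IrreducibleSpace ↥(Over.mk b ⊗ G).left :=
      (pullbackSymmetry b G.hom).hom.homeomorph.irreducibleSpace_iff.mpr inferInstance
    have hone : (1 : Over.mk b ⟶ G).left (IsLocalRing.closedPoint K) ∈ Ω := by
      have h1 := (torus_factor D e e' (1 : Over.mk b ⟶ Red.DS S D.M)).trans (MonObj.one_comp D.j)
      exact range_subset_of_comp _ h1 ⟨(IsLocalRing.closedPoint K : PrimeSpectrum K), rfl⟩
    have key : ∀ (f : X ⊗ G ⟶ G) (g₀ : Over.mk b ⟶ G), lift ξ g₀ ≫ f = 1 →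
        f.left ((ξ ▷ G).left (genericPoint ↥(Over.mk b ⊗ G).left)) ∈ Ω := fun f g₀ hg₀ => by
      let U : (Over.mk b ⊗ G).left.Opens := ((ξ ▷ G) ≫ f).left ⁻¹ᵁ Ω
      have h2 : (lift (𝟙 _) g₀).left (IsLocalRing.closedPoint K) ∈ U := by
        show ((ξ ▷ G) ≫ f).left ((lift (𝟙 _) g₀).left (IsLocalRing.closedPoint K)) ∈ Ω
        rw [← Scheme.Hom.comp_apply, ← Over.comp_left, ← Category.assoc,
          show lift (𝟙 _) g₀ ≫ (ξ ▷ G) = lift ξ g₀ from by ext <;> simp, hg₀]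
        exact hone
      have h3 := ((genericPoint_spec _).mem_open_set_iff U.isOpen).2 ⟨_, trivial, h2⟩
      change ((ξ ▷ G) ≫ f).left (genericPoint ↥(Over.mk b ⊗ G).left) ∈ Ω at h3
      rwa [Over.comp_left, Scheme.Hom.comp_apply] at h3
    refine ⟨⟨(ξ ▷ G).left (genericPoint ↥(Over.mk b ⊗ G).left), (hW _).2 ⟨key _ 1 (by rw [lift_snd]), fun i =>
      key _ (ξ ≫ a i)⁻¹ (by simp [mm, MonObj.comp_mul])⟩⟩, ?_⟩
    rw [Scheme.Hom.comp_apply]
    show ((ξ ▷ G).left ≫ (fst X G).left) _ = x₀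
    rw [← Over.comp_left, whiskerRight_fst, Over.comp_left, Scheme.Hom.comp_apply]
    exact Scheme.fromSpecResidueField_apply x₀ _
  haveI : Epi (inc ≫ fst X G).left := by
    show Epi (W.ι ≫ (fst X G).left)
    exact Flat.epi_of_flat_of_surjective _
  exact (Over.forget S).epi_of_epi_map ‹Epi (inc ≫ fst X G).left›

variable {H : Over S} [GrpObj H] (f : cellOb D n m ⟶ H)

/-- A map from the big cell which is multiplicative where this makes sense. -/
def IsCellHom (e : Fin n → D.idx) (e' : Fin m → D.idx) : Prop :=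
  ∀ (X : Over S) (x y z : X ⟶ cellOb D n m),
    z ≫ D.cell e e' = (x ≫ D.cell e e') * (y ≫ D.cell e e') → z ≫ f = (x ≫ f) * (y ≫ f)

variable {f}

/-- Two factorisations of the same element give the same value. -/
theorem eq_of_three (h : IsFull lam e e') (hf : IsCellHom f e e') {X : Over S} (x y y' a b : X ⟶ cellOb D n m)
    (heq : (x ≫ D.cell e e') * ((y ≫ D.cell e e') * (y' ≫ D.cell e e')) =
      (a ≫ D.cell e e') * (b ≫ D.cell e e')) :
    (x ≫ f) * ((y ≫ f) * (y' ≫ f)) = (a ≫ f) * (b ≫ f) := by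
  let c := D.cell e e'
  obtain ⟨Z, p, w, z, hp, hz⟩ := exists_translate h
    ![y' ≫ c, (y ≫ c) * (y' ≫ c), (a ≫ c) * (b ≫ c), b ≫ c]
  have h1 : z 0 ≫ c = ((p ≫ y') ≫ c) * (w ≫ c) := (hz 0).trans (by simp [c])
  have h2 : z 1 ≫ c = ((p ≫ y) ≫ c) * (z 0 ≫ c) := by
    refine (hz 1).trans ?_
    rw [h1]
    simp [MonObj.comp_mul, _root_.mul_assoc]
    rfl
  have h4 : z 3 ≫ c = ((p ≫ b) ≫ c) * (w ≫ c) := (hz 3).trans (by simp [c])
  have h3 : z 2 ≫ c = ((p ≫ a) ≫ c) * (z 3 ≫ c) := by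
    refine (hz 2).trans ?_
    rw [h4]
    simp [MonObj.comp_mul, _root_.mul_assoc]
    rfl
  have h5 : z 2 ≫ c = ((p ≫ x) ≫ c) * (z 1 ≫ c) := by
    refine (hz 2).trans ?_
    rw [h2, h1]
    simp only [c, Matrix.cons_val, ← heq, MonObj.comp_mul, Category.assoc, _root_.mul_assoc]
  have e1 := hf _ _ _ _ h1
  have e2 := hf _ _ _ _ h2
  have e3 := hf _ _ _ _ h3
  have e4 := hf _ _ _ _ h4
  have e5 := hf _ _ _ _ h5
  rw [e3, e4, e2, e1] at e5
  rw [← cancel_epi p]
  simp only [MonObj.comp_mul, ← Category.assoc]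
  refine mul_right_cancel (b := w ≫ f) ?_
  simpa only [_root_.mul_assoc] using e5.symm

theorem cell_unit {X : Over S} : cellPt D (n := n) (m := m) (X := X) 0 1 0 ≫ D.cell e e' = 1 := by
  rw [torus_factor, MonObj.one_comp]

theorem IsCellHom.unit (hf : IsCellHom f e e') {X : Over S} : cellPt D (n := n) (m := m) (X := X) 0 1 0 ≫ f = 1 := by
  have h1 := hf X _ _ _ (show cellPt D (n := n) (m := m) (X := X) 0 1 0 ≫ D.cell e e' = _ * _ by
    rw [cell_unit, _root_.one_mul])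
  exact left_eq_mul.1 h1 

/-- A multiplicative map on the big cell extends to a homomorphism. -/
theorem exists_extend (h : IsFull lam e e') (hf : IsCellHom f e e') :
    ∃ g : G ⟶ H, IsMonHom g ∧ D.cell e e' ≫ g = f := by
  let c := D.cell e e'
  let φ : cellOb D n m ⊗ cellOb D n m ⟶ H := (fst _ _ ≫ f) * (snd _ _ ≫ f)
  let r := cellSq D e e'
  obtain ⟨hfl, hfp⟩ := flat_cellSq h
  haveI := hfl; haveI := hfp
  haveI := surjective_cellSq h
  have hwd : ∀ {X : Over S} (u v : X ⟶ cellOb D n m ⊗ cellOb D n m), u ≫ r = v ≫ r → u ≫ φ = v ≫ φ := by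
    intro X u v huv
    simp only [r, cellSq, φ, MonObj.comp_mul, ← Category.assoc] at huv ⊢
    have h1 := eq_of_three h hf (cellPt D 0 1 0) (u ≫ fst _ _) (u ≫ snd _ _) (v ≫ fst _ _) (v ≫ snd _ _)
      ((congrArg (· * _) cell_unit).trans ((_root_.one_mul _).trans huv))
    rwa [hf.unit, _root_.one_mul] at h1
  have hdesc : ∀ {T : Scheme.{u}} (g₁ g₂ : T ⟶ (cellOb D n m ⊗ cellOb D n m).left),
      g₁ ≫ r.left = g₂ ≫ r.left → g₁ ≫ φ.left = g₂ ≫ φ.left := by
    intro T g₁ g₂ hg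
    have hs : g₂ ≫ (cellOb D n m ⊗ cellOb D n m).hom = g₁ ≫ (cellOb D n m ⊗ cellOb D n m).hom := by
      rw [← Over.w r, reassoc_of% hg]
    exact congrArg CommaMorphism.left (hwd
      (Over.homMk g₁ rfl : Over.mk (g₁ ≫ (cellOb D n m ⊗ cellOb D n m).hom) ⟶ _)
      (Over.homMk g₂ hs) (Over.OverMorphism.ext hg))
  let g : G ⟶ H := Over.homMk (EffectiveEpi.desc r.left φ.left hdesc) (by
    haveI : Epi r.left := Flat.epi_of_flat_of_surjective _
    rw [← cancel_epi r.left, EffectiveEpi.fac_assoc, Over.w φ, Over.w r])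
  have hr : r ≫ g = φ := Over.OverMorphism.ext (EffectiveEpi.fac r.left φ.left hdesc)
  have hg2 : ∀ {X : Over S} (x y : X ⟶ cellOb D n m), ((x ≫ c) * (y ≫ c)) ≫ g = (x ≫ f) * (y ≫ f) := by
    intro X x y
    have h1 := congrArg (lift x y ≫ ·) hr
    simpa [r, cellSq, φ, MonObj.comp_mul, ← Category.assoc] using h1
  have hcell : ∀ {X : Over S} (x : X ⟶ cellOb D n m), (x ≫ c) ≫ g = x ≫ f := by
    intro X x
    have h1 := hg2 x (cellPt D 0 1 0)
    rwa [hf.unit, _root_.mul_one, cell_unit, _root_.mul_one] at h1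
  have hleft : ∀ {X : Over S} (x : X ⟶ cellOb D n m) (gam : X ⟶ G), ((x ≫ c) * gam) ≫ g = (x ≫ f) * (gam ≫ g) := by
    intro X x gam
    obtain ⟨Z, p, y, y', hp, hy⟩ := exists_cover h gam
    obtain ⟨Z', q, a, b, hq, hab⟩ := exists_cover h (((p ≫ x) ≫ c) * (p ≫ gam))
    rw [← cancel_epi p, ← cancel_epi q]
    simp only [MonObj.comp_mul, ← Category.assoc] at hab hy ⊢
    rw [hab, hg2]
    have h1 := eq_of_three h hf ((q ≫ p) ≫ x) (q ≫ y) (q ≫ y') a b (by
      rw [← hab]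
      simp only [c, Category.assoc]
      simp only [MonObj.comp_mul, Category.assoc, hy])
    rw [← h1, Category.assoc q p gam, hy, MonObj.comp_mul, ← Category.assoc, ← Category.assoc, hg2]
  refine ⟨g, { one_hom := ?_, mul_hom := ?_ }, (congrArg (· ≫ g) (Category.id_comp c)).symm.trans
    ((hcell (𝟙 _)).trans (Category.id_comp f))⟩
  · rw [MonObj.one_eq_one, MonObj.one_eq_one, ← cell_unit (e := e) (e' := e') (n := n) (m := m)]
    exact (hcell _).trans hf.unit
  · rw [MonObj.mul_eq_mul, MonObj.mul_eq_mul, MonObj.comp_mul, tensorHom_fst, tensorHom_snd]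
    obtain ⟨Z, p, x, x', hp, hx⟩ := exists_cover h (fst G G)
    rw [← cancel_epi p]
    simp only [MonObj.comp_mul, ← Category.assoc]
    rw [hx, hg2, _root_.mul_assoc, hleft, hleft, ← _root_.mul_assoc]

end

end Groth.Agent.SplitGrp
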