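import Groth.Agent.SplitGrp.RootPair
import Mathlib.Algebra.MvPolynomial.Eval

/-!
# Commutation relations between root subgroups
-/

universe u

open CategoryTheory CategoryTheory.Limits MonoidalCategory CartesianMonoidalCategory MonObj GrpObj AlgebraicGeometry
open scoped Polynomial LaurentPolynomial

attribute [local instance] CategoryTheory.Hom.monoid CategoryTheory.Hom.group
set_option linter.style.haveILetI false
set_option linter.unusedSectionVars false

namespace Groth.Agent.SplitGrp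

noncomputable section

variable {S : Scheme.{u}} {G : Over S} [GrpObj G] {D : Sys G}

theorem Prod_append {X : Over S} {n n' : ℕ} (e : Fin n → D.idx) (e' : Fin n' → D.idx) (v : Fin n → Γ(X.left, ⊤))
    (v' : Fin n' → Γ(X.left, ⊤)) :
    D.Prod (Fin.append e e') (Fin.append v v') = D.Prod e v * D.Prod e' v' := by
  rw [Sys.Prod, Sys.Prod, Sys.Prod, ← List.prod_append, ← List.ofFn_fin_append]
  congr 2
  funext l
  refine Fin.addCases (fun i => ?_) (fun i => ?_) l <;> simp

theorem lim_U {R : Type u} [CommRing R] {s : Spec (CommRingCat.of R) ⟶ S} {lam : D.M →+ ℤ} {a : D.idx}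
    (ha : 0 < lam (D.r a)) (v : R) : Lim s D lam (D.U a (sec s v)) 1 := by
  have h := lim_Prod (s := s) (lam := lam) (fun _ : Fin 1 => a) (fun _ => ha) (fun _ => v)
  rw [Prod_succ, show D.Prod (X := pX s) ((fun _ : Fin 1 => a) ∘ Fin.succ) ((fun _ => sec s v) ∘ Fin.succ) = 1 from rfl,
    _root_.mul_one] at h
  exact h

/-- A list of positive roots completes to a full big cell. -/
theorem exists_isFull_extend {lam : D.M →+ ℤ} (hlam : ∀ a, lam (D.r a) ≠ 0) {k : ℕ} (e : Fin k → D.idx)
    (he : Function.Injective e) (hpos : ∀ l, 0 < lam (D.r (e l))) :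
    ∃ (n m : ℕ) (e₀ : Fin n → D.idx) (e₁ : Fin m → D.idx), IsFull lam e₀ (Fin.append e e₁) := by
  classical
  let A := {a // lam (D.r a) < 0}
  let B := {a // 0 < lam (D.r a) ∧ a ∉ Set.range e}
  let e₀ : Fin (Fintype.card A) → D.idx := fun l => ((Fintype.equivFin A).symm l).1
  let e₁ : Fin (Fintype.card B) → D.idx := fun l => ((Fintype.equivFin B).symm l).1
  have hp : ∀ l, 0 < lam (D.r (Fin.append e e₁ l)) := fun l => by
    refine Fin.addCases (fun i => ?_) (fun i => ?_) l
    · rw [Fin.append_left]; exact hpos i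
    · rw [Fin.append_right]; exact ((Fintype.equivFin B).symm i).2.1
  have he₁ : Function.Injective (Fin.append e e₁) := Fin.append_injective_iff.2
    ⟨he, Subtype.val_injective.comp (Equiv.injective _), fun i j h => ((Fintype.equivFin B).symm j).2.2 ⟨i, h⟩⟩
  refine ⟨_, _, e₀, e₁, Subtype.val_injective.comp (Equiv.injective _), he₁,
    fun l => ((Fintype.equivFin A).symm l).2, hp, ?_⟩
  rw [← Fintype.card_fin (Fintype.card A), ← Fintype.card_fin (k + Fintype.card B), ← Fintype.card_sum]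
  refine Fintype.card_of_bijective (f := Sum.elim e₀ (Fin.append e e₁))
    ⟨(Subtype.val_injective.comp (Equiv.injective _)).sumElim he₁ fun i j h => ?_, fun a => ?_⟩
  · have h1 := ((Fintype.equivFin A).symm i).2
    rw [show ((Fintype.equivFin A).symm i).1 = Fin.append e e₁ j from h] at h1
    exact absurd h1 (hp j).le.not_gt
  · rcases (hlam a).lt_or_gt with h | h
    · exact ⟨Sum.inl (Fintype.equivFin A ⟨a, h⟩), by simp [e₀]⟩
    · by_cases hr : a ∈ Set.range e
      · obtain ⟨i, rfl⟩ := hr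
        exact ⟨Sum.inr (Fin.castAdd _ i), by simp⟩
      · exact ⟨Sum.inr (Fin.natAdd _ (Fintype.equivFin B ⟨a, h, hr⟩)), by simp [e₁]⟩

variable {lam : D.M →+ ℤ} {n m : ℕ} {e : Fin n → D.idx} {e' : Fin m → D.idx}

theorem cellPt_zero {X : Over S} (w : Fin m → Γ(X.left, ⊤)) :
    cellPt D (n := n) 0 1 w ≫ D.cell e e' = D.Prod e' w := by
  rw [cellPt_cell]
  show D.Prod e (fun _ => (0 : Γ(X.left, ⊤))) * _ = _
  rw [Prod_zero, MonObj.one_comp, _root_.one_mul, _root_.one_mul]

/-- Positive products are unique. -/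
theorem Prod_pos_injective (h : IsFull lam e e') {X : Over S} {w w' : Fin m → Γ(X.left, ⊤)}
    (hw : D.Prod e' w = D.Prod e' w') : w = w' := by
  haveI := h.mono
  rw [← cellPt_zero (e := e), ← cellPt_zero (e := e) w', cancel_mono] at hw
  simpa [cellPt, coord_ofCoord] using congrArg (fun y => coord (y ≫ snd _ _ ≫ snd _ _)) hw

/-- A point which is a positive product on affines is one globally. -/
theorem exists_Prod_global (h : IsFull lam e e') {X : Over S} {g : X ⟶ G}
    (hg : ∀ (B : Type u) [CommRing B] (s : Spec (CommRingCat.of B) ⟶ S) (x : pX s ⟶ X),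
      ∃ w : Fin m → B, x ≫ g = D.Prod e' fun l => sec s (w l)) :
    ∃ w : Fin m → Γ(X.left, ⊤), g = D.Prod e' w := by
  haveI := h.isOpenImmersion
  haveI := h.mono
  have hr : Set.range g.left ⊆ Set.range (D.cell e e').left := by
    rintro _ ⟨p, rfl⟩
    let x : pX (X.left.fromSpecResidueField p ≫ X.hom) ⟶ X := Over.homMk (X.left.fromSpecResidueField p) rfl
    obtain ⟨w, hw⟩ := hg _ _ x
    rw [← cellPt_zero (e := e)] at hw
    refine range_subset_of_comp _ hw.symm ⟨(IsLocalRing.closedPoint _ : PrimeSpectrum (X.left.residueField p)), ?_⟩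
    rw [Over.comp_left, Scheme.Hom.comp_apply]
    exact congrArg g.left (Scheme.fromSpecResidueField_apply p _)
  obtain ⟨z, hz⟩ := exists_lift (D.cell e e') g hr
  obtain ⟨v, t, w, rfl⟩ := exists_cellPt D z
  refine ⟨w, hom_ext_rings fun B _ s x => ?_⟩
  obtain ⟨w', hw'⟩ := hg B s x
  rw [hw', comp_Prod]
  rw [← hz, ← cellPt_zero (e := e), ← Category.assoc, cancel_mono] at hw'
  have h1 := congrArg (fun y => coord (y ≫ snd _ _ ≫ snd _ _)) hw'
  simp only [cellPt, Category.assoc, lift_snd, lift_snd_assoc, coord_comp, coord_ofCoord] at h1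
  rw [h1]

/-- The commutator of two root points. -/
def comm (a b : D.idx) {X : Over S} (x y : Γ(X.left, ⊤)) : X ⟶ G :=
  (D.U b y)⁻¹ * (D.U a x * D.U b y * (D.U a x)⁻¹)

theorem comp_comm (a b : D.idx) {X X' : Over S} (f : X' ⟶ X) (x y : Γ(X.left, ⊤)) :
    f ≫ comm a b x y = comm a b (f.left.appTop x) (f.left.appTop y) := by
  simp only [comm, MonObj.comp_mul, GrpObj.comp_inv, comp_U]

theorem conj_comm (a b : D.idx) {X : Over S} (t : X ⟶ Red.DS S D.M) (x y : Γ(X.left, ⊤)) :
    (t ≫ D.j) * comm a b x y * (t ≫ D.j)⁻¹ =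
      comm a b (Red.gmFn (t ≫ Red.chi S (D.r a)) * x) (Red.gmFn (t ≫ Red.chi S (D.r b)) * y) := by
  simp only [comm, ← conj_U]
  group

section Algebra

open MvPolynomial

variable {R : Type u} [CommRing R] {M : Type} [AddCommGroup M] (ra rb : M)

/-- The substitution attached to a torus acting by two weights. -/
def wtSubst : MvPolynomial (Fin 2) R →+* MonoidAlgebra (MvPolynomial (Fin 2) R) (Multiplicative M) :=
  eval₂Hom ((MonoidAlgebra.singleOneRingHom).comp MvPolynomial.C)
    ![MonoidAlgebra.single (Multiplicative.ofAdd ra) (X 0), MonoidAlgebra.single (Multiplicative.ofAdd rb) (X 1)]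

theorem wtSubst_monomial (d : Fin 2 →₀ ℕ) (c : R) :
    wtSubst ra rb (monomial d c) = MonoidAlgebra.single
      (Multiplicative.ofAdd ((d 0 : ℤ) • ra + (d 1 : ℤ) • rb)) (monomial d c) := by
  rw [wtSubst, eval₂Hom_monomial, Finsupp.prod_fintype _ _ (fun i => pow_zero _), Fin.prod_univ_two]
  simp only [RingHom.comp_apply, Matrix.cons_val_zero, Matrix.cons_val_one, MonoidAlgebra.singleOneRingHom_apply,
    MonoidAlgebra.single_mul_single, MonoidAlgebra.single_pow, _root_.one_mul]
  rw [natCast_zsmul, natCast_zsmul] at *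
  show MonoidAlgebra.single (1 : Multiplicative M) (MvPolynomial.C c) * _ = _
  rw [MonoidAlgebra.single_mul_single, _root_.one_mul, MvPolynomial.monomial_eq (s := d),
    Finsupp.prod_fintype _ _ (fun i => pow_zero _), Fin.prod_univ_two]
  simp [ofAdd_add, ofAdd_nsmul]

theorem coeff_wtSubst (p : MvPolynomial (Fin 2) R) (d : Fin 2 →₀ ℕ) :
    coeff d ((wtSubst ra rb p).coeff (Multiplicative.ofAdd ((d 0 : ℤ) • ra + (d 1 : ℤ) • rb))) = coeff d p := by
  classical
  induction p using MvPolynomial.induction_on' with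
  | monomial d' c =>
    rw [wtSubst_monomial]
    by_cases hdd : d' = d
    · subst hdd; simp
    · rw [coeff_monomial, if_neg hdd, MonoidAlgebra.coeff_single, Finsupp.single_apply]
      split_ifs
      · rw [coeff_monomial, if_neg hdd]
      · exact coeff_zero d
  | add p q hp hq =>
    rw [map_add, MonoidAlgebra.coeff_add, Finsupp.add_apply, coeff_add, coeff_add, hp, hq]

theorem weight_eq_of_wtSubst {r : M} {p : MvPolynomial (Fin 2) R}
    (h : MonoidAlgebra.single (Multiplicative.ofAdd r) p = wtSubst ra rb p) {d : Fin 2 →₀ ℕ} (hd : coeff d p ≠ 0) :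
    r = (d 0 : ℤ) • ra + (d 1 : ℤ) • rb := by
  classical
  by_contra hne
  apply hd
  rw [← coeff_wtSubst ra rb p d, ← h, MonoidAlgebra.coeff_single, Finsupp.single_apply,
    if_neg (Multiplicative.ofAdd.injective.ne hne), coeff_zero]

/-- Setting one variable to zero. -/
def killVar (i : Fin 2) : MvPolynomial (Fin 2) R →+* MvPolynomial (Fin 2) R :=
  eval₂Hom MvPolynomial.C (Function.update X i 0)

theorem coeff_killVar (i : Fin 2) {d : Fin 2 →₀ ℕ} (hd : d i = 0) (p : MvPolynomial (Fin 2) R) :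
    coeff d (killVar i p) = coeff d p := by
  classical
  induction p using MvPolynomial.induction_on' with
  | monomial d' c =>
    rw [killVar, eval₂Hom_monomial, Finsupp.prod_fintype _ _ (fun i => pow_zero _)]
    by_cases hd' : d' i = 0
    · congr 1
      rw [monomial_eq (s := d'), Finsupp.prod_fintype _ _ (fun i => pow_zero _)]
      congr 1
      refine Finset.prod_congr rfl fun j _ => ?_
      by_cases hj : j = i
      · subst hj; simp [hd']
      · simp [hj]
    · rw [Finset.prod_eq_zero (Finset.mem_univ i) (by simp [hd']), coeff_monomial,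
        if_neg (fun e => hd' (by rw [e, hd]))]
      simp
  | add p q hp hq => rw [map_add, coeff_add, coeff_add, hp, hq]

end Algebra

/-- Substitutions in the universal commutator. -/
def IsUniv (e' : Fin m → D.idx) (a b : D.idx) {R : Type u} [CommRing R] (s : Spec (CommRingCat.of R) ⟶ S)
    (W : Fin m → MvPolynomial (Fin 2) R) : Prop :=
  ∀ (B : Type u) [CommRing B] (t : Spec (CommRingCat.of B) ⟶ S) (φ : MvPolynomial (Fin 2) R →+* B),
    Spec.map (CommRingCat.ofHom φ) ≫ Spec.map (CommRingCat.ofHom MvPolynomial.C) ≫ s = t →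
      comm a b (sec t (φ (MvPolynomial.X 0))) (sec t (φ (MvPolynomial.X 1))) = D.Prod e' fun l => sec t (φ (W l))

theorem comp_C_eq {R : Type u} [CommRing R] (s : Spec (CommRingCat.of R) ⟶ S) {B : Type u} [CommRing B]
    (φ : MvPolynomial (Fin 2) R →+* B) (g : R →+* B) (h : φ.comp MvPolynomial.C = g) :
    Spec.map (CommRingCat.ofHom φ) ≫ Spec.map (CommRingCat.ofHom MvPolynomial.C) ≫ s =
      Spec.map (CommRingCat.ofHom g) ≫ s := by
  rw [← Category.assoc, ← Spec.map_comp, ← CommRingCat.ofHom_comp, h]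

theorem exists_univ (h : IsFull lam e e') (a b : D.idx) (ha : 0 < lam (D.r a)) (hb : 0 < lam (D.r b))
    {R : Type u} [CommRing R] (s : Spec (CommRingCat.of R) ⟶ S) :
    ∃ W : Fin m → MvPolynomial (Fin 2) R, IsUniv e' a b s W := by
  let sP : Spec (CommRingCat.of (MvPolynomial (Fin 2) R)) ⟶ S := Spec.map (CommRingCat.ofHom MvPolynomial.C) ≫ s
  have hlim : Lim sP D lam (comm a b (sec sP (MvPolynomial.X 0)) (sec sP (MvPolynomial.X 1))) 1 := by
    have l1 := Lim.mul (Lim.inv (lim_U (s := sP) hb (MvPolynomial.X 1)))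
      (Lim.mul (Lim.mul (lim_U (s := sP) ha (MvPolynomial.X 0)) (lim_U (s := sP) hb (MvPolynomial.X 1)))
        (Lim.inv (lim_U (s := sP) ha (MvPolynomial.X 0))))
    simpa [comm] using l1
  obtain ⟨W, hW⟩ := exists_Prod_of_lim h hlim
  refine ⟨W, fun B _ t φ hφ => ?_⟩
  have h1 := congrArg (mor φ hφ ≫ ·) hW
  rw [comp_comm, appTop_mor, appTop_mor, comp_Prod_sec] at h1
  exact h1

theorem IsUniv.weight (h : IsFull lam e e') {a b : D.idx} {R : Type u} [CommRing R]
    {s : Spec (CommRingCat.of R) ⟶ S} {W : Fin m → MvPolynomial (Fin 2) R} (hW : IsUniv e' a b s W) {l : Fin m}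
    {d : Fin 2 →₀ ℕ} (hd : MvPolynomial.coeff d (W l) ≠ 0) :
    D.r (e' l) = (d 0 : ℤ) • D.r a + (d 1 : ℤ) • D.r b := by
  let A := MonoidAlgebra (MvPolynomial (Fin 2) R) (Multiplicative D.M)
  let inc : MvPolynomial (Fin 2) R →+* A := MonoidAlgebra.singleOneRingHom
  let T : Multiplicative D.M →* A := MonoidAlgebra.of _ _
  let sA : Spec (CommRingCat.of A) ⟶ S := Spec.map (CommRingCat.ofHom (inc.comp MvPolynomial.C)) ≫ s
  have hψ := comp_C_eq s (wtSubst (D.r a) (D.r b)) (inc.comp MvPolynomial.C)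
    (RingHom.ext fun r => MvPolynomial.eval₂Hom_C _ _ r)
  have e1 := hW A sA (wtSubst (D.r a) (D.r b)) hψ
  have e2 := hW A sA inc (comp_C_eq s inc _ rfl)
  have e3 := conj_comm a b (D.tpt sA T) (sec sA (inc (MvPolynomial.X 0))) (sec sA (inc (MvPolynomial.X 1)))
  rw [e2, conj_tpt_Prod, gmFn_tpt, gmFn_tpt, ← map_mul, ← map_mul] at e3
  have hT : ∀ (r : D.M) (p : MvPolynomial (Fin 2) R),
      T (Multiplicative.ofAdd r) * inc p = MonoidAlgebra.single (Multiplicative.ofAdd r) p := fun r p => by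
    simp [T, inc, A, MonoidAlgebra.single_mul_single]
  simp only [hT] at e3
  have hX : ∀ k : Fin 2, wtSubst (D.r a) (D.r b) (MvPolynomial.X k : MvPolynomial (Fin 2) R) =
      ![MonoidAlgebra.single (Multiplicative.ofAdd (D.r a)) (MvPolynomial.X 0),
        MonoidAlgebra.single (Multiplicative.ofAdd (D.r b)) (MvPolynomial.X 1)] k := fun k =>
    MvPolynomial.eval₂Hom_X' _ _ _
  rw [hX, hX] at e1
  have e5 := congrFun (D.Prod_injective lam sA e' h.inj' h.pos (e3.trans e1)) l
  exact weight_eq_of_wtSubst _ _ e5 hd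

theorem IsUniv.exp_pos (h : IsFull lam e e') {a b : D.idx} {R : Type u} [CommRing R]
    {s : Spec (CommRingCat.of R) ⟶ S} {W : Fin m → MvPolynomial (Fin 2) R} (hW : IsUniv e' a b s W) {l : Fin m}
    {d : Fin 2 →₀ ℕ} (hd : MvPolynomial.coeff d (W l) ≠ 0) (i : Fin 2) : 1 ≤ d i := by
  by_contra hi
  apply hd
  have hi0 : d i = 0 := by omega
  rw [← coeff_killVar i hi0 (W l)]
  let sP : Spec (CommRingCat.of (MvPolynomial (Fin 2) R)) ⟶ S := Spec.map (CommRingCat.ofHom MvPolynomial.C) ≫ s
  have h1 := hW _ sP (killVar i) (comp_C_eq s _ MvPolynomial.C (RingHom.ext fun r => MvPolynomial.eval₂Hom_C _ _ r))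
  have h2 : D.Prod e' (fun l => sec sP (killVar i (W l))) = D.Prod e' (fun _ : Fin m => sec sP 0) := by
    rw [← h1, show (sec sP (0 : MvPolynomial (Fin 2) R)) = 0 from map_zero _, Prod_zero]
    fin_cases i <;> simp [killVar, comm, sec, U_zero]
  rw [congrFun (D.Prod_injective lam sP e' h.inj' h.pos h2) l, MvPolynomial.coeff_zero]

/-- The commutator in universal coordinates. -/
theorem exists_commutator (h : IsFull lam e e') (a b : D.idx) (ha : 0 < lam (D.r a)) (hb : 0 < lam (D.r b))
    {R : Type u} [CommRing R] (s : Spec (CommRingCat.of R) ⟶ S) :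
    ∃ W : Fin m → MvPolynomial (Fin 2) R,
      (∀ l d, MvPolynomial.coeff d (W l) ≠ 0 →
        1 ≤ d 0 ∧ 1 ≤ d 1 ∧ D.r (e' l) = (d 0 : ℤ) • D.r a + (d 1 : ℤ) • D.r b) ∧
      ∀ x y : R, comm a b (sec s x) (sec s y) = D.Prod e' fun l => sec s (MvPolynomial.eval ![x, y] (W l)) := by
  obtain ⟨W, hW⟩ := exists_univ h a b ha hb s
  refine ⟨W, fun l d hd => ⟨hW.exp_pos h hd 0, hW.exp_pos h hd 1, hW.weight h hd⟩, fun x y => ?_⟩
  have h1 := hW R s (MvPolynomial.eval ![x, y])
    ((comp_C_eq s _ (RingHom.id R) (RingHom.ext fun r => MvPolynomial.eval_C r)).trans (by simp))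
  simpa using h1

/-- The commutator formula for two positive roots. -/
theorem exists_commutator_formula (h : IsFull lam e e') (a b : D.idx) (ha : 0 < lam (D.r a)) (hb : 0 < lam (D.r b))
    (i j : Fin m → ℕ) (huniq : ∀ l (p q : ℕ), 1 ≤ p → 1 ≤ q →
      D.r (e' l) = (p : ℤ) • D.r a + (q : ℤ) • D.r b → p = i l ∧ q = j l) :
    ∃ C : Fin m → Γ(S, ⊤),
      (∀ l, (∀ p q : ℕ, 1 ≤ p → 1 ≤ q → D.r (e' l) ≠ (p : ℤ) • D.r a + (q : ℤ) • D.r b) → C l = 0) ∧
      ∀ (X : Over S) (x y : Γ(X.left, ⊤)),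
        D.U a x * D.U b y * (D.U a x)⁻¹ =
          D.U b y * D.Prod e' fun l => X.hom.appTop (C l) * x ^ i l * y ^ j l := by
  classical
  have key : ∀ (B : Type u) [CommRing B] (s : Spec (CommRingCat.of B) ⟶ S), ∃ c : Fin m → B,
      (∀ x y : B, comm a b (sec s x) (sec s y) = D.Prod e' fun l => sec s (c l * x ^ i l * y ^ j l)) ∧
      (∀ l, (∀ p q : ℕ, 1 ≤ p → 1 ≤ q → D.r (e' l) ≠ (p : ℤ) • D.r a + (q : ℤ) • D.r b) → c l = 0) := by
    intro B _ s
    obtain ⟨W, hW, hf⟩ := exists_commutator h a b ha hb s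
    let d₀ : Fin m → (Fin 2 →₀ ℕ) := fun l => Finsupp.equivFunOnFinite.symm ![i l, j l]
    have hmono : ∀ l, W l = MvPolynomial.monomial (d₀ l) (MvPolynomial.coeff (d₀ l) (W l)) := fun l => by
      ext d
      rw [MvPolynomial.coeff_monomial]
      split_ifs with hd
      · rw [hd]
      · by_contra hne
        obtain ⟨h1, h2, h3⟩ := hW l d hne
        obtain ⟨h4, h5⟩ := huniq l _ _ h1 h2 h3
        exact hd (Finsupp.ext fun k => by fin_cases k <;> simp [d₀, h4, h5])
    refine ⟨fun l => MvPolynomial.coeff (d₀ l) (W l), fun x y => (hf x y).trans ?_, fun l hl => ?_⟩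
    · congr 1
      funext l
      conv_lhs => rw [hmono l, MvPolynomial.eval_monomial]
      rw [Finsupp.prod_fintype _ _ (fun _ => pow_zero _), Fin.prod_univ_two]
      simp [d₀, _root_.mul_assoc]
    · by_contra hne
      obtain ⟨h1, h2, h3⟩ := hW l _ hne
      exact hl _ _ h1 h2 h3
  obtain ⟨C, hC⟩ := exists_Prod_global h (g := comm a b (1 : Γ((𝟙_ (Over S)).left, ⊤)) 1) fun B _ s x => by
    obtain ⟨c, hc, -⟩ := key B s
    refine ⟨c, ?_⟩
    rw [comp_comm, map_one, ← map_one (Scheme.ΓSpecIso (CommRingCat.of B)).inv.hom]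
    exact (hc 1 1).trans (by simp)
  have hres : ∀ (B : Type u) [CommRing B] (s : Spec (CommRingCat.of B) ⟶ S) (c : Fin m → B),
      (∀ x y : B, comm a b (sec s x) (sec s y) = D.Prod e' fun l => sec s (c l * x ^ i l * y ^ j l)) →
      ∀ l, s.appTop (C l) = sec s (c l) := by
    intro B _ s c hc l
    have h1 := congrArg (toUnit (pX s) ≫ ·) hC
    rw [comp_comm, comp_Prod, map_one, ← map_one (Scheme.ΓSpecIso (CommRingCat.of B)).inv.hom] at h1
    have h2 : D.Prod e' (fun l => sec s (c l)) = D.Prod e' fun l => (toUnit (pX s)).left.appTop (C l) := by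
      rw [← h1]
      exact ((hc 1 1).trans (by simp)).symm
    exact (congrFun (Prod_pos_injective h h2) l).symm
  refine ⟨C, fun l hl => ?_, fun X x y => ?_⟩
  · refine congrFun (Prod_pos_injective h (w' := Function.update C l 0) (hom_ext_rings fun B _ s xx => ?_)) l |>.trans
      (Function.update_self _ _ _)
    obtain ⟨c, hc, hc0⟩ := key B s
    rw [comp_Prod, comp_Prod]
    congr 1
    funext l'
    by_cases hl' : l' = l
    · subst hl'
      rw [Function.update_self, map_zero, show xx = toUnit (pX s) from toUnit_unique _ _]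
      refine (hres B s c hc l').trans ?_
      rw [hc0 l' hl]
      exact map_zero _
    · rw [Function.update_of_ne hl']
  · suffices comm a b x y = D.Prod e' fun l => X.hom.appTop (C l) * x ^ i l * y ^ j l by
      rw [← this, comm, mul_inv_cancel_left]
    refine hom_ext_rings fun B _ s xx => ?_
    obtain ⟨c, hc, -⟩ := key B s
    obtain ⟨x', hx'⟩ := (sec_bijective s).surjective (xx.left.appTop x)
    obtain ⟨y', hy'⟩ := (sec_bijective s).surjective (xx.left.appTop y)
    rw [comp_comm, comp_Prod, ← hx', ← hy', hc]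
    congr 1
    funext l
    simp only [map_mul, map_pow, ← hx', ← hy']
    show sec s (c l) * _ * _ = _
    rw [← hres B s c hc l]
    congr 2
    rw [← CommRingCat.comp_apply, ← Scheme.Hom.comp_appTop, Over.w xx]
    rfl

/-- If no positive combination of two positive roots is a root, the root subgroups commute. -/
theorem commute_U (h : IsFull lam e e') (a b : D.idx) (ha : 0 < lam (D.r a)) (hb : 0 < lam (D.r b))
    (hno : ∀ (c : D.idx) (p q : ℕ), 1 ≤ p → 1 ≤ q → D.r c ≠ (p : ℤ) • D.r a + (q : ℤ) • D.r b)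
    {X : Over S} (x y : Γ(X.left, ⊤)) : D.U a x * D.U b y = D.U b y * D.U a x := by
  obtain ⟨C, hC0, hC⟩ := exists_commutator_formula h a b ha hb 0 0
    (fun l p q hp hq hl => absurd hl (hno _ p q hp hq))
  have h1 := hC X x y
  rw [show (fun l => X.hom.appTop (C l) * x ^ (0 : Fin m → ℕ) l * y ^ (0 : Fin m → ℕ) l) = fun _ => (0 : Γ(X.left, ⊤))
    from funext fun l => by rw [hC0 l fun p q => hno _ p q, map_zero]; simp,
    Prod_zero, _root_.mul_one] at h1
  exact mul_inv_eq_iff_eq_mul.1 h1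

end

end Groth.Agent.SplitGrp
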