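import Groth.Agent.SplitGrp.Psi

/-!
# Unipotent subgroups for an ordered character lattice
-/

universe u

open CategoryTheory CategoryTheory.Limits MonoidalCategory CartesianMonoidalCategory MonObj GrpObj AlgebraicGeometry

attribute [local instance] CategoryTheory.Hom.monoid CategoryTheory.Hom.group
set_option linter.style.haveILetI false
set_option linter.unusedSectionVars false

namespace Groth.Agent.SplitGrp

noncomputable section

/-- Monomials involving a variable are at least as heavy. -/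
theorem le_monWt {M : Type} [AddCommGroup M] [LinearOrder M] [IsOrderedAddMonoid M] {κ : Type} [Fintype κ]
    [DecidableEq κ] (w : κ → M) (hw : ∀ x, 0 < w x) (d : κ →₀ ℕ) {x : κ} (hx : d x ≠ 0) :
    w x ≤ monWt w d ∧ (monWt w d = w x → d = Finsupp.single x 1) := by
  have hnn : ∀ y, 0 ≤ (d y : ℤ) • w y := fun y => by rw [natCast_zsmul]; exact nsmul_nonneg (hw y).le _
  have hsplit : monWt w d = (d x : ℤ) • w x + ∑ y ∈ Finset.univ.erase x, (d y : ℤ) • w y :=
    (Finset.add_sum_erase _ _ (Finset.mem_univ x)).symm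
  have hrest : 0 ≤ ∑ y ∈ Finset.univ.erase x, (d y : ℤ) • w y := Finset.sum_nonneg fun y _ => hnn y
  have hge : w x ≤ (d x : ℤ) • w x := by
    rw [natCast_zsmul]
    exact le_of_eq_of_le (one_nsmul _).symm (nsmul_le_nsmul_left (hw x).le (Nat.one_le_iff_ne_zero.2 hx))
  refine ⟨hsplit ▸ le_add_of_le_of_nonneg hge hrest, fun he => ?_⟩
  rw [hsplit] at he
  have h0 : ∑ y ∈ Finset.univ.erase x, (d y : ℤ) • w y = 0 :=
    le_antisymm (le_of_add_le_add_left (a := (d x : ℤ) • w x) (by rw [he, add_zero]; exact hge)) hrest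
  rw [h0, add_zero, natCast_zsmul] at he
  have hd1 : d x = 1 := by
    by_contra hne
    have : 1 < d x := by omega
    exact absurd he (ne_of_gt (lt_of_eq_of_lt (one_nsmul _).symm (nsmul_lt_nsmul_left (hw x) this)))
  refine Finsupp.ext fun y => ?_
  by_cases hy : y = x
  · subst hy; simp [hd1]
  · rw [Finsupp.single_eq_of_ne hy]
    have h1 := (Finset.sum_eq_zero_iff_of_nonneg fun y _ => hnn y).1 h0 y (Finset.mem_erase.2 ⟨hy, Finset.mem_univ _⟩)
    rw [natCast_zsmul] at h1
    by_contra hdy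
    exact absurd h1 (ne_of_gt (nsmul_pos (hw y) hdy))

/-- A monomial substitution preserves weights. -/
theorem exists_weight_subst {M : Type} [AddCommGroup M] {B : Type u} [CommRing B] {κ κ' : Type} [Fintype κ]
    [Fintype κ'] (w' : κ' → M) (τ : κ → κ') (c : κ → B) (P : MvPolynomial κ B) {d' : κ' →₀ ℕ}
    (hd' : MvPolynomial.coeff d' (MvPolynomial.eval₂Hom MvPolynomial.C
      (fun l => MvPolynomial.C (c l) * MvPolynomial.X (τ l)) P) ≠ 0) :
    ∃ d, MvPolynomial.coeff d P ≠ 0 ∧ monWt (w' ∘ τ) d = monWt w' d' := by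
  classical
  rw [MvPolynomial.coe_eval₂Hom, MvPolynomial.eval₂_eq', MvPolynomial.coeff_sum] at hd'
  obtain ⟨d, hd, hne⟩ := Finset.exists_ne_zero_of_sum_ne_zero hd'
  refine ⟨d, MvPolynomial.mem_support_iff.1 hd, ?_⟩
  have hprod : ∏ l, (MvPolynomial.C (c l) * MvPolynomial.X (τ l) : MvPolynomial κ' B) ^ d l =
      MvPolynomial.monomial (∑ l, Finsupp.single (τ l) (d l)) (∏ l, c l ^ d l) := by
    rw [MvPolynomial.monomial_sum_index, map_prod, ← Finset.prod_mul_distrib]
    exact Finset.prod_congr rfl fun l _ => by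
      rw [mul_pow, ← map_pow, MvPolynomial.X_pow_eq_monomial]
  rw [hprod, MvPolynomial.C_mul_monomial, MvPolynomial.coeff_monomial] at hne
  split_ifs at hne with hh
  · subst hh
    simp only [monWt, Finsupp.finset_sum_apply, Nat.cast_sum, Finset.sum_smul, Function.comp_apply]
    rw [Finset.sum_comm]
    refine Finset.sum_congr rfl fun l _ => ?_
    rw [Finset.sum_eq_single (τ l) (fun x _ hx => by rw [Finsupp.single_eq_of_ne hx]; simp) (by simp)]
    simp
  · exact absurd rfl hne

variable {S : Scheme.{u}} {G : Over S} [GrpObj G]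

/-- The positive roots for an order span a subgroup, as do the roots above any index. -/
theorem exists_ordered (D : Red.SplitRed G) [LinearOrder D.M] [IsOrderedAddMonoid D.M] {N : ℕ} (e : Fin N → D.idx)
    (he : Function.Injective e) (hrange : ∀ a : D.idx, a ∈ Set.range e ↔ 0 < D.P.root a)
    (hmono : StrictMono (fun k => D.P.root (e k))) :
    ∃ (lam : D.M →+ ℤ), (∃ (n q : ℕ) (e₀ : Fin n → D.idx) (b : Fin q → D.idx),
        IsClosedPos (D := ofSplit D) lam e₀ e b) ∧
      ∀ (i m : ℕ) (h : i + m = N), ∃ (n q : ℕ) (e₀ : Fin n → D.idx) (b : Fin q → D.idx),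
        IsClosedPos (D := ofSplit D) lam e₀ (fun k => e (Fin.cast h (Fin.natAdd i k))) b := by
  have hen : RedSub.Enumerates {a | 0 < D.P.root a} e := ⟨he, Set.ext fun a => hrange a⟩
  have hcl : ∀ a b c : D.idx, a ∈ {a | 0 < D.P.root a} → b ∈ {a | 0 < D.P.root a} →
      D.P.root a + D.P.root b = D.P.root c → c ∈ {a | 0 < D.P.root a} := fun a b c ha hb hc => by
    show 0 < D.P.root c
    rw [← hc]; exact add_pos ha hb
  obtain ⟨lam, hlam, hp⟩ := exists_functional_pos D.P {a | 0 < D.P.root a} hcl fun a b ha hb hb' => by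
    have hb'' : 0 < D.P.root b := hb'
    rw [hb, neg_pos] at hb''
    exact absurd hb'' (not_lt_of_gt ha)
  refine ⟨lam, exists_closedPos D hcl lam hlam hp e hen, fun i m h => ?_⟩
  refine exists_closedPos D (Ψ := Set.range fun k => e (Fin.cast h (Fin.natAdd i k))) ?_ lam hlam
    (fun a ⟨k, hk⟩ => hp a (hk ▸ (hrange _).1 ⟨_, rfl⟩)) _
    ⟨fun k k' hk => Fin.natAdd_injective _ _ (Fin.cast_injective h (he hk)), rfl⟩
  rintro _ _ c ⟨k, rfl⟩ ⟨k', rfl⟩ hc
  have h1 := (hrange _).1 ⟨Fin.cast h (Fin.natAdd i k), rfl⟩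
  have h2 := (hrange _).1 ⟨Fin.cast h (Fin.natAdd i k'), rfl⟩
  obtain ⟨l, rfl⟩ := (hrange c).2 (hc ▸ add_pos h1 h2)
  have h3 : D.P.root (e (Fin.cast h (Fin.natAdd i k))) < D.P.root (e l) := hc ▸ lt_add_of_pos_right _ h2
  have h4 := hmono.lt_iff_lt.1 h3
  have h5 : i + (k : ℕ) < (l : ℕ) := h4
  exact ⟨⟨(l : ℕ) - i, by omega⟩, congrArg e (Fin.ext (by simp only [Fin.val_cast, Fin.val_natAdd]; omega))⟩

variable {D : Sys G} {lam : D.M →+ ℤ} {n p q : ℕ} {e : Fin n → D.idx} {a : Fin p → D.idx} {b : Fin q → D.idx}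

/-- The word of a conjugate. -/
theorem Prod_conj_word {k : ℕ} (σ : Fin k → Fin p) {X : Over S} (x : Fin p → Γ(X.left, ⊤))
    (y : Fin k → Γ(X.left, ⊤)) :
    D.Prod (fun l => a (Fin.append (Fin.append (id : Fin p → Fin p) σ) Fin.rev l))
      (Fin.append (Fin.append x y) (fun l => -x (Fin.rev l))) =
      D.Prod a x * D.Prod (fun l => a (σ l)) y * (D.Prod a x)⁻¹ := by
  rw [Prod_inv, show (fun l => a (Fin.append (Fin.append (id : Fin p → Fin p) σ) Fin.rev l)) =
    Fin.append (Fin.append a (fun l => a (σ l))) (a ∘ Fin.rev) from funext fun l =>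
      Fin.addCases (fun l => Fin.addCases (fun j => by simp) (fun j => by simp) l) (fun j => by simp) l,
    Prod_append, Prod_append]

/-- Conjugation of upper elements keeps the first coordinate. -/
theorem IsClosedPos.conj_upper (h : IsClosedPos lam e a b) [LinearOrder D.M] [IsOrderedAddMonoid D.M]
    (hpos : ∀ l, 0 < D.r (a l)) (hmono : StrictMono (fun l => D.r (a l))) {m : ℕ} (σ : Fin (m + 1) → Fin p)
    (hσ : ∀ k, σ 0 ≤ σ k) (hσi : ∀ k, σ k = σ 0 → k = 0) {X : Over S} (x : Fin p → Γ(X.left, ⊤))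
    (y : Fin (m + 1) → Γ(X.left, ⊤)) (w : Fin p → Γ(X.left, ⊤))
    (hw : D.Prod a x * D.Prod (fun k => a (σ k)) y * (D.Prod a x)⁻¹ = D.Prod a w) :
    (∀ l, l < σ 0 → w l = 0) ∧ w (σ 0) = y 0 := by
  classical
  let f : Fin (p + (m + 1) + p) → Fin p := Fin.append (Fin.append id σ) Fin.rev
  have hf : (fun l => a (f l)) = Fin.append (Fin.append a (fun k => a (σ k))) (a ∘ Fin.rev) :=
    funext fun l => Fin.addCases (fun l => Fin.addCases (fun j => by simp [f]) (fun j => by simp [f]) l)
      (fun j => by simp [f]) l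
  let target : Fin p → Γ(X.left, ⊤) := fun l => if l < σ 0 then 0 else if l = σ 0 then y 0 else w l
  suffices hwt : w = target by
    refine ⟨fun l hl => ?_, ?_⟩
    · rw [hwt]; simp [target, hl]
    · rw [hwt]; simp [target]
  refine h.Prod_inj (hom_ext_rings fun B _ s z => ?_)
  obtain ⟨W, hW⟩ := Groth.Agent.SplitGrp.exists_word h.full (fun l => a (f l)) (fun l => h.pos _) s
  let τ : Fin (p + (m + 1) + p) → Fin (p + (m + 1)) := Fin.append id fun j => Fin.castAdd (m + 1) (Fin.rev j)
  let sg : Fin (p + (m + 1) + p) → B := Fin.append (fun _ => 1) fun _ => -1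
  let sub : MvPolynomial (Fin (p + (m + 1) + p)) B →+* MvPolynomial (Fin (p + (m + 1))) B :=
    MvPolynomial.eval₂Hom MvPolynomial.C fun l => MvPolynomial.C (sg l) * MvPolynomial.X (τ l)
  let V : Fin (p + q) → MvPolynomial (Fin (p + (m + 1))) B := fun l => sub (W l)
  have hev : ∀ (x₁ : Fin p → B) (y₁ : Fin (m + 1) → B) l, MvPolynomial.eval (Fin.append x₁ y₁) (V l) =
      MvPolynomial.eval (Fin.append (Fin.append x₁ y₁) (fun l => -x₁ (Fin.rev l))) (W l) := fun x₁ y₁ l => by
    have e : (MvPolynomial.eval (Fin.append x₁ y₁)).comp sub =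
        MvPolynomial.eval (Fin.append (Fin.append x₁ y₁) (fun l => -x₁ (Fin.rev l))) := by
      refine MvPolynomial.ringHom_ext (fun r => by simp [sub]) fun l => ?_
      refine Fin.addCases (fun j => by simp [sub, τ, sg]) (fun j => by simp [sub, τ, sg]) l
    exact RingHom.congr_fun e (W l)
  obtain ⟨x', hx'⟩ := exists_sec s (fun l => z.left.appTop (x l))
  obtain ⟨y', hy'⟩ := exists_sec s (fun l => z.left.appTop (y l))
  obtain ⟨w', hw'⟩ := exists_sec s (fun l => z.left.appTop (w l))
  have hword : ∀ (x₁ : Fin p → B) (y₁ : Fin (m + 1) → B),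
      D.Prod a (fun l => sec s (x₁ l)) * D.Prod (fun k => a (σ k)) (fun l => sec s (y₁ l)) *
        (D.Prod a (fun l => sec s (x₁ l)))⁻¹ = D.Prod (Fin.append a b)
          (fun l => sec s (MvPolynomial.eval (Fin.append (Fin.append x₁ y₁) (fun l => -x₁ (Fin.rev l))) (W l))) := by
    intro x₁ y₁
    rw [← hW.eval h.full, hf, show (fun l => sec s (Fin.append (Fin.append x₁ y₁) (fun l => -x₁ (Fin.rev l)) l)) =
      Fin.append (Fin.append (fun l => sec s (x₁ l)) (fun l => sec s (y₁ l))) (fun l => -sec s (x₁ (Fin.rev l))) from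
      funext fun l => Fin.addCases (fun l => Fin.addCases (fun j => by simp) (fun j => by simp) l)
        (fun j => by simp [sec]) l, Prod_append, Prod_append, Prod_inv]
  have hlead : ∀ (x₁ : Fin p → B) (y₁ : Fin (m + 1) → B), ∃ c : B,
      c = MvPolynomial.coeff (Finsupp.single (Fin.natAdd p (0 : Fin (m + 1))) 1) (V (Fin.castAdd q (σ 0))) ∧
      (∀ l, l < σ 0 → MvPolynomial.eval (Fin.append (Fin.append x₁ y₁) (fun l => -x₁ (Fin.rev l))) (W (Fin.castAdd q l)) = 0) ∧
      MvPolynomial.eval (Fin.append (Fin.append x₁ y₁) (fun l => -x₁ (Fin.rev l))) (W (Fin.castAdd q (σ 0))) = c * y₁ 0 := by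
    intro x₁ y₁
    refine ⟨_, rfl, ?_⟩
    let isY : Fin (p + (m + 1)) → Prop := fun l => ∃ k, l = Fin.natAdd p k
    have hy0 : ∀ (l : Fin (p + q)) d, MvPolynomial.coeff d (V l) ≠ 0 → ∃ k, d (Fin.natAdd p k) ≠ 0 := by
      intro l d hd
      by_contra hh
      push_neg at hh
      apply hd
      let sP : Spec (CommRingCat.of (MvPolynomial (Fin (p + (m + 1))) B)) ⟶ S :=
        Spec.map (CommRingCat.ofHom MvPolynomial.C) ≫ s
      have h1 := hW _ sP ((killSet isY).comp sub) (word_comp_C s _ MvPolynomial.C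
        (RingHom.ext fun r => by simp [killSet, sub]))
      have hkX : ∀ j, killSet isY (MvPolynomial.X (Fin.castAdd (m + 1) j) : MvPolynomial (Fin (p + (m + 1))) B) =
          MvPolynomial.X (Fin.castAdd (m + 1) j) := fun j => by
        rw [killSet, MvPolynomial.eval₂Hom_X', if_neg]
        rintro ⟨k, hk⟩
        exact Fin.ne_of_lt (show (Fin.castAdd (m + 1) j : ℕ) < Fin.natAdd p k by simp only [Fin.val_castAdd, Fin.val_natAdd]; omega) hk
      have hkY : ∀ k, killSet isY (MvPolynomial.X (Fin.natAdd p k) : MvPolynomial (Fin (p + (m + 1))) B) = 0 := fun k => by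
        rw [killSet, MvPolynomial.eval₂Hom_X', if_pos ⟨k, rfl⟩]
      have hsubX : ∀ l, sub (MvPolynomial.X l) = MvPolynomial.C (sg l) * MvPolynomial.X (τ l) := fun l =>
        MvPolynomial.eval₂Hom_X' _ _ _
      have h2 : D.Prod (fun l => a (f l)) (fun l => sec sP (((killSet isY).comp sub) (MvPolynomial.X l))) = 1 := by
        rw [hf, show (fun l => sec sP (((killSet isY).comp sub) (MvPolynomial.X l))) =
          Fin.append (Fin.append (fun j => sec sP (MvPolynomial.X (Fin.castAdd (m + 1) j))) (fun _ => 0))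
            (fun j => -sec sP (MvPolynomial.X (Fin.castAdd (m + 1) (Fin.rev j)))) from
          funext fun l => Fin.addCases (fun l => Fin.addCases (fun j => by simp [hsubX, τ, sg, hkX])
            (fun j => by simp [hsubX, τ, sg, hkY, sec]) l) (fun j => by simp [hsubX, τ, sg, hkX, sec]) l,
          Prod_append, Prod_append, Prod_zero, _root_.mul_one]
        rw [show D.Prod (a ∘ Fin.rev) (fun j => -sec sP (MvPolynomial.X (Fin.castAdd (m + 1) (Fin.rev j)))) = _
          from (Prod_inv a (fun j => sec sP (MvPolynomial.X (Fin.castAdd (m + 1) j)))).symm, mul_inv_cancel]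
      rw [h2] at h1
      have h3 : killSet isY (V l) = 0 := congrFun (D.Prod_injective lam sP _ h.full.inj' h.full.pos
        (v := fun l => killSet isY (V l)) (v' := fun _ => 0) (by
          simp only [RingHom.comp_apply] at h1
          rw [← h1]; simp only [sec, map_zero, Prod_zero])) l
      rw [← coeff_killSet isY (fun i ⟨k, hk⟩ => hk ▸ hh k) (V l), h3, MvPolynomial.coeff_zero]
    have hevw : ∀ (l : Fin p), l ≤ σ 0 → ∀ d, MvPolynomial.coeff d (V (Fin.castAdd q l)) ≠ 0 →
        l = σ 0 ∧ d = Finsupp.single (Fin.natAdd p (0 : Fin (m + 1))) 1 := by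
      intro l hl d hd
      obtain ⟨k, hk⟩ := hy0 _ d hd
      let wt' : Fin (p + (m + 1)) → D.M := fun j => D.r (a (Fin.append id σ j))
      obtain ⟨d₀, hd₀, hw₀⟩ := exists_weight_subst wt' τ sg _ hd
      have hwt := hW.weight h.full hd₀
      rw [show (fun i => D.r (a (f i))) = wt' ∘ τ from funext fun i =>
        Fin.addCases (fun j => by simp [wt', f, τ]) (fun j => by simp [wt', f, τ]) i, hw₀, Fin.append_left] at hwt
      obtain ⟨hle, heq⟩ := le_monWt wt' (fun j => hpos _) d hk
      have hfk : wt' (Fin.natAdd p k) = D.r (a (σ k)) := by simp [wt']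
      rw [hfk, ← hwt] at hle heq
      have h5 : σ k ≤ l := hmono.le_iff_le.1 hle
      have h6 : l = σ 0 := le_antisymm hl ((hσ k).trans h5)
      have h7 : σ k = σ 0 := le_antisymm (h6 ▸ h5) (hσ k)
      obtain rfl := hσi k h7
      exact ⟨h6, heq (by rw [h6])⟩
    refine ⟨fun l hl => ?_, ?_⟩
    · rw [← hev, MvPolynomial.eval_eq']
      exact Finset.sum_eq_zero fun d hd => absurd (hevw l hl.le d (MvPolynomial.mem_support_iff.1 hd)).1 hl.ne
    · rw [← hev, MvPolynomial.eval_eq', Finset.sum_eq_single (Finsupp.single (Fin.natAdd p (0 : Fin (m + 1))) 1)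
        (fun d hd hne => absurd (hevw _ le_rfl d (MvPolynomial.mem_support_iff.1 hd)).2 hne)
        (fun hn => by rw [MvPolynomial.notMem_support_iff.1 hn, zero_mul])]
      congr 1
      rw [Finset.prod_eq_single_of_mem _ (Finset.mem_univ _)
        (fun l _ hl => by rw [Finsupp.single_eq_of_ne hl, pow_zero]), Finsupp.single_eq_same, pow_one,
        Fin.append_right]
  have hc : MvPolynomial.coeff (Finsupp.single (Fin.natAdd p (0 : Fin (m + 1))) 1)
      (V (Fin.castAdd q (σ 0))) = 1 := by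
    obtain ⟨c, hc, -, h2⟩ := hlead 0 (Pi.single 0 1)
    rw [Pi.single_eq_same, _root_.mul_one] at h2
    rw [← hc, ← h2]
    have h3 := hword 0 (Pi.single 0 1)
    have e1 : (fun l => sec s ((Pi.single 0 1 : Fin (m + 1) → B) l)) = Pi.single 0 (sec s 1) := funext fun l => by
      rw [Pi.single_apply, Pi.single_apply]
      split_ifs
      · rfl
      · exact map_zero _
    rw [show (fun l => sec s ((0 : Fin p → B) l)) = fun _ => 0 from funext fun _ => map_zero _, Prod_zero,
      inv_one, _root_.one_mul, _root_.mul_one, e1, Prod_single, ← Fin.append_left a b (σ 0),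
      ← Prod_single (Fin.append a b) (Fin.castAdd q (σ 0))] at h3
    refine (sec_bijective s).injective ?_
    rw [← congrFun (Prod_pos_injective h.full h3) (Fin.castAdd q (σ 0)), Pi.single_eq_same]
  obtain ⟨c, hc', hz, hl⟩ := hlead x' y'
  rw [hc] at hc'
  subst hc'
  rw [_root_.one_mul] at hl
  have h1 : D.Prod (Fin.append a b) (fun l => sec s (MvPolynomial.eval
      (Fin.append (Fin.append x' y') (fun l => -x' (Fin.rev l))) (W l))) =
      D.Prod (Fin.append a b) (Fin.append (fun l => sec s (w' l)) fun _ => 0) := by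
    rw [← hword, ← hx', ← hy', Prod_append, Prod_zero, ← comp_Prod, ← comp_Prod, ← GrpObj.comp_inv, ← MonObj.comp_mul,
      ← MonObj.comp_mul, hw, comp_Prod, hw']
    exact (_root_.mul_one _).symm
  have h2 := Prod_pos_injective h.full h1
  rw [comp_Prod, comp_Prod]
  congr 1
  funext l
  simp only [target]
  split_ifs with hlt heq
  · rw [map_zero, congrFun hw' l, ← Fin.append_left (fun l => sec s (w' l)) (fun _ => 0) l,
      ← congrFun h2 (Fin.castAdd q l), hz l hlt]
    exact map_zero _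
  · subst heq
    rw [congrFun hw' (σ 0), congrFun hy' 0, ← Fin.append_left (fun l => sec s (w' l)) (fun _ => 0) (σ 0),
      ← congrFun h2 (Fin.castAdd q (σ 0)), hl]
  · rfl

end

end Groth.Agent.SplitGrp
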