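import Groth.Agent.SplitGrp.Generate

/-!
# Global functions from natural families on affine points
-/

universe u

open CategoryTheory CategoryTheory.Limits MonoidalCategory CartesianMonoidalCategory MonObj GrpObj AlgebraicGeometry

attribute [local instance] CategoryTheory.Hom.monoid CategoryTheory.Hom.group
set_option linter.style.haveILetI false

namespace Groth.Agent.SplitGrp

noncomputable section

variable {S : Scheme.{u}}

/-- Two composites into the affine line agree as soon as the values are compatible. -/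
theorem comp_pt_eq (c : ∀ (B : Type u) [CommRing B] (_ : Spec (CommRingCat.of B) ⟶ S), B)
    (hc : ∀ (B B' : Type u) [CommRing B] [CommRing B'] (φ : B →+* B') (s : Spec (CommRingCat.of B) ⟶ S)
      (s' : Spec (CommRingCat.of B') ⟶ S), Spec.map (CommRingCat.ofHom φ) ≫ s = s' → φ (c B s) = c B' s')
    {T : Scheme.{u}} {B₁ B₂ : Type u} [CommRing B₁] [CommRing B₂] (s₁ : Spec (CommRingCat.of B₁) ⟶ S)
    (s₂ : Spec (CommRingCat.of B₂) ⟶ S) (a : T ⟶ Spec (CommRingCat.of B₁)) (b : T ⟶ Spec (CommRingCat.of B₂))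
    (h : a ≫ s₁ = b ≫ s₂) :
    a ≫ (GrpSchLib.GaPts.ptOfFn (T := pX s₁) (sec s₁ (c B₁ s₁))).left =
      b ≫ (GrpSchLib.GaPts.ptOfFn (T := pX s₂) (sec s₂ (c B₂ s₂))).left := by
  refine Scheme.Cover.hom_ext T.affineCover _ _ fun i => ?_
  obtain ⟨B, hB⟩ : ∃ B : CommRingCat.{u}, T.affineCover.X i = Spec B := ⟨_, rfl⟩
  obtain ⟨iota, hiota⟩ : ∃ iota : Spec B ⟶ T, T.affineCover.f i = eqToHom hB ≫ iota :=
    ⟨eqToHom hB.symm ≫ T.affineCover.f i, by simp⟩
  rw [hiota, Category.assoc, Category.assoc]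
  congr 1
  obtain ⟨φ, hφ⟩ : ∃ φ : CommRingCat.of B₁ ⟶ B, Spec.map φ = iota ≫ a := ⟨_, Spec.map_preimage _⟩
  obtain ⟨ψ, hψ⟩ : ∃ ψ : CommRingCat.of B₂ ⟶ B, Spec.map ψ = iota ≫ b := ⟨_, Spec.map_preimage _⟩
  let s : Spec (CommRingCat.of B) ⟶ S := Spec.map φ ≫ s₁
  have h1 : Spec.map (CommRingCat.ofHom φ.hom) ≫ s₁ = s := rfl
  have h2 : Spec.map (CommRingCat.ofHom ψ.hom) ≫ s₂ = s := by
    show Spec.map ψ ≫ s₂ = Spec.map φ ≫ s₁
    rw [hφ, hψ, Category.assoc, Category.assoc, h]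
  have key : mor φ.hom h1 ≫ GrpSchLib.GaPts.ptOfFn (T := pX s₁) (sec s₁ (c B₁ s₁)) =
      mor ψ.hom h2 ≫ GrpSchLib.GaPts.ptOfFn (T := pX s₂) (sec s₂ (c B₂ s₂)) := by
    refine GrpSchLib.GaPts.gaFn_injective ?_
    show Red.gaFn _ = Red.gaFn _
    rw [GrpSchLib.GaPts.gaFn_comp, GrpSchLib.GaPts.gaFn_comp, GrpSchLib.GaPts.gaFn_ptOfFn,
      GrpSchLib.GaPts.gaFn_ptOfFn, appTop_mor, appTop_mor, hc _ _ _ _ _ h1, hc _ _ _ _ _ h2]
  have key' := congrArg CommaMorphism.left key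
  rw [← Category.assoc, ← Category.assoc, ← hφ, ← hψ]
  exact key'

/-- A natural family of elements on affine points comes from a global function. -/
theorem exists_global_fn (c : ∀ (B : Type u) [CommRing B] (_ : Spec (CommRingCat.of B) ⟶ S), B)
    (hc : ∀ (B B' : Type u) [CommRing B] [CommRing B'] (φ : B →+* B') (s : Spec (CommRingCat.of B) ⟶ S)
      (s' : Spec (CommRingCat.of B') ⟶ S), Spec.map (CommRingCat.ofHom φ) ≫ s = s' → φ (c B s) = c B' s') :
    ∃ C : Γ(S, ⊤), ∀ (B : Type u) [CommRing B] (s : Spec (CommRingCat.of B) ⟶ S), s.appTop C = sec s (c B s) := by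
  let 𝒰 := S.affineCover
  have hX : ∀ i : 𝒰.I₀, ∃ B : CommRingCat.{u}, 𝒰.X i = Spec B := fun i => ⟨_, rfl⟩
  choose R hR using hX
  let si : ∀ i, Spec (CommRingCat.of (R i)) ⟶ S := fun i => eqToHom (hR i).symm ≫ 𝒰.f i
  let gi : ∀ i, 𝒰.X i ⟶ (Red.Ga S).left := fun i =>
    eqToHom (hR i) ≫ (GrpSchLib.GaPts.ptOfFn (T := pX (si i)) (sec (si i) (c _ (si i)))).left
  have hgi : ∀ i j, pullback.fst (𝒰.f i) (𝒰.f j) ≫ gi i = pullback.snd (𝒰.f i) (𝒰.f j) ≫ gi j := fun i j => by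
    simp only [gi, ← Category.assoc]
    exact comp_pt_eq c hc _ _ _ _ (by simp [si, pullback.condition])
  let g : S ⟶ (Red.Ga S).left := 𝒰.glueMorphisms gi hgi
  have hg : ∀ (B : Type u) [CommRing B] (s : Spec (CommRingCat.of B) ⟶ S),
      s ≫ g = (GrpSchLib.GaPts.ptOfFn (T := pX s) (sec s (c B s))).left := by
    intro B _ s
    refine Scheme.Cover.hom_ext (𝒰.pullback₁ s) _ _ fun i => ?_
    show pullback.fst s (𝒰.f i) ≫ s ≫ g = pullback.fst s (𝒰.f i) ≫ _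
    rw [← Category.assoc, pullback.condition, Category.assoc, Scheme.Cover.ι_glueMorphisms]
    simp only [gi, ← Category.assoc]
    exact comp_pt_eq c hc _ _ _ _ (by simp [si, pullback.condition])
  let pt : 𝟙_ (Over S) ⟶ Red.Ga S := Over.homMk g (by
    refine Scheme.Cover.hom_ext 𝒰 _ _ fun i => ?_
    rw [← Category.assoc, Scheme.Cover.ι_glueMorphisms]
    simp only [gi, Category.assoc]
    rw [Over.w]
    show eqToHom (hR i) ≫ si i = 𝒰.f i ≫ 𝟙 S
    simp [si])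
  refine ⟨Red.gaFn pt, fun B _ s => ?_⟩
  have h1 : (Over.homMk s (Category.comp_id s) : pX s ⟶ 𝟙_ (Over S)) ≫ pt =
      GrpSchLib.GaPts.ptOfFn (T := pX s) (sec s (c B s)) := Over.OverMorphism.ext (hg B s)
  have h2 := congrArg Red.gaFn h1
  rw [GrpSchLib.GaPts.gaFn_comp, GrpSchLib.GaPts.gaFn_ptOfFn] at h2
  exact h2

end

end Groth.Agent.SplitGrp
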