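import Groth.Agent.SplitGrp.Ordered
import Groth.Agent.SplitGrp.GlueFn
import Mathlib.Data.Finsupp.Order

/-!
# The group law of a unipotent subgroup in coordinates
-/

universe u

open CategoryTheory CategoryTheory.Limits MonoidalCategory CartesianMonoidalCategory MonObj GrpObj AlgebraicGeometry

attribute [local instance] CategoryTheory.Hom.monoid CategoryTheory.Hom.group
set_option linter.style.haveILetI false
set_option linter.unusedSectionVars false

namespace Groth.Agent.SplitGrp

noncomputable section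

theorem eq_of_forall_sec {S : Scheme.{u}} {C C' : Γ(S, ⊤)}
    (h : ∀ (B : Type u) [CommRing B] (s : Spec (CommRingCat.of B) ⟶ S), s.appTop C = s.appTop C') : C = C' := by
  have h1 : GrpSchLib.GaPts.ptOfFn (S := S) (T := 𝟙_ (Over S)) C = GrpSchLib.GaPts.ptOfFn (T := 𝟙_ (Over S)) C' := by
    refine hom_ext_rings fun B _ s x => GrpSchLib.GaPts.gaFn_injective ?_
    show Red.gaFn _ = Red.gaFn _
    rw [GrpSchLib.GaPts.gaFn_comp, GrpSchLib.GaPts.gaFn_comp, GrpSchLib.GaPts.gaFn_ptOfFn,
      GrpSchLib.GaPts.gaFn_ptOfFn]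
    exact h B x.left
  rw [← GrpSchLib.GaPts.gaFn_ptOfFn (S := S) (T := 𝟙_ (Over S)) C, h1, GrpSchLib.GaPts.gaFn_ptOfFn]

variable {S : Scheme.{u}} {G : Over S} [GrpObj G] {D : Sys G} {lam : D.M →+ ℤ} {n p q : ℕ} {e : Fin n → D.idx}
  {a : Fin p → D.idx} {b : Fin q → D.idx}

/-- The product in coordinates. -/
def IsLaw (a : Fin p → D.idx) {B : Type u} [CommRing B] (s : Spec (CommRingCat.of B) ⟶ S)
    (P : Fin p → MvPolynomial (Fin p ⊕ Fin p) B) : Prop :=
  ∀ (B' : Type u) [CommRing B'] (φ : B →+* B') (s' : Spec (CommRingCat.of B') ⟶ S),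
    Spec.map (CommRingCat.ofHom φ) ≫ s = s' → ∀ x y : Fin p → B',
      D.Prod a (fun l => sec s' (x l)) * D.Prod a (fun l => sec s' (y l)) =
        D.Prod a fun l => sec s' (MvPolynomial.eval₂ φ (Sum.elim x y) (P l))

theorem IsClosedPos.exists_law (h : IsClosedPos lam e a b) {B : Type u} [CommRing B]
    (s : Spec (CommRingCat.of B) ⟶ S) :
    ∃ P : Fin p → MvPolynomial (Fin p ⊕ Fin p) B, IsLaw a s P ∧
      ∀ l d, MvPolynomial.coeff d (P l) ≠ 0 → d ≠ 0 ∧ D.r (a l) = monWt (fun i => D.r (a (Sum.elim id id i))) d := by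
  classical
  obtain ⟨W, hW⟩ := Groth.Agent.SplitGrp.exists_word h.full
    (fun l => a (Fin.append (id : Fin p → Fin p) id l)) (fun l => h.pos _) s
  refine ⟨fun l => MvPolynomial.rename finSumFinEquiv.symm (W (Fin.castAdd q l)), ?_, ?_⟩
  · intro B' _ φ s' hs' x y
    have h1 := hW B' s' (MvPolynomial.eval₂Hom φ (Fin.append x y))
      ((word_comp_C s _ φ (RingHom.ext fun r => MvPolynomial.eval₂Hom_C _ _ r)).trans hs')
    have hz : ∀ j, MvPolynomial.eval₂Hom φ (Fin.append x y) (W (Fin.natAdd p j)) = 0 := fun j => by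
      rw [show W (Fin.natAdd p j) = 0 from MvPolynomial.ext _ _ fun d => ?_, map_zero]
      rw [MvPolynomial.coeff_zero]
      by_contra hd
      obtain ⟨i, hi⟩ := h.closed _ _ (fun i => d i) (hW.weight h.full hd)
      rw [Fin.append_right] at hi
      exact Fin.ne_of_lt (show (Fin.castAdd q i : ℕ) < Fin.natAdd p j by
        simp only [Fin.val_castAdd, Fin.val_natAdd]; omega)
        (h.full.inj' (by rw [Fin.append_left, Fin.append_right]; exact hi))
    rw [show (fun i => sec s' (MvPolynomial.eval₂Hom φ (Fin.append x y) (MvPolynomial.X i))) =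
        Fin.append (fun l => sec s' (x l)) (fun l => sec s' (y l)) from funext fun i =>
          Fin.addCases (fun j => by simp) (fun j => by simp [-Fin.natAdd_eq_addNat]) i,
      show (fun l => a (Fin.append (id : Fin p → Fin p) id l)) = Fin.append a a from funext fun i =>
          Fin.addCases (fun j => by rw [Fin.append_left, Fin.append_left]; rfl)
            (fun j => by rw [Fin.append_right, Fin.append_right]; rfl) i,
      Prod_append,
      show (fun l => sec s' (MvPolynomial.eval₂Hom φ (Fin.append x y) (W l))) =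
        Fin.append (fun l => sec s' (MvPolynomial.eval₂Hom φ (Fin.append x y) (W (Fin.castAdd q l)))) (fun _ => 0) from
        funext fun i => Fin.addCases (fun j => by simp) (fun j => by rw [hz, Fin.append_right]; exact map_zero _) i,
      Prod_append, Prod_zero] at h1
    refine (h1.trans (_root_.mul_one _)).trans ?_
    congr 1
    funext l
    rw [MvPolynomial.eval₂_rename, show Sum.elim x y ∘ finSumFinEquiv.symm = Fin.append x y from funext fun i =>
      Fin.addCases (fun j => by simp) (fun j => by simp [-Fin.natAdd_eq_addNat]) i]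
    rfl
  · intro l d hd
    obtain ⟨u, hu⟩ : ∃ u, Finsupp.mapDomain finSumFinEquiv.symm u = d :=
      ⟨Finsupp.mapDomain finSumFinEquiv d, by rw [← Finsupp.mapDomain_comp, Equiv.symm_comp_self, Finsupp.mapDomain_id]⟩
    subst hu
    rw [MvPolynomial.coeff_rename_mapDomain _ finSumFinEquiv.symm.injective] at hd
    refine ⟨fun h0 => hd ?_, ?_⟩
    · rw [(Finsupp.mapDomain_injective finSumFinEquiv.symm.injective) (h0.trans Finsupp.mapDomain_zero.symm)]
      exact hW.coeff_zero_eq h.full _
    · have h1 := hW.weight h.full hd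
      rw [Fin.append_left] at h1
      rw [h1, monWt, monWt, ← Equiv.sum_comp finSumFinEquiv.symm]
      refine Finset.sum_congr rfl fun i _ => ?_
      rw [Finsupp.mapDomain_apply finSumFinEquiv.symm.injective]
      congr 2
      congr 1
      refine Fin.addCases (fun j => by simp) (fun j => by simp [-Fin.natAdd_eq_addNat]) i

theorem IsLaw.unique (h : IsClosedPos lam e a b) {B : Type u} [CommRing B] {s : Spec (CommRingCat.of B) ⟶ S}
    {P P' : Fin p → MvPolynomial (Fin p ⊕ Fin p) B} (hP : IsLaw a s P) (hP' : IsLaw a s P') : P = P' := by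
  let sP : Spec (CommRingCat.of (MvPolynomial (Fin p ⊕ Fin p) B)) ⟶ S :=
    Spec.map (CommRingCat.ofHom MvPolynomial.C) ≫ s
  have h1 := hP _ MvPolynomial.C sP rfl (fun l => MvPolynomial.X (Sum.inl l)) fun l => MvPolynomial.X (Sum.inr l)
  have h2 := hP' _ MvPolynomial.C sP rfl (fun l => MvPolynomial.X (Sum.inl l)) fun l => MvPolynomial.X (Sum.inr l)
  rw [h1] at h2
  have hX : Sum.elim (fun l => (MvPolynomial.X (Sum.inl l) : MvPolynomial (Fin p ⊕ Fin p) B))
      (fun l => MvPolynomial.X (Sum.inr l)) = MvPolynomial.X := funext fun i => by cases i <;> rfl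
  funext l
  have h3 := (sec_bijective sP).injective (congrFun (h.Prod_inj h2) l)
  rwa [hX, MvPolynomial.eval₂_eta, MvPolynomial.eval₂_eta] at h3

theorem IsLaw.map {B B' : Type u} [CommRing B] [CommRing B'] (φ : B →+* B') {s : Spec (CommRingCat.of B) ⟶ S}
    {s' : Spec (CommRingCat.of B') ⟶ S} (hs : Spec.map (CommRingCat.ofHom φ) ≫ s = s')
    {P : Fin p → MvPolynomial (Fin p ⊕ Fin p) B} (hP : IsLaw a s P) :
    IsLaw a s' fun l => MvPolynomial.map φ (P l) := by
  intro B'' _ ψ s'' hs'' x y
  rw [hP B'' (ψ.comp φ) s'' (by rw [CommRingCat.ofHom_comp, Spec.map_comp, Category.assoc, hs, hs'']) x y]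
  congr 1
  funext l
  rw [MvPolynomial.eval₂_map]

/-- The product in coordinates over the base. -/
theorem IsClosedPos.exists_global_law (h : IsClosedPos lam e a b) :
    ∃ Q : Fin p → MvPolynomial (Fin p ⊕ Fin p) Γ(S, ⊤),
      (∀ (B : Type u) [CommRing B] (s : Spec (CommRingCat.of B) ⟶ S) (P : Fin p → MvPolynomial (Fin p ⊕ Fin p) B),
        IsLaw a s P → ∀ l d, s.appTop (MvPolynomial.coeff d (Q l)) = sec s (MvPolynomial.coeff d (P l))) := by
  classical
  choose P hP hwt using fun (B : Type u) (_ : CommRing B) (s : Spec (CommRingCat.of B) ⟶ S) => h.exists_law s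
  have hglue : ∀ (l : Fin p) (d : Fin p ⊕ Fin p →₀ ℕ), ∃ C : Γ(S, ⊤), ∀ (B : Type u) [CommRing B]
      (s : Spec (CommRingCat.of B) ⟶ S), s.appTop C = sec s (MvPolynomial.coeff d (P B inferInstance s l)) := by
    intro l d
    refine exists_global_fn (fun B _ s => MvPolynomial.coeff d (P B inferInstance s l)) fun B B' _ _ φ s s' hs => ?_
    rw [← congrFun (((hP B _ s).map φ hs).unique h (hP B' _ s')) l, MvPolynomial.coeff_map]
  choose C hC using hglue
  let bd : Fin p ⊕ Fin p →₀ ℕ := Finsupp.equivFunOnFinite.symm fun _ => ∑ l, (lam (D.r (a l))).toNat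
  refine ⟨fun l => ∑ d ∈ Finset.Iic bd, MvPolynomial.monomial d (C l d), fun B _ s P' hP' l d => ?_⟩
  obtain rfl := hP'.unique h (hP B inferInstance s)
  simp only [MvPolynomial.coeff_sum, MvPolynomial.coeff_monomial, Finset.sum_ite_eq']
  by_cases hd : d ∈ Finset.Iic bd
  · rw [if_pos hd, hC]
  · rw [if_neg hd, map_zero]
    refine (map_zero (Scheme.ΓSpecIso (CommRingCat.of B)).inv.hom).symm.trans (congrArg _ (Eq.symm ?_))
    by_contra hne
    refine hd (Finset.mem_Iic.2 fun i => ?_)
    obtain ⟨-, hw⟩ := hwt B _ s l d hne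
    have hsum : lam (D.r (a l)) = ∑ x, (d x : ℤ) * lam (D.r (a (Sum.elim id id x))) := by
      rw [hw, monWt, map_sum]
      exact Finset.sum_congr rfl fun x _ => by rw [map_zsmul, smul_eq_mul]
    have h1 : (d i : ℤ) * lam (D.r (a (Sum.elim id id i))) ≤ lam (D.r (a l)) := hsum ▸
      Finset.single_le_sum (fun x _ => mul_nonneg (Int.natCast_nonneg _) (h.pos _).le) (Finset.mem_univ i)
    have h2 : (lam (D.r (a l))).toNat ≤ ∑ l, (lam (D.r (a l))).toNat :=
      Finset.single_le_sum (f := fun l => (lam (D.r (a l))).toNat) (fun x _ => Nat.zero_le _) (Finset.mem_univ l)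
    have h3 := h.pos (Sum.elim id id i)
    show d i ≤ ∑ l, (lam (D.r (a l))).toNat
    have h4 : (d i : ℤ) ≤ lam (D.r (a l)) := by nlinarith
    omega

/-- The ring map of an affine point on global functions. -/
def resHom {B : Type u} [CommRing B] (s : Spec (CommRingCat.of B) ⟶ S) : Γ(S, ⊤) →+* B :=
  (s.appTop ≫ (Scheme.ΓSpecIso (CommRingCat.of B)).hom).hom

theorem sec_resHom {B : Type u} [CommRing B] (s : Spec (CommRingCat.of B) ⟶ S) (C : Γ(S, ⊤)) :
    sec s (resHom s C) = s.appTop C :=
  (Scheme.ΓSpecIso (CommRingCat.of B)).hom_inv_id_apply _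

theorem map_resHom {B : Type u} [CommRing B] (s : Spec (CommRingCat.of B) ⟶ S)
    {Q : MvPolynomial (Fin p ⊕ Fin p) Γ(S, ⊤)} {P : MvPolynomial (Fin p ⊕ Fin p) B}
    (hQ : ∀ d, s.appTop (MvPolynomial.coeff d Q) = sec s (MvPolynomial.coeff d P)) :
    MvPolynomial.map (resHom s) Q = P :=
  MvPolynomial.ext _ _ fun d => (sec_bijective s).injective (by rw [MvPolynomial.coeff_map, sec_resHom, hQ])

theorem IsLaw.linear_coeff (h : IsClosedPos lam e a b) {B : Type u} [CommRing B] {s : Spec (CommRingCat.of B) ⟶ S}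
    {P : Fin p → MvPolynomial (Fin p ⊕ Fin p) B} (hP : IsLaw a s P) (v : Fin p ⊕ Fin p) :
    MvPolynomial.coeff (Finsupp.single v 1) (P (Sum.elim id id v)) = 1 := by
  classical
  obtain ⟨P', hP', hwt⟩ := h.exists_law s
  obtain rfl := hP.unique h hP'
  let k := Sum.elim id id v
  let x : Fin p ⊕ Fin p → B := Pi.single v 1
  have h1 := hP B (RingHom.id B) s (by simp) (x ∘ Sum.inl) (x ∘ Sum.inr)
  have hsec : ∀ (l : Fin p), (fun j => sec s ((Pi.single l 1 : Fin p → B) j)) = Pi.single l (sec s 1) := fun l =>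
    funext fun j => by
      rw [Pi.single_apply, Pi.single_apply]
      split_ifs
      · rfl
      · exact map_zero _
  have hl : D.Prod a (fun l => sec s ((x ∘ Sum.inl) l)) * D.Prod a (fun l => sec s ((x ∘ Sum.inr) l)) =
      D.Prod a (Pi.single k (sec s 1)) := by
    cases v with
    | inl j =>
      rw [show x ∘ Sum.inl = Pi.single j 1 from funext fun l => by simp [x, Pi.single_apply],
        show x ∘ Sum.inr = 0 from funext fun l => by simp [x], hsec]
      simp only [Pi.zero_apply, sec, map_zero, Prod_zero]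
      exact _root_.mul_one _
    | inr j =>
      rw [show x ∘ Sum.inr = Pi.single j 1 from funext fun l => by simp [x, Pi.single_apply],
        show x ∘ Sum.inl = 0 from funext fun l => by simp [x], hsec]
      simp only [Pi.zero_apply, sec, map_zero, Prod_zero]
      exact _root_.one_mul _
  rw [hl, Sum.elim_comp_inl_inr] at h1
  have h2 := congrFun (h.Prod_inj h1) k
  rw [Pi.single_eq_same] at h2
  have h3 := (sec_bijective s).injective h2
  rw [h3, show MvPolynomial.eval₂ (RingHom.id B) x (P k) = MvPolynomial.eval x (P k) from rfl, MvPolynomial.eval_eq',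
    Finset.sum_eq_single (Finsupp.single v 1) (fun d hd hne => ?_)
      (fun hn => by rw [MvPolynomial.notMem_support_iff.1 hn, zero_mul]),
    Finset.prod_eq_single_of_mem _ (Finset.mem_univ v) (fun i _ hi => by rw [Finsupp.single_eq_of_ne hi, pow_zero]),
    Finsupp.single_eq_same, pow_one, show x v = 1 from Pi.single_eq_same v 1, _root_.mul_one]
  obtain ⟨hd0, hw⟩ := hwt k d (MvPolynomial.mem_support_iff.1 hd)
  by_cases hsupp : ∀ i, i ≠ v → d i = 0
  · exfalso
    apply hne
    have hd' : d = Finsupp.single v (d v) := Finsupp.ext fun i => by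
      by_cases hi : i = v
      · subst hi; simp
      · rw [Finsupp.single_eq_of_ne hi, hsupp i hi]
    rw [monWt, Finset.sum_eq_single v (fun i _ hi => by rw [hsupp i hi]; simp) (by simp)] at hw
    have h4 := congrArg lam hw
    rw [map_zsmul, smul_eq_mul] at h4
    have h5 : ((d v : ℤ) - 1) * lam (D.r (a k)) = 0 := by rw [sub_mul, _root_.one_mul, ← h4, sub_self]
    have h6 : (d v : ℤ) = 1 := by
      rcases mul_eq_zero.1 h5 with h6 | h6
      · omega
      · exact absurd h6 (h.pos k).ne'
    rw [hd', show d v = 1 by omega]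
  · push_neg at hsupp
    obtain ⟨i, hi, hdi⟩ := hsupp
    rw [Finset.prod_eq_zero (Finset.mem_univ i) (by simp [x, hi, hdi]), mul_zero]

end

end Groth.Agent.SplitGrp
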