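import Groth.Agent.SplitGrp.Unip
import Groth.Agent.GrpSchLib.RankOneNonComm

/-!
# Leading coordinates in unipotent subgroups; no subtori
-/

universe u

open CategoryTheory CategoryTheory.Limits MonoidalCategory CartesianMonoidalCategory MonObj GrpObj AlgebraicGeometry

attribute [local instance] CategoryTheory.Hom.monoid CategoryTheory.Hom.group
set_option linter.style.haveILetI false
set_option linter.unusedSectionVars false

namespace Groth.Agent.SplitGrp

noncomputable section

variable {S : Scheme.{u}} {G : Over S} [GrpObj G] {D : Sys G} {lam : D.M →+ ℤ} {n p q : ℕ} {e : Fin n → D.idx}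
  {a : Fin p → D.idx} {b : Fin q → D.idx}

/-- The only monomials of minimal weight are the linear ones. -/
theorem single_of_weight (h : IsClosedPos lam e a b) {k : ℕ} (f : Fin k → Fin p) (i : Fin p) (d : Fin k →₀ ℕ)
    (hd : d ≠ 0) (hw : D.r (a i) = monWt (fun j => D.r (a (f j))) d)
    (hge : ∀ j, d j ≠ 0 → lam (D.r (a i)) ≤ lam (D.r (a (f j)))) : ∃ j, f j = i ∧ d = Finsupp.single j 1 := by
  classical
  obtain ⟨j, hj⟩ : ∃ j, d j ≠ 0 := by
    by_contra hh
    push_neg at hh
    exact hd (Finsupp.ext hh)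
  have hsum : lam (D.r (a i)) = ∑ x, (d x : ℤ) * lam (D.r (a (f x))) := by
    rw [hw, monWt, map_sum]
    exact Finset.sum_congr rfl fun x _ => by rw [map_zsmul, smul_eq_mul]
  have hnn : ∀ x, 0 ≤ (d x : ℤ) * lam (D.r (a (f x))) := fun x =>
    mul_nonneg (Int.natCast_nonneg _) (h.pos _).le
  rw [← Finset.add_sum_erase _ _ (Finset.mem_univ j)] at hsum
  have hrest : 0 ≤ ∑ x ∈ Finset.univ.erase j, (d x : ℤ) * lam (D.r (a (f x))) := Finset.sum_nonneg fun x _ => hnn x
  have hpj := h.pos (f j)
  have hgej := hge j hj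
  have hdj : (1 : ℤ) ≤ (d j : ℤ) := by exact_mod_cast Nat.one_le_iff_ne_zero.2 hj
  have hd1 : d j = 1 := by
    have : (d j : ℤ) ≤ 1 := by nlinarith
    omega
  rw [hd1, Nat.cast_one, _root_.one_mul] at hsum
  have h0 : ∑ x ∈ Finset.univ.erase j, (d x : ℤ) * lam (D.r (a (f x))) = 0 := by linarith
  have hds : d = Finsupp.single j 1 := Finsupp.ext fun x => by
    by_cases hx : x = j
    · subst hx; simp [hd1]
    · rw [Finsupp.single_eq_of_ne hx]
      have h1 := (Finset.sum_eq_zero_iff_of_nonneg fun x _ => hnn x).1 h0 x (Finset.mem_erase.2 ⟨hx, Finset.mem_univ _⟩)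
      simpa [(h.pos (f x)).ne'] using h1
  refine ⟨j, ?_, hds⟩
  rw [hds, monWt, Finset.sum_eq_single j (fun x _ hx => by simp [Finsupp.single_eq_of_ne hx]) (by simp)] at hw
  simp only [Finsupp.single_eq_same, Nat.cast_one, one_smul] at hw
  have h3 : Fin.castAdd q i = Fin.castAdd q (f j) := h.full.inj' (by
    rw [Fin.append_left, Fin.append_left]; exact D.r_inj hw)
  exact (Fin.castAdd_injective _ _ h3).symm

/-- Coordinates of minimal level add up. -/
theorem IsClosedPos.coord_mul (h : IsClosedPos lam e a b) {X : Over S} (v v' w : Fin p → Γ(X.left, ⊤))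
    (hw : D.Prod a v * D.Prod a v' = D.Prod a w) (i : Fin p)
    (hv : ∀ j, lam (D.r (a j)) < lam (D.r (a i)) → v j = 0)
    (hv' : ∀ j, lam (D.r (a j)) < lam (D.r (a i)) → v' j = 0) : w i = v i + v' i := by
  classical
  refine congrFun (Prod_pos_injective h.full
    (w := Fin.append w (fun _ => (0 : Γ(X.left, ⊤)))) (w' := Fin.append (Function.update w i (v i + v' i)) (fun _ => 0))
    (hom_ext_rings fun B _ s x => ?_)) (Fin.castAdd q i) |> fun e => by simpa using e
  obtain ⟨W, hW, hev⟩ := exists_word_coords h.full (fun l => a (Fin.append (id : Fin p → Fin p) id l))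
    (fun l => h.pos _) s
  obtain ⟨c, hc⟩ := exists_sec s (fun l => x.left.appTop (Fin.append v v' l))
  obtain ⟨z, hz⟩ := exists_sec s (fun l => x.left.appTop (w l))
  have hfa : (fun l => a (Fin.append (id : Fin p → Fin p) id l)) = Fin.append a a := funext fun l =>
    Fin.addCases (fun j => by rw [Fin.append_left, Fin.append_left]; rfl)
      (fun j => by rw [Fin.append_right, Fin.append_right]; rfl) l
  have h1 : D.Prod (Fin.append a b) (fun l => sec s (MvPolynomial.eval c (W l))) =
      D.Prod (Fin.append a b) (Fin.append (fun l => sec s (z l)) fun _ => 0) := by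
    rw [← hev, ← hc, hfa, ← comp_Prod, Prod_append, hw, comp_Prod, hz, Prod_append, Prod_zero]
    exact (_root_.mul_one _).symm
  have h2 := Prod_pos_injective h.full h1
  have hlin : ∀ (c : Fin (p + p) → B), (∀ j, lam (D.r (a j)) < lam (D.r (a i)) →
      c (Fin.castAdd p j) = 0 ∧ c (Fin.natAdd p j) = 0) → MvPolynomial.eval c (W (Fin.castAdd q i)) =
        MvPolynomial.coeff (Finsupp.single (Fin.castAdd p i) 1) (W (Fin.castAdd q i)) * c (Fin.castAdd p i) +
          MvPolynomial.coeff (Finsupp.single (Fin.natAdd p i) 1) (W (Fin.castAdd q i)) * c (Fin.natAdd p i) := by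
    intro c hc0
    rw [MvPolynomial.eval_eq']
    have hsub : ∀ d ∈ (W (Fin.castAdd q i)).support,
        MvPolynomial.coeff d (W (Fin.castAdd q i)) * ∏ l, c l ^ d l ≠ 0 →
          d = Finsupp.single (Fin.castAdd p i) 1 ∨ d = Finsupp.single (Fin.natAdd p i) 1 := by
      intro d hd hne
      obtain ⟨hd0, hwt⟩ := hW _ d (MvPolynomial.mem_support_iff.1 hd)
      rw [Fin.append_left] at hwt
      obtain ⟨l, hl, rfl⟩ := single_of_weight h (Fin.append (id : Fin p → Fin p) id) i d hd0 hwt fun l hl => by
        by_contra hlt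
        push_neg at hlt
        refine hne ?_
        rw [Finset.prod_eq_zero (Finset.mem_univ l), mul_zero]
        refine Fin.addCases (fun j hlt hl => ?_) (fun j hlt hl => ?_) l hlt hl
        · rw [Fin.append_left] at hlt; rw [(hc0 j hlt).1, zero_pow hl]
        · rw [Fin.append_right] at hlt; rw [(hc0 j hlt).2, zero_pow hl]
      revert hl
      refine Fin.addCases (fun j hl => ?_) (fun j hl => ?_) l
      · rw [Fin.append_left] at hl; subst hl; exact Or.inl rfl
      · rw [Fin.append_right] at hl; subst hl; exact Or.inr rfl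
    have hne2 : Finsupp.single (Fin.castAdd p i) (1 : ℕ) ≠ Finsupp.single (Fin.natAdd p i) 1 := fun hh =>
      Fin.ne_of_lt (show (Fin.castAdd p i : ℕ) < Fin.natAdd p i by simp only [Fin.val_castAdd, Fin.val_natAdd]; omega)
        (Finsupp.single_left_injective one_ne_zero hh)
    rw [Finset.sum_subset (Finset.subset_union_left (s₂ := {Finsupp.single (Fin.castAdd p i) 1,
        Finsupp.single (Fin.natAdd p i) 1})) (fun d _ hd => by
        rw [MvPolynomial.notMem_support_iff.1 hd, zero_mul]),
      ← Finset.sum_subset Finset.subset_union_right (fun d hd hd' => by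
        by_contra hne
        rcases Finset.mem_union.1 hd with hd | hd
        · exact hd' (by rcases hsub d hd hne with rfl | rfl <;> simp)
        · exact hd' hd),
      Finset.sum_pair hne2]
    congr 2 <;>
    · rw [Finset.prod_eq_single_of_mem _ (Finset.mem_univ _)
        (fun l _ hl => by rw [Finsupp.single_eq_of_ne hl, pow_zero]), Finsupp.single_eq_same, pow_one]
  have hcoef : MvPolynomial.coeff (Finsupp.single (Fin.castAdd p i) 1) (W (Fin.castAdd q i)) = 1 ∧
      MvPolynomial.coeff (Finsupp.single (Fin.natAdd p i) 1) (W (Fin.castAdd q i)) = 1 := by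
    constructor
    all_goals
      first
        | (have h3 := hev (Pi.single (Fin.castAdd p i) 1)
           have h4 := hlin (Pi.single (Fin.castAdd p i) 1) fun j hj => ⟨Pi.single_eq_of_ne (fun hh =>
             (hj.ne (by rw [Fin.castAdd_injective _ _ hh]))) _, Pi.single_eq_of_ne (fun hh => Fin.ne_of_lt
             (show (Fin.castAdd p i : ℕ) < Fin.natAdd p j by simp only [Fin.val_castAdd, Fin.val_natAdd]; omega) hh.symm) _⟩
           rw [Pi.single_eq_same, Pi.single_eq_of_ne (fun hh => Fin.ne_of_lt
             (show (Fin.castAdd p i : ℕ) < Fin.natAdd p i by simp only [Fin.val_castAdd, Fin.val_natAdd]; omega) hh.symm), mul_zero, add_zero,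
             _root_.mul_one] at h4
           rw [← h4]
           exact coeff_eq_one h (Fin.castAdd p i) i W h3 (by rw [Fin.append_left]; rfl))
        | (have h3 := hev (Pi.single (Fin.natAdd p i) 1)
           have h4 := hlin (Pi.single (Fin.natAdd p i) 1) fun j hj => ⟨Pi.single_eq_of_ne (fun hh => Fin.ne_of_lt
             (show (Fin.castAdd p j : ℕ) < Fin.natAdd p i by simp only [Fin.val_castAdd, Fin.val_natAdd]; omega) hh) _, Pi.single_eq_of_ne (fun hh =>
             (hj.ne (by rw [Fin.natAdd_injective _ _ hh]))) _⟩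
           rw [Pi.single_eq_same, Pi.single_eq_of_ne (fun hh => Fin.ne_of_lt
             (show (Fin.castAdd p i : ℕ) < Fin.natAdd p i by simp only [Fin.val_castAdd, Fin.val_natAdd]; omega) hh), mul_zero, zero_add,
             _root_.mul_one] at h4
           rw [← h4]
           exact coeff_eq_one h (Fin.natAdd p i) i W h3 (by rw [Fin.append_right]; rfl))
  have h5 := hlin c fun j hj => by
    constructor <;> refine (sec_bijective s).injective ?_
    · rw [← congrFun hc (Fin.castAdd p j), Fin.append_left, hv j hj, map_zero]; exact (map_zero _).symm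
    · rw [← congrFun hc (Fin.natAdd p j), Fin.append_right, hv' j hj, map_zero]; exact (map_zero _).symm
  rw [hcoef.1, hcoef.2, _root_.one_mul, _root_.one_mul] at h5
  have h6 : sec s (z i) = x.left.appTop (v i + v' i) := by
    have := congrFun h2 (Fin.castAdd q i)
    rw [Fin.append_left] at this
    rw [← this, h5, map_add]
    refine (map_add _ _ _).trans (congrArg₂ (· + ·) ?_ ?_)
    · rw [← Fin.append_left v v' i]; exact (congrFun hc _).symm
    · rw [← Fin.append_right v v' i]; exact (congrFun hc _).symm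
  rw [comp_Prod, comp_Prod]
  congr 1
  funext l
  refine Fin.addCases (fun j => ?_) (fun j => by simp) l
  rw [Fin.append_left, Fin.append_left]
  by_cases hj : j = i
  · subst hj
    rw [Function.update_self, ← h6]
    exact congrFun hz j
  · rw [Function.update_of_ne hj]
where
  coeff_eq_one (h : IsClosedPos lam e a b) {B : Type u} [CommRing B] {s : Spec (CommRingCat.of B) ⟶ S}
      (l : Fin (p + p)) (i : Fin p) (W : Fin (p + q) → MvPolynomial (Fin (p + p)) B)
      (h3 : D.Prod (fun l => a (Fin.append (id : Fin p → Fin p) id l)) (fun l' => sec s ((Pi.single l 1 : Fin (p + p) → B) l')) =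
        D.Prod (Fin.append a b) fun l' => sec s (MvPolynomial.eval (Pi.single l 1) (W l')))
      (hl : Fin.append (id : Fin p → Fin p) id l = i) :
      MvPolynomial.eval (Pi.single l 1) (W (Fin.castAdd q i)) = 1 := by
    classical
    have e1 : (fun l' => sec s ((Pi.single l 1 : Fin (p + p) → B) l')) = Pi.single l (sec s 1) := funext fun l' => by
      rw [Pi.single_apply, Pi.single_apply]
      split_ifs
      · rfl
      · exact map_zero _
    rw [e1, Prod_single, hl, ← Fin.append_left a b i, ← Prod_single (Fin.append a b) (Fin.castAdd q i)] at h3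
    refine (sec_bijective s).injective ?_
    rw [← congrFun (Prod_pos_injective h.full h3) (Fin.castAdd q i), Pi.single_eq_same]

/-- The coordinates of a point of the subgroup. -/
abbrev IsClosedPos.cd (h : IsClosedPos lam e a b) {X : Over S} (x : X ⟶ UObj h) : Fin p → Γ(X.left, ⊤) :=
  coord (n := p) (show X ⟶ RedSub.pow (Red.Ga S) p from x)

theorem IsClosedPos.Prod_cd (h : IsClosedPos lam e a b) {X : Over S} (x : X ⟶ UObj h) :
    D.Prod a (h.cd x) = x ≫ h.incl :=
  (comp_vmap (a := a) (show X ⟶ RedSub.pow (Red.Ga S) p from x)).symm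

theorem IsClosedPos.cd_comp (h : IsClosedPos lam e a b) {X X' : Over S} (f : X' ⟶ X) (x : X ⟶ UObj h) :
    h.cd (f ≫ x) = fun l => f.left.appTop (h.cd x l) :=
  coord_comp f (show X ⟶ RedSub.pow (Red.Ga S) p from x)

/-- No torus maps non-trivially into the subgroup. -/
theorem IsClosedPos.hom_torus_eq_one (h : IsClosedPos lam e a b) {K : Type u} [Field K] [IsAlgClosed K]
    (k : Spec (CommRingCat.of K) ⟶ S) {T' : Over (Spec (CommRingCat.of K))} [GrpObj T'] (hT' : Red.IsTorus T')
    (j : T' ⟶ Red.bc k (UObj h)) [IsMonHom j] : j = 1 := by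
  let X : Over S := (Over.map k).obj T'
  let co : ∀ {Y : Over (Spec (CommRingCat.of K))}, (Y ⟶ T') → Fin p → Γ(((Over.map k).obj Y).left, ⊤) :=
    fun y => h.cd (DSPtsLib.theta k (y ≫ j))
  have hco : ∀ {Y : Over (Spec (CommRingCat.of K))} (y : Y ⟶ T') (l : Fin p),
      co y l = ((Over.map k).map y).left.appTop (h.cd (DSPtsLib.theta k j) l) := fun y l => by
    simp only [co, DSPtsLib.theta_comp, h.cd_comp]
  suffices hz : ∀ (N : ℕ) (i : Fin p), (lam (D.r (a i))).toNat = N → h.cd (DSPtsLib.theta k j) i = 0 by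
    apply (DSPtsLib.theta_bijective k).injective
    refine coord_injective (n := p) (funext fun i => ?_)
    refine Eq.trans ?_ ((hz _ i rfl).trans ?_) 
    · rfl
    · have h1 : DSPtsLib.theta k (1 : T' ⟶ Red.bc k (UObj h)) ≫ h.incl = 1 := by
        rw [GrpSchLib.RankOne.theta_one, MonObj.one_comp]
      have h2 := congrFun (h.Prod_inj (w := coord (DSPtsLib.theta k (1 : T' ⟶ Red.bc k (UObj h))))
        (w' := fun _ => 0) (by rw [← comp_vmap, Prod_zero]; exact h1)) i
      exact h2.symm
  intro N
  induction N using Nat.strong_induction_on with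
  | h N ih =>
    intro i hi
    have hlow : ∀ {Y : Over (Spec (CommRingCat.of K))} (y : Y ⟶ T') (l : Fin p),
        lam (D.r (a l)) < lam (D.r (a i)) → co y l = 0 := fun y l hl => by
      rw [hco, ih _ (by have := h.pos l; omega) l rfl, map_zero]
    let φ : T' ⟶ Red.Ga (Spec (CommRingCat.of K)) := GrpSchLib.GaPts.ptOfFn (T := T') (h.cd (DSPtsLib.theta k j) i)
    have hval : ∀ {Y : Over (Spec (CommRingCat.of K))} (y : Y ⟶ T'), Red.gaFn (y ≫ φ) = co y i := fun y => by
      rw [GrpSchLib.GaPts.gaFn_comp, GrpSchLib.GaPts.gaFn_ptOfFn, hco]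
      rfl
    haveI : IsMonHom φ := GrpSchLib.RankOne.isMonHom_of_comp φ fun Y x y => GrpSchLib.GaPts.gaFn_injective (by
      show Red.gaFn _ = Red.gaFn _
      rw [GrpSchLib.GaPts.gaFn_mul, hval, hval, hval]
      refine h.coord_mul (co x) (co y) (co (x * y)) ?_ i (hlow x) (hlow y)
      simp only [co, h.Prod_cd]
      rw [show (x * y) ≫ j = (x ≫ j) * (y ≫ j) from MonObj.mul_comp x y j, DSPtsLib.theta_mul]
      exact (MonObj.mul_comp _ _ h.incl).symm)
    have h1 : φ = 1 := Groth.Agent.S8392.result _ T' (GrpSchLib.RankOne.isMultTypeFT_of_isTorus hT') φ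
    have h2 : Red.gaFn φ = h.cd (DSPtsLib.theta k j) i := GrpSchLib.GaPts.gaFn_ptOfFn _
    rw [h1, GrpSchLib.GaPts.gaFn_one] at h2
    exact h2.symm

theorem IsClosedPos.hasNoSubtorus (h : IsClosedPos lam e a b) {K : Type u} [Field K] [IsAlgClosed K]
    (k : Spec (CommRingCat.of K) ⟶ S) : Red.HasNoSubtorus K (Red.bc k (UObj h)) := by
  intro T' _ j _ _ hT'
  have h2 := h.hom_torus_eq_one k hT' j
  have h3 : 𝟙 T' = 1 := by
    rw [← cancel_mono j, h2, MonObj.comp_one, MonObj.comp_one]
  rw [Hom.one_def] at h3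
  refine ⟨η[T'].left, ?_, ?_⟩
  · exact (congrArg CommaMorphism.left h3).symm
  · exact Over.w η[T']

end

end Groth.Agent.SplitGrp
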