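import Groth.Prelude.Def_RedSub
import Groth.Agent.SplitRootUnique.Basic

/-!
# Root systems of subgroups in a group scheme, and their points
-/

universe u

open CategoryTheory CategoryTheory.Limits MonoidalCategory CartesianMonoidalCategory MonObj GrpObj AlgebraicGeometry

attribute [local instance] CategoryTheory.Hom.monoid CategoryTheory.Hom.group
set_option linter.style.haveILetI false
set_option linter.unusedSectionVars false

namespace Groth.Agent.SplitGrp

open DSPtsLib (CoordM pt)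

noncomputable section

section Functional

/-- Independent vectors of a lattice are positive for some integral functional. -/
theorem exists_pos_functional {M : Type*} [AddCommGroup M] [Module.Free ℤ M] [Module.Finite ℤ M] {J : Type*}
    (v : J → M) (s : Finset J) (h : LinearIndepOn ℤ v (s : Set J)) :
    ∃ lam : M →+ ℤ, ∀ i ∈ s, 0 < lam (v i) := by
  classical
  let bas := Module.Free.chooseBasis ℤ M
  let φ : M →ₗ[ℤ] (Module.Free.ChooseBasisIndex ℤ M → ℚ) :=
    LinearMap.pi fun l => (Algebra.linearMap ℤ ℚ).comp (bas.coord l)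
  have hφ : LinearMap.ker φ = ⊥ := by
    refine LinearMap.ker_eq_bot'.2 fun x hx => bas.forall_coord_eq_zero_iff.1 fun l => ?_
    simpa [φ] using congrFun hx l
  have hli : LinearIndependent ℚ fun i : s => φ (v i) :=
    (LinearIndependent.iff_fractionRing ℤ ℚ).1 (h.linearIndependent.map' φ hφ)
  obtain ⟨f, hf⟩ := LinearMap.exists_extend ((Module.Basis.span hli).constr ℚ fun _ => (1 : ℚ))
  have hfv : ∀ i : s, f (φ (v i)) = 1 := by
    intro i
    have h1 := LinearMap.congr_fun hf ⟨φ (v i), Submodule.subset_span ⟨i, rfl⟩⟩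
    rw [show (⟨φ (v i), Submodule.subset_span ⟨i, rfl⟩⟩ : Submodule.span ℚ (Set.range fun j : s => φ (v j))) =
      Module.Basis.span hli i from (Module.Basis.span_apply hli i).symm, LinearMap.comp_apply,
      Module.Basis.constr_basis, Module.Basis.span_apply] at h1
    exact h1
  let g : Module.Free.ChooseBasisIndex ℤ M → ℚ := fun l => f (Pi.single l 1)
  let c : ℕ := ∏ l, (g l).den
  have hc : 0 < c := Finset.prod_pos fun l _ => (g l).den_pos
  let n : Module.Free.ChooseBasisIndex ℤ M → ℤ := fun l => (g l).num * ((c / (g l).den : ℕ) : ℤ)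
  have hn : ∀ l, (n l : ℚ) = c * g l := by
    intro l
    have hd : (g l).den ∣ c := Finset.dvd_prod_of_mem _ (Finset.mem_univ l)
    simp only [n, Int.cast_mul, Int.cast_natCast, Nat.cast_div hd (Nat.cast_ne_zero.2 (g l).den_ne_zero)]
    conv_rhs => rw [← (g l).num_div_den]
    ring
  let lam : M →+ ℤ := (∑ l, n l • bas.coord l).toAddMonoidHom
  have hl : ∀ x, (lam x : ℚ) = c * f (φ x) := by
    intro x
    have h1 : φ x = ∑ l, (bas.coord l x : ℚ) • Pi.single l (1 : ℚ) := by
      ext l'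
      simp [φ, Finset.sum_apply, Pi.single_apply]
    rw [h1, map_sum, Finset.mul_sum]
    simp only [lam, LinearMap.toAddMonoidHom_coe, LinearMap.coe_sum, Finset.sum_apply, LinearMap.smul_apply,
      smul_eq_mul, Int.cast_sum, Int.cast_mul, map_smul, hn]
    exact Finset.sum_congr rfl fun l _ => by simp only [g]; ring
  refine ⟨lam, fun i hi => ?_⟩
  have h2 : (lam (v i) : ℚ) = c := by rw [hl, hfv ⟨i, hi⟩, _root_.mul_one]
  have h3 : (0 : ℚ) < lam (v i) := h2 ▸ Nat.cast_pos.2 hc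
  exact_mod_cast h3

/-- A functional separating the positive from the negative roots of a base. -/
theorem exists_separating {J M N : Type} [AddCommGroup M] [AddCommGroup N] [Module.Free ℤ M] [Module.Finite ℤ M]
    (P : RootPairing J ℤ M N) (b : P.Base) :
    ∃ lam : M →+ ℤ, (∀ a ∈ RedSub.posRoots P b, 0 < lam (P.root a)) ∧
      (∀ a ∈ RedSub.negRoots P b, lam (P.root a) < 0) ∧
      ∀ a, a ∈ RedSub.posRoots P b ∨ a ∈ RedSub.negRoots P b := by
  obtain ⟨lam, hlam⟩ := exists_pos_functional P.root b.support b.linearIndepOn_root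
  have key : ∀ x ∈ AddSubmonoid.closure (P.root '' (b.support : Set J)), x = 0 ∨ 0 < lam x := by
    intro x hx
    induction hx using AddSubmonoid.closure_induction with
    | mem y hy => obtain ⟨i, hi, rfl⟩ := hy; exact Or.inr (hlam i hi)
    | zero => exact Or.inl rfl
    | add y z _ _ hy hz =>
      rcases hy with rfl | hy
      · simpa using hz
      · rcases hz with rfl | hz
        · simpa using Or.inr hy
        · exact Or.inr (by rw [map_add]; exact add_pos hy hz)
  refine ⟨lam, fun a ha => (key _ ha).resolve_left (P.ne_zero a), fun a ha => ?_, b.root_mem_or_neg_mem⟩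
  have h := (key _ ha).resolve_left (neg_ne_zero.2 (P.ne_zero a))
  rw [map_neg] at h
  omega

end Functional

variable {S : Scheme.{u}}

/-- A torus with root subgroups filling out a reductive group. -/
structure Sys (G : Over S) [GrpObj G] where
  /-- the characters -/
  M : Type
  [acgM : AddCommGroup M]
  [finiteM : Module.Finite ℤ M]
  [freeM : Module.Free ℤ M]
  /-- the index set -/
  idx : Type
  [fintypeIdx : Fintype idx]
  /-- the roots -/
  r : idx → M
  r_inj : Function.Injective r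
  r_ne : ∀ a, r a ≠ 0
  /-- the torus -/
  j : Red.DS S M ⟶ G
  isMonHom_j : IsMonHom j
  mono_j : Mono j
  /-- the root subgroups -/
  u : idx → (Red.Ga S ⟶ G)
  isMonHom_u : ∀ a, IsMonHom (u a)
  mono_u : ∀ a, Mono (u a)
  act : ∀ (a : idx) (X : Over S) (t : X ⟶ Red.DS S M) (x : X ⟶ Red.Ga S), ∃ y : X ⟶ Red.Ga S,
    y ≫ u a = (t ≫ j) * (x ≫ u a) * (t ≫ j)⁻¹ ∧ Red.gaFn y = Red.gmFn (t ≫ Red.chi S (r a)) * Red.gaFn x
  reductive : Red.IsReductive G
  dim : ∀ s : S, topologicalKrullDim ↥(Red.geomFibre s G).left =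
    ((Module.finrank ℤ M + Fintype.card idx : ℕ) : WithBot ℕ∞)

attribute [instance] Sys.acgM Sys.finiteM Sys.freeM Sys.fintypeIdx Sys.isMonHom_j Sys.mono_j

variable {G : Over S} [GrpObj G]

/-- The system of a splitting. -/
def ofSplit (D : Red.SplitRed G) : Sys G where
  M := D.M
  idx := D.idx
  r := D.P.root
  r_inj := D.P.root.injective
  r_ne := fun a => D.P.ne_zero a
  j := D.split.inv.hom.hom ≫ D.i
  isMonHom_j := by
    haveI := D.maximalTorus.1
    haveI : IsMonHom D.split.inv.hom.hom := D.split.inv.hom.isMonHom_hom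
    infer_instance
  mono_j := by
    haveI := D.maximalTorus.2.1
    haveI : IsIso D.split.inv.hom.hom := ((Grp.forget _).mapIso D.split.symm).isIso_hom
    infer_instance
  u := D.u
  isMonHom_u := fun a => (D.rootHom a).1
  mono_u := fun a => by
    haveI := (D.rootHom a).2.1
    exact (Over.forget _).mono_of_mono_map (inferInstanceAs (Mono (D.u a).left))
  act := fun a X t x => by
    obtain ⟨y, h1, h2⟩ := (D.rootHom a).2.2 X (t ≫ D.split.inv.hom.hom) x
    refine ⟨y, by simpa only [Category.assoc] using h1, ?_⟩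
    rw [h2, Category.assoc, ← Category.assoc D.split.inv.hom.hom,
      show D.split.inv.hom.hom ≫ D.split.hom.hom.hom = 𝟙 _ from congrArg (fun m => m.hom.hom) D.split.inv_hom_id,
      Category.id_comp]
  reductive := D.reductive
  dim := D.dim_fibre

variable (D : Sys G)

/-- The point of a root subgroup with given coordinate. -/
def Sys.U (a : D.idx) {X : Over S} (v : Γ(X.left, ⊤)) : X ⟶ G := GrpSchLib.GaPts.ptOfFn v ≫ D.u a

variable {D} {X X' : Over S} {a : D.idx}

theorem eq_U (x : X ⟶ Red.Ga S) : x ≫ D.u a = D.U a (Red.gaFn x) := by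
  rw [Sys.U, GrpSchLib.GaPts.gaFn_injective (GrpSchLib.GaPts.gaFn_ptOfFn (Red.gaFn x))]

theorem comp_U (f : X' ⟶ X) (v : Γ(X.left, ⊤)) : f ≫ D.U a v = D.U a (f.left.appTop v) := by
  rw [Sys.U, ← Category.assoc, eq_U, GrpSchLib.GaPts.gaFn_comp, GrpSchLib.GaPts.gaFn_ptOfFn]

theorem U_add (v w : Γ(X.left, ⊤)) : D.U a (v + w) = D.U a v * D.U a w := by
  haveI := D.isMonHom_u a
  rw [Sys.U, Sys.U, Sys.U, ← MonObj.mul_comp]
  congr 1
  apply GrpSchLib.GaPts.gaFn_injective
  show Red.gaFn (GrpSchLib.GaPts.ptOfFn (v + w)) = Red.gaFn (GrpSchLib.GaPts.ptOfFn v * GrpSchLib.GaPts.ptOfFn w)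
  simp only [GrpSchLib.GaPts.gaFn_mul, GrpSchLib.GaPts.gaFn_ptOfFn]

theorem U_zero : D.U a (0 : Γ(X.left, ⊤)) = 1 := by
  haveI := D.isMonHom_u a
  rw [← MonObj.one_comp (D.u a) (X := X), eq_U, GrpSchLib.GaPts.gaFn_one]

theorem U_injective : Function.Injective (D.U a : Γ(X.left, ⊤) → (X ⟶ G)) := fun v w h => by
  haveI := D.mono_u a
  have h1 := (cancel_mono (D.u a)).1 h
  rw [← GrpSchLib.GaPts.gaFn_ptOfFn (S := S) v, ← GrpSchLib.GaPts.gaFn_ptOfFn (S := S) w, h1]

theorem conj_U (t : X ⟶ Red.DS S D.M) (v : Γ(X.left, ⊤)) :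
    (t ≫ D.j) * D.U a v * (t ≫ D.j)⁻¹ = D.U a (Red.gmFn (t ≫ Red.chi S (D.r a)) * v) := by
  obtain ⟨y, h1, h2⟩ := D.act a X t (GrpSchLib.GaPts.ptOfFn v)
  rw [Sys.U, ← h1, eq_U, h2, GrpSchLib.GaPts.gaFn_ptOfFn]

variable (D) in
/-- An ordered product of root points. -/
def Sys.Prod {n : ℕ} (e : Fin n → D.idx) (v : Fin n → Γ(X.left, ⊤)) : X ⟶ G :=
  (List.ofFn fun l => D.U (e l) (v l)).prod

theorem Prod_succ {n : ℕ} (e : Fin (n + 1) → D.idx) (v : Fin (n + 1) → Γ(X.left, ⊤)) :
    D.Prod e v = D.U (e 0) (v 0) * D.Prod (e ∘ Fin.succ) (v ∘ Fin.succ) := by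
  rw [Sys.Prod, List.ofFn_succ, List.prod_cons]
  rfl

theorem comp_Prod (f : X' ⟶ X) {n : ℕ} (e : Fin n → D.idx) (v : Fin n → Γ(X.left, ⊤)) :
    f ≫ D.Prod e v = D.Prod e (fun l => f.left.appTop (v l)) := by
  induction n with
  | zero =>
    show f ≫ (1 : X ⟶ G) = 1
    exact MonObj.comp_one f
  | succ n ih =>
    rw [Prod_succ, Prod_succ, MonObj.comp_mul, comp_U, ih]
    rfl

theorem Prod_zero {n : ℕ} (e : Fin n → D.idx) : D.Prod e (fun _ => (0 : Γ(X.left, ⊤))) = 1 := by
  induction n with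
  | zero => rfl
  | succ n ih =>
    rw [Prod_succ, U_zero, _root_.one_mul]
    exact ih _

theorem Prod_single {n : ℕ} (e : Fin n → D.idx) (l : Fin n) (c : Γ(X.left, ⊤)) :
    D.Prod e (Pi.single l c) = D.U (e l) c := by
  induction n with
  | zero => exact l.elim0
  | succ n ih =>
    rw [Prod_succ]
    refine Fin.cases ?_ (fun l' => ?_) l
    · rw [Pi.single_eq_same, show (Pi.single (0 : Fin (n + 1)) c) ∘ Fin.succ = fun _ => 0 from
        funext fun q => Pi.single_eq_of_ne (Fin.succ_ne_zero q) c, Prod_zero, _root_.mul_one]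
    · rw [Pi.single_eq_of_ne (Fin.succ_ne_zero l').symm, U_zero, _root_.one_mul,
        show (Pi.single l'.succ c : Fin (n + 1) → Γ(X.left, ⊤)) ∘ Fin.succ = Pi.single l' c from
          funext fun q => by simp [Pi.single_apply, Fin.succ_inj]]
      exact ih (e ∘ Fin.succ) l'

theorem conj_Prod (t : X ⟶ Red.DS S D.M) {n : ℕ} (e : Fin n → D.idx) (v : Fin n → Γ(X.left, ⊤)) :
    (t ≫ D.j) * D.Prod e v * (t ≫ D.j)⁻¹ =
      D.Prod e (fun l => Red.gmFn (t ≫ Red.chi S (D.r (e l))) * v l) := by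
  induction n with
  | zero =>
    show (t ≫ D.j) * 1 * (t ≫ D.j)⁻¹ = 1
    rw [_root_.mul_one, mul_inv_cancel]
  | succ n ih =>
    rw [Prod_succ, Prod_succ, ← conj_U]
    rw [show (fun l => Red.gmFn (t ≫ Red.chi S (D.r (e l))) * v l) ∘ Fin.succ =
      fun l => Red.gmFn (t ≫ Red.chi S (D.r ((e ∘ Fin.succ) l))) * (v ∘ Fin.succ) l from rfl, ← ih]
    group

/-- The coordinates of a point of a power of the additive group. -/
def coord : {n : ℕ} → (X ⟶ RedSub.pow (Red.Ga S) n) → Fin n → Γ(X.left, ⊤)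
  | 0, _ => Fin.elim0
  | n + 1, x => Fin.cons (Red.gaFn (x ≫ fst (Red.Ga S) (RedSub.pow (Red.Ga S) n)))
      (coord (x ≫ snd (Red.Ga S) (RedSub.pow (Red.Ga S) n)))

/-- The point of a power of the additive group with given coordinates. -/
def ofCoord : {n : ℕ} → (Fin n → Γ(X.left, ⊤)) → (X ⟶ RedSub.pow (Red.Ga S) n)
  | 0, _ => toUnit X
  | _ + 1, v => lift (GrpSchLib.GaPts.ptOfFn (v 0)) (ofCoord (Fin.tail v))

theorem coord_ofCoord : ∀ {n : ℕ} (v : Fin n → Γ(X.left, ⊤)), coord (ofCoord (S := S) v) = v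
  | 0, _ => funext fun l => l.elim0
  | n + 1, v => by
    show Fin.cons (Red.gaFn (lift _ _ ≫ fst _ _)) (coord (lift _ _ ≫ snd _ _)) = v
    rw [lift_fst, lift_snd, GrpSchLib.GaPts.gaFn_ptOfFn, coord_ofCoord]
    exact Fin.cons_self_tail v

theorem coord_injective : ∀ {n : ℕ}, Function.Injective (coord : (X ⟶ RedSub.pow (Red.Ga S) n) → _)
  | 0 => fun x y _ => toUnit_unique x y
  | n + 1 => fun x y h => by
    refine CartesianMonoidalCategory.hom_ext _ _ (GrpSchLib.GaPts.gaFn_injective ?_) (coord_injective ?_)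
    · exact congrFun h 0
    · funext l
      exact congrFun h l.succ

theorem coord_comp (f : X' ⟶ X) : ∀ {n : ℕ} (x : X ⟶ RedSub.pow (Red.Ga S) n),
    coord (f ≫ x) = fun l => f.left.appTop (coord x l)
  | 0, _ => funext fun l => l.elim0
  | n + 1, x => funext fun l => by
    refine Fin.cases ?_ (fun l' => ?_) l
    · show Red.gaFn ((f ≫ x) ≫ fst _ _) = f.left.appTop (Red.gaFn (x ≫ fst _ _))
      rw [Category.assoc, GrpSchLib.GaPts.gaFn_comp]
    · show coord ((f ≫ x) ≫ snd _ _) l' = f.left.appTop (coord (x ≫ snd _ _) l')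
      rw [Category.assoc, coord_comp]

theorem comp_prodMap : ∀ {n : ℕ} (e : Fin n → D.idx) (x : X ⟶ RedSub.pow (Red.Ga S) n),
    x ≫ RedSub.prodMap (Red.Ga S) n (fun l => D.u (e l)) = D.Prod e (coord x)
  | 0, _, x => MonObj.comp_one x
  | n + 1, e, x => by
    rw [Prod_succ]
    show x ≫ ((fst _ _ ≫ D.u (e 0)) * (snd _ _ ≫ RedSub.prodMap (Red.Ga S) n fun l => D.u (e l.succ))) = _
    refine (MonObj.comp_mul _ _ _).trans ?_
    exact congrArg₂ (· * ·) ((Category.assoc x (fst _ _) (D.u (e 0))).symm.trans (eq_U _))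
      ((Category.assoc x (snd _ _) _).symm.trans (comp_prodMap (e ∘ Fin.succ) _))

section Rings

variable {B B' : Type u} [CommRing B] [CommRing B']

/-- A ring as a scheme over the base. -/
abbrev pX (s : Spec (CommRingCat.of B) ⟶ S) : Over S := Over.mk s

/-- An element of a ring as a global function. -/
abbrev sec (s : Spec (CommRingCat.of B) ⟶ S) (b : B) : Γ((pX s).left, ⊤) :=
  (Scheme.ΓSpecIso (CommRingCat.of B)).inv b

theorem sec_bijective (s : Spec (CommRingCat.of B) ⟶ S) : Function.Bijective (sec s) :=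
  ConcreteCategory.bijective_of_isIso (Scheme.ΓSpecIso (CommRingCat.of B)).inv

/-- A ring map as a morphism over the base. -/
def mor {s : Spec (CommRingCat.of B) ⟶ S} {s' : Spec (CommRingCat.of B') ⟶ S} (φ : B →+* B')
    (h : Spec.map (CommRingCat.ofHom φ) ≫ s = s') : pX s' ⟶ pX s :=
  Over.homMk (Spec.map (CommRingCat.ofHom φ)) h

theorem appTop_mor {s : Spec (CommRingCat.of B) ⟶ S} {s' : Spec (CommRingCat.of B') ⟶ S} (φ : B →+* B')
    (h : Spec.map (CommRingCat.ofHom φ) ≫ s = s') (b : B) :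
    (mor φ h).left.appTop (sec s b) = sec s' (φ b) :=
  (ConcreteCategory.congr_hom (Scheme.ΓSpecIso_inv_naturality (CommRingCat.ofHom φ)) b).symm

theorem comp_Prod_sec {s : Spec (CommRingCat.of B) ⟶ S} {s' : Spec (CommRingCat.of B') ⟶ S} (φ : B →+* B')
    (h : Spec.map (CommRingCat.ofHom φ) ≫ s = s') {n : ℕ} (e : Fin n → D.idx) (v : Fin n → B) :
    mor φ h ≫ D.Prod e (fun l => sec s (v l)) = D.Prod e (fun l => sec s' (φ (v l))) := by
  rw [comp_Prod]
  simp only [appTop_mor]

variable (D) in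
/-- The torus point with given character values. -/
def Sys.tpt (s : Spec (CommRingCat.of B) ⟶ S) (f : Multiplicative D.M →* B) : pX s ⟶ Red.DS S D.M :=
  letI : Algebra (ULift.{u} ℤ) B := ((algebraMap ℤ B).comp ULift.ringEquiv.toRingHom).toAlgebra
  pt s (GrpSchLib.HomMonoLocus.charOf (R := ULift.{u} ℤ) f)

theorem gmFn_pt {M : Type} [AddCommGroup M] (s : Spec (CommRingCat.of B) ⟶ S) (c : CoordM.{u} ℤ →+* B) :
    Red.gmFn (pt s c) =
      (Scheme.ΓSpecIso (CommRingCat.of B)).inv (c (MonoidAlgebra.single (Multiplicative.ofAdd (1 : ℤ)) 1)) := by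
  show ((pt s c).left ≫ pullback.fst _ _).appTop Red.gmCoord = _
  rw [DSPtsLib.pt_fst]
  exact (ConcreteCategory.congr_hom (Scheme.ΓSpecIso_inv_naturality (CommRingCat.ofHom c)) _).symm

theorem gmFn_pt_chi {M : Type} [AddCommGroup M] (s : Spec (CommRingCat.of B) ⟶ S) (c : CoordM.{u} M →+* B) (m : M) :
    Red.gmFn (pt s c ≫ Red.chi S m) = sec s (c (MonoidAlgebra.single (Multiplicative.ofAdd m) 1)) := by
  rw [Red.chi, Deform.DiagMaps.pt_DSmap, gmFn_pt (M := M), GrpSchLib.SubgroupFactor.pull_single]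
  simp

theorem gmFn_tpt (s : Spec (CommRingCat.of B) ⟶ S) (f : Multiplicative D.M →* B) (m : D.M) :
    Red.gmFn (D.tpt s f ≫ Red.chi S m) = sec s (f (Multiplicative.ofAdd m)) := by
  letI : Algebra (ULift.{u} ℤ) B := ((algebraMap ℤ B).comp ULift.ringEquiv.toRingHom).toAlgebra
  rw [Sys.tpt, gmFn_pt_chi]
  exact congrArg _ (GrpSchLib.HomMonoLocus.charOf_single _ _)

theorem tpt_comp {s : Spec (CommRingCat.of B) ⟶ S} {s' : Spec (CommRingCat.of B') ⟶ S} (φ : B →+* B')
    (h : Spec.map (CommRingCat.ofHom φ) ≫ s = s') (f : Multiplicative D.M →* B) :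
    mor φ h ≫ D.tpt s f = D.tpt s' ((φ : B →* B').comp f) := by
  letI : Algebra (ULift.{u} ℤ) B := ((algebraMap ℤ B).comp ULift.ringEquiv.toRingHom).toAlgebra
  letI : Algebra (ULift.{u} ℤ) B' := ((algebraMap ℤ B').comp ULift.ringEquiv.toRingHom).toAlgebra
  refine (DSPtsLib.pt_comp s _ φ s' h).trans (congrArg (pt s') ?_)
  refine MonoidAlgebra.ringHom_ext (fun r => ?_) fun m => ?_
  · exact RingHom.congr_fun (DSPtsLib.ulift_ringHom_ext
      ((φ.comp (GrpSchLib.HomMonoLocus.charOf (R := ULift.{u} ℤ) f)).comp MonoidAlgebra.singleOneRingHom)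
      ((GrpSchLib.HomMonoLocus.charOf (R := ULift.{u} ℤ) ((φ : B →* B').comp f)).comp MonoidAlgebra.singleOneRingHom)) r
  · obtain ⟨m, rfl⟩ := Multiplicative.ofAdd.surjective m
    rw [RingHom.comp_apply, GrpSchLib.HomMonoLocus.charOf_single, GrpSchLib.HomMonoLocus.charOf_single]
    rfl

theorem tpt_one (s : Spec (CommRingCat.of B) ⟶ S) : D.tpt s 1 = 1 := by
  letI : Algebra (ULift.{u} ℤ) B := ((algebraMap ℤ B).comp ULift.ringEquiv.toRingHom).toAlgebra
  exact GrpSchLib.HomMonoLocus.pt_one s _ fun m => GrpSchLib.HomMonoLocus.charOf_single _ _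

theorem conj_tpt_Prod (s : Spec (CommRingCat.of B) ⟶ S) (f : Multiplicative D.M →* B) {n : ℕ} (e : Fin n → D.idx)
    (v : Fin n → B) :
    (D.tpt s f ≫ D.j) * D.Prod e (fun l => sec s (v l)) * (D.tpt s f ≫ D.j)⁻¹ =
      D.Prod e (fun l => sec s (f (Multiplicative.ofAdd (D.r (e l))) * v l)) := by
  rw [conj_Prod]
  simp only [gmFn_tpt, sec, map_mul]

end Rings

end

end Groth.Agent.SplitGrp
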