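import Groth.Agent.SplitGrp.Psi

/-!
# The subgroup spanned by the torus and a unipotent subgroup
-/

universe u

open CategoryTheory CategoryTheory.Limits MonoidalCategory CartesianMonoidalCategory MonObj GrpObj AlgebraicGeometry

attribute [local instance] CategoryTheory.Hom.monoid CategoryTheory.Hom.group
set_option linter.style.haveILetI false
set_option linter.unusedSectionVars false

namespace Groth.Agent.SplitGrp

noncomputable section

variable {S : Scheme.{u}} {G : Over S} [GrpObj G] {D : Sys G} {lam : D.M →+ ℤ} {n p q : ℕ} {e : Fin n → D.idx}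
  {a : Fin p → D.idx} {b : Fin q → D.idx}

/-- The map `(t, x) ↦ t u(x)`. -/
def bmap (D : Sys G) (a : Fin p → D.idx) : Red.DS S D.M ⊗ RedSub.pow (Red.Ga S) p ⟶ G :=
  (fst _ _ ≫ D.j) * (snd _ _ ≫ vmap a)

theorem comp_bmap {X : Over S} (x : X ⟶ Red.DS S D.M ⊗ RedSub.pow (Red.Ga S) p) :
    x ≫ bmap D a = ((x ≫ fst _ _) ≫ D.j) * D.Prod a (coord (x ≫ snd _ _)) := by
  rw [bmap, MonObj.comp_mul, ← Category.assoc, ← Category.assoc, comp_vmap]

theorem bPt_bmap {X : Over S} (t : X ⟶ Red.DS S D.M) (w : Fin p → Γ(X.left, ⊤)) :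
    lift t (ofCoord w) ≫ bmap D a = (t ≫ D.j) * D.Prod a w := by
  rw [comp_bmap, lift_fst, lift_snd, coord_ofCoord]

theorem IsClosedPos.torus_Prod_inj (h : IsClosedPos lam e a b) {X : Over S} {t t' : X ⟶ Red.DS S D.M}
    {w w' : Fin p → Γ(X.left, ⊤)} (hw : (t ≫ D.j) * D.Prod a w = (t' ≫ D.j) * D.Prod a w') : t = t' ∧ w = w' := by
  haveI := h.full.mono
  have h1 : cellPt D (n := n) (m := p + q) 0 t (Fin.append w 0) ≫ D.cell e (Fin.append a b) =
      cellPt D (n := n) (m := p + q) 0 t' (Fin.append w' 0) ≫ D.cell e (Fin.append a b) := by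
    rw [cellPt_cell, cellPt_cell, Prod_append, Prod_append]
    simp only [Pi.zero_def, Prod_zero, _root_.mul_one, _root_.one_mul]
    exact hw
  have h2 := (cancel_mono (D.cell e (Fin.append a b))).1 h1
  have h3 : t = t' := by
    have := congrArg (fun c : X ⟶ cellOb D n (p + q) => c ≫ snd _ _ ≫ fst _ _) h2
    simpa only [cellPt, lift_snd_assoc, lift_fst] using this
  have h4 : Fin.append w 0 = Fin.append w' (0 : Fin q → Γ(X.left, ⊤)) := by
    have := congrArg (fun c : X ⟶ cellOb D n (p + q) => coord (c ≫ snd _ _ ≫ snd _ _)) h2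
    simpa only [cellPt, lift_snd_assoc, lift_snd, coord_ofCoord] using this
  exact ⟨h3, funext fun i => by simpa using congrFun h4 (Fin.castAdd q i)⟩

theorem IsClosedPos.mono_bmap (h : IsClosedPos lam e a b) : Mono (bmap D a) :=
  ⟨fun x y hxy => by
    obtain ⟨h1, h2⟩ := h.torus_Prod_inj ((comp_bmap (D := D) (a := a) x).symm.trans (hxy.trans (comp_bmap (D := D) (a := a) y)))
    exact CartesianMonoidalCategory.hom_ext _ _ h1 (coord_injective h2)⟩

theorem inv_conj_Prod {X : Over S} (t : X ⟶ Red.DS S D.M) (v : Fin p → Γ(X.left, ⊤)) :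
    (t ≫ D.j)⁻¹ * D.Prod a v * (t ≫ D.j) =
      D.Prod a (fun l => Red.gmFn (t⁻¹ ≫ Red.chi S (D.r (a l))) * v l) := by
  rw [← conj_Prod, GrpObj.inv_comp, _root_.inv_inv]

theorem IsClosedPos.exists_bmul (h : IsClosedPos lam e a b) {X : Over S} (t t' : X ⟶ Red.DS S D.M)
    (v v' : Fin p → Γ(X.left, ⊤)) :
    ∃ w, ((t ≫ D.j) * D.Prod a v) * ((t' ≫ D.j) * D.Prod a v') = ((t * t') ≫ D.j) * D.Prod a w := by
  obtain ⟨w, hw⟩ := h.exists_mul (fun l => Red.gmFn (t'⁻¹ ≫ Red.chi S (D.r (a l))) * v l) v'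
  refine ⟨w, ?_⟩
  rw [← hw, ← inv_conj_Prod, MonObj.mul_comp]
  group

theorem IsClosedPos.exists_binv (h : IsClosedPos lam e a b) {X : Over S} (t : X ⟶ Red.DS S D.M)
    (v : Fin p → Γ(X.left, ⊤)) :
    ∃ w, ((t ≫ D.j) * D.Prod a v)⁻¹ = (t⁻¹ ≫ D.j) * D.Prod a w := by
  obtain ⟨z, hz⟩ := h.exists_inv v
  refine ⟨fun l => Red.gmFn (t ≫ Red.chi S (D.r (a l))) * z l, ?_⟩
  rw [← conj_Prod, ← hz, GrpObj.inv_comp]
  group

/-- The underlying scheme of the subgroup `T U`. -/
def BObj (_ : IsClosedPos lam e a b) : Over S := Red.DS S D.M ⊗ RedSub.pow (Red.Ga S) p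

/-- Its inclusion. -/
def IsClosedPos.bincl (h : IsClosedPos lam e a b) : BObj h ⟶ G := bmap D a

instance mono_bincl (h : IsClosedPos lam e a b) : Mono h.bincl := h.mono_bmap

theorem IsClosedPos.exists_pt (h : IsClosedPos lam e a b) {X : Over S} (x : X ⟶ BObj h) :
    ∃ (t : X ⟶ Red.DS S D.M) (v : Fin p → Γ(X.left, ⊤)), x ≫ h.bincl = (t ≫ D.j) * D.Prod a v :=
  ⟨_, _, comp_bmap (D := D) (a := a) x⟩

theorem IsClosedPos.exists_of_pt (h : IsClosedPos lam e a b) {X : Over S} (t : X ⟶ Red.DS S D.M)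
    (v : Fin p → Γ(X.left, ⊤)) : ∃ x : X ⟶ BObj h, x ≫ h.bincl = (t ≫ D.j) * D.Prod a v :=
  ⟨lift t (ofCoord v), bPt_bmap t v⟩

theorem IsClosedPos.exists_blift_mul (h : IsClosedPos lam e a b) {X : Over S} (x y : X ⟶ BObj h) :
    ∃ z : X ⟶ BObj h, z ≫ h.bincl = (x ≫ h.bincl) * (y ≫ h.bincl) := by
  obtain ⟨t, v, hx⟩ := h.exists_pt x
  obtain ⟨t', v', hy⟩ := h.exists_pt y
  obtain ⟨w, hw⟩ := h.exists_bmul t t' v v'
  rw [hx, hy, hw]
  exact h.exists_of_pt _ _

theorem IsClosedPos.exists_blift_inv (h : IsClosedPos lam e a b) {X : Over S} (x : X ⟶ BObj h) :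
    ∃ z : X ⟶ BObj h, z ≫ h.bincl = (x ≫ h.bincl)⁻¹ := by
  obtain ⟨t, v, hx⟩ := h.exists_pt x
  obtain ⟨w, hw⟩ := h.exists_binv t v
  rw [hx, hw]
  exact h.exists_of_pt _ _

theorem IsClosedPos.exists_blift_one (h : IsClosedPos lam e a b) : ∃ z : 𝟙_ (Over S) ⟶ BObj h, z ≫ h.bincl = 1 := by
  obtain ⟨x, hx⟩ := h.exists_of_pt (X := 𝟙_ (Over S)) 1 (fun _ => 0)
  exact ⟨x, by rw [hx, MonObj.one_comp, Prod_zero, _root_.mul_one]⟩

theorem one_comp_bincl (h : IsClosedPos lam e a b) {X : Over S} :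
    (toUnit X ≫ h.exists_blift_one.choose) ≫ h.bincl = 1 := by
  rw [Category.assoc, h.exists_blift_one.choose_spec, MonObj.comp_one]

theorem mul_comp_bincl (h : IsClosedPos lam e a b) {X : Over S} (x y : X ⟶ BObj h) :
    (lift x y ≫ (h.exists_blift_mul (fst (BObj h) (BObj h)) (snd _ _)).choose) ≫ h.bincl =
      (x ≫ h.bincl) * (y ≫ h.bincl) := by
  rw [Category.assoc, (h.exists_blift_mul (fst (BObj h) (BObj h)) (snd _ _)).choose_spec, MonObj.comp_mul,
    lift_fst_assoc, lift_snd_assoc]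

instance grpObj_BObj (h : IsClosedPos lam e a b) : GrpObj (BObj h) where
  one := h.exists_blift_one.choose
  mul := (h.exists_blift_mul (fst (BObj h) (BObj h)) (snd _ _)).choose
  inv := (h.exists_blift_inv (𝟙 (BObj h))).choose
  one_mul := by
    rw [← cancel_mono h.bincl, Category.assoc, (h.exists_blift_mul (fst (BObj h) (BObj h)) (snd _ _)).choose_spec,
      MonObj.comp_mul, whiskerRight_fst_assoc, whiskerRight_snd_assoc, h.exists_blift_one.choose_spec, MonObj.comp_one,
      _root_.one_mul, leftUnitor_hom]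
  mul_one := by
    rw [← cancel_mono h.bincl, Category.assoc, (h.exists_blift_mul (fst (BObj h) (BObj h)) (snd _ _)).choose_spec,
      MonObj.comp_mul, whiskerLeft_fst_assoc, whiskerLeft_snd_assoc, h.exists_blift_one.choose_spec, MonObj.comp_one,
      _root_.mul_one, rightUnitor_hom]
  mul_assoc := by
    rw [← cancel_mono h.bincl, Category.assoc, Category.assoc, Category.assoc,
      (h.exists_blift_mul (fst (BObj h) (BObj h)) (snd _ _)).choose_spec]
    simp only [MonObj.comp_mul, whiskerRight_fst_assoc, whiskerRight_snd_assoc, whiskerLeft_fst_assoc,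
      whiskerLeft_snd_assoc, Category.assoc, associator_hom_fst_assoc,
      (h.exists_blift_mul (fst (BObj h) (BObj h)) (snd _ _)).choose_spec, associator_hom_snd_fst_assoc,
      associator_hom_snd_snd_assoc, _root_.mul_assoc]
  left_inv := by
    rw [← cancel_mono h.bincl, mul_comp_bincl h, (h.exists_blift_inv (𝟙 (BObj h))).choose_spec, Category.id_comp,
      inv_mul_cancel]
    exact (one_comp_bincl h).symm
  right_inv := by
    rw [← cancel_mono h.bincl, mul_comp_bincl h, (h.exists_blift_inv (𝟙 (BObj h))).choose_spec, Category.id_comp,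
      mul_inv_cancel]
    exact (one_comp_bincl h).symm

instance isMonHom_bincl (h : IsClosedPos lam e a b) : IsMonHom h.bincl where
  one_hom := by
    rw [MonObj.one_eq_one (M := G)]
    exact h.exists_blift_one.choose_spec
  mul_hom := by
    rw [MonObj.mul_eq_mul (M := G), MonObj.comp_mul, tensorHom_fst, tensorHom_snd]
    exact (h.exists_blift_mul (fst (BObj h) (BObj h)) (snd _ _)).choose_spec

theorem isClosedImmersion_j (D : Sys G) : IsClosedImmersion D.j.left := by
  haveI : IsAffineHom G.hom := D.reductive.1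
  exact Deform.isClosedImmersion_of_mono (Deform.isMultType_of_ft (isMultType_DS (D := D))) D.j

theorem IsClosedPos.smooth_BObj (h : IsClosedPos lam e a b) : Smooth (BObj h).hom := by
  haveI := smooth_pow (S := S) p
  haveI := smooth_DS (S := S) D.M
  exact inferInstanceAs (Smooth (pullback.fst (Red.DS S D.M).hom _ ≫ (Red.DS S D.M).hom))

theorem IsClosedPos.connected_BObj (h : IsClosedPos lam e a b) {K : Type u} [Field K] [IsAlgClosed K]
    (k : Spec (CommRingCat.of K) ⟶ S) : ConnectedSpace ↥(Red.bc k (BObj h)).left := by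
  haveI := smooth_pow (S := S) p
  haveI := smooth_DS (S := S) D.M
  haveI := isAffineHom_pow (S := S) p
  haveI := goodFibres_pow (S := S) k p
  haveI := goodFibres_DS (S := S) D.M k
  haveI : IsAffineHom (Red.DS S D.M).hom := by
    haveI : IsAffine (Red.diag (ULift.{u} ℤ) D.M).left := inferInstanceAs (IsAffine (Spec _))
    haveI : IsAffineHom (Red.diag (ULift.{u} ℤ) D.M).hom := isAffineHom_of_isAffine _
    exact (show IsAffineHom (pullback.snd _ _) from MorphismProperty.pullback_snd _ _ inferInstance)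
  exact connected_tensor k

/-- `T U` is closed. -/
theorem IsClosedPos.isClosedImmersion_bincl (h : IsClosedPos lam e a b) : IsClosedImmersion h.bincl.left := by
  show IsClosedImmersion (bmap D a).left
  haveI := isClosedImmersion_j D
  haveI := h.isClosedImmersion
  haveI := h.mono_bmap
  haveI : Mono (bmap D a).left := (Over.forget S).map_mono (bmap D a)
  haveI : IsAffineHom G.hom := D.reductive.1
  haveI := isAffineHom_pow (S := S) p
  haveI := smooth_pow (S := S) p
  haveI := smooth_DS (S := S) D.M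
  haveI : IsAffineHom (Red.DS S D.M).hom := by
    haveI : IsAffine (Red.diag (ULift.{u} ℤ) D.M).left := inferInstanceAs (IsAffine (Spec _))
    haveI : IsAffineHom (Red.diag (ULift.{u} ℤ) D.M).hom := isAffineHom_of_isAffine _
    exact (show IsAffineHom (pullback.snd _ _) from MorphismProperty.pullback_snd _ _ inferInstance)
  haveI : IsAffineHom (pullback.fst (Red.DS S D.M).hom (RedSub.pow (Red.Ga S) p).hom) :=
    MorphismProperty.pullback_fst _ _ ‹IsAffineHom (RedSub.pow (Red.Ga S) p).hom›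
  haveI : IsAffineHom (Red.DS S D.M ⊗ RedSub.pow (Red.Ga S) p).hom :=
    inferInstanceAs (IsAffineHom (pullback.fst (Red.DS S D.M).hom (RedSub.pow (Red.Ga S) p).hom ≫ (Red.DS S D.M).hom))
  haveI : Smooth (Red.DS S D.M ⊗ RedSub.pow (Red.Ga S) p).hom :=
    inferInstanceAs (Smooth (pullback.fst (Red.DS S D.M).hom _ ≫ (Red.DS S D.M).hom))
  haveI : IsAffineHom ((bmap D a).left ≫ G.hom) := by rw [Over.w (bmap D a)]; infer_instance
  haveI : IsAffineHom (bmap D a).left := IsAffineHom.of_comp _ G.hom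
  haveI : LocallyOfFiniteType ((bmap D a).left ≫ G.hom) := by rw [Over.w (bmap D a)]; infer_instance
  haveI : LocallyOfFiniteType (bmap D a).left := locallyOfFiniteType_of_comp _ G.hom
  haveI : UniversallyClosed (bmap D a).left := by
    refine UniversallyClosed.of_valuativeCriterion _ fun V => ?_
    let φ := algebraMap V.R V.K
    have hφ : Function.Injective φ := IsFractionRing.injective V.R V.K
    let s : Spec (CommRingCat.of V.R) ⟶ S := V.i₂ ≫ G.hom
    let sK : Spec (CommRingCat.of V.K) ⟶ S := Spec.map (CommRingCat.ofHom φ) ≫ s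
    let g : pX s ⟶ G := Over.homMk V.i₂ rfl
    let x : pX sK ⟶ Red.DS S D.M ⊗ RedSub.pow (Red.Ga S) p := Over.homMk V.i₁ (by
      show V.i₁ ≫ _ = _
      rw [← Over.w (bmap D a), ← Category.assoc, V.commSq.w, Category.assoc]
      rfl)
    have hgx : mor φ rfl ≫ g = x ≫ bmap D a := Over.OverMorphism.ext V.commSq.w.symm
    obtain ⟨w, hw⟩ := exists_sec sK (coord (x ≫ snd _ _))
    set tK : pX sK ⟶ Red.DS S D.M := x ≫ fst _ _ with htK
    have hl : Lim sK D lam (mor φ rfl ≫ g) (tK ≫ D.j) := by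
      rw [hgx, comp_bmap, hw]
      simpa only [_root_.mul_one] using (lim_torus (lam := lam) (s := sK) tK).mul (lim_Prod a h.pos w)
    obtain ⟨l, hlim, hl'⟩ := exists_lim_of_injective φ hφ rfl hl
    haveI : IsReduced (Spec (CommRingCat.of V.R)) := inferInstance
    have hsub : Set.range l.left ⊆ Set.range D.j.left := by
      have hd : DenseRange (Spec.map (CommRingCat.ofHom φ)) :=
        PrimeSpectrum.denseRange_comap_iff_ker_le_nilRadical φ |>.2 (by
          rw [(RingHom.injective_iff_ker_eq_bot φ).1 hφ]; exact bot_le)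
      rintro _ ⟨P, rfl⟩
      have hcl : IsClosed (l.left ⁻¹' Set.range D.j.left) :=
        D.j.left.isClosedEmbedding.isClosed_range.preimage l.left.continuous
      refine hd.induction_on P hcl fun z => ⟨tK.left z, ?_⟩
      exact congrArg (fun f : pX sK ⟶ G => f.left z) hl'.symm
    haveI : IsReduced (pX s).left := inferInstanceAs (IsReduced (Spec (CommRingCat.of V.R)))
    obtain ⟨t₀, ht₀⟩ := H23.RedSub.exists_lift_closed l.left D.j.left hsub
    let t : pX s ⟶ Red.DS S D.M := Over.homMk t₀ (by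
      show t₀ ≫ _ = _
      rw [← Over.w D.j, reassoc_of% ht₀]; exact Over.w l)
    have htl : t ≫ D.j = l := Over.OverMorphism.ext ht₀
    haveI := D.mono_j
    have htK' : mor φ rfl ≫ t = tK := by rw [← cancel_mono D.j, Category.assoc, htl, hl']
    have hu : Lim s D lam ((t ≫ D.j)⁻¹ * g) 1 := by
      have := (lim_torus (lam := lam) (s := s) t).inv.mul (htl ▸ hlim)
      rwa [inv_mul_cancel] at this
    obtain ⟨w', hw'⟩ := exists_Prod_of_lim h.full hu
    have huK : mor φ rfl ≫ ((t ≫ D.j)⁻¹ * g) = D.Prod a (fun i => sec sK (w i)) := by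
      simp only [MonObj.comp_mul, GrpObj.comp_inv, reassoc_of% htK', hgx]
      rw [comp_bmap (D := D) (a := a) x, hw, inv_mul_cancel_left]
    rw [hw', comp_Prod_sec] at huK
    have h2 : (fun l => sec sK (φ (w' l))) = Fin.append (fun i => sec sK (w i)) (fun _ => 0) :=
      Prod_pos_injective h.full (by rw [huK, Prod_append, Prod_zero]; exact (_root_.mul_one _).symm)
    have h3 : g = (t ≫ D.j) * D.Prod a (fun i => sec s (w' (Fin.castAdd q i))) := by
      rw [← mul_inv_cancel_left (t ≫ D.j) g, hw']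
      congr 1
      have hz : ∀ j, w' (Fin.natAdd p j) = 0 := fun j => hφ
        (by
        have := congrFun h2 (Fin.natAdd p j)
        rw [Fin.append_right] at this
        rw [map_zero]
        exact (sec_bijective sK).injective (this.trans (map_zero _).symm))
      rw [show (fun l => sec s (w' l)) = Fin.append (fun i => sec s (w' (Fin.castAdd q i))) (fun _ => 0) from
        funext fun l => Fin.addCases (fun i => by simp) (fun j => by simp [hz, sec]) l, Prod_append, Prod_zero]
      exact _root_.mul_one _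
    let z : pX s ⟶ Red.DS S D.M ⊗ RedSub.pow (Red.Ga S) p :=
      lift t (ofCoord fun i => sec s (w' (Fin.castAdd q i)))
    have hz : z.left ≫ (bmap D a).left = V.i₂ := by
      rw [← Over.comp_left, bPt_bmap, ← h3]; rfl
    exact ⟨⟨⟨z.left, by rw [← cancel_mono (bmap D a).left, Category.assoc, hz, V.commSq.w], hz⟩⟩⟩
  haveI : IsProper (bmap D a).left := {}
  exact (IsClosedImmersion.iff_isProper_and_mono _).2 ⟨inferInstance, inferInstance⟩

section Solvable

variable (h : IsClosedPos lam e a b) (X : Over S)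

/-- The subgroup of points with vanishing coordinates below a level. -/
def IsClosedPos.lvl (N : ℤ) : Subgroup (X ⟶ G) where
  carrier := {g | ∃ v, g = D.Prod a v ∧ ∀ l, lam (D.r (a l)) < N → v l = 0}
  one_mem' := ⟨fun _ => 0, (Prod_zero a).symm, fun _ _ => rfl⟩
  mul_mem' := by
    rintro _ _ ⟨v, rfl, hv⟩ ⟨v', rfl, hv'⟩
    obtain ⟨w, hw⟩ := h.exists_mul v v'
    refine ⟨w, hw, fun l hl => ?_⟩
    rw [h.coord_mul v v' w hw l (fun j hj => hv j (hj.trans hl)) (fun j hj => hv' j (hj.trans hl)), hv l hl, hv' l hl,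
      add_zero]
  inv_mem' := by
    rintro _ ⟨v, rfl, hv⟩
    obtain ⟨w, hw⟩ := h.exists_inv v
    refine ⟨w, hw, ?_⟩
    suffices ∀ (k : ℕ) (l : Fin p), (lam (D.r (a l))).toNat = k → lam (D.r (a l)) < N → w l = 0 from
      fun l hl => this _ l rfl hl
    intro k
    induction k using Nat.strong_induction_on with
    | h k ih =>
      intro l hk hl
      have h1 := h.coord_mul v w (fun _ => 0) (by rw [← hw, mul_inv_cancel, Prod_zero]) l
        (fun j hj => hv j (hj.trans hl)) (fun j hj => ih _ (by have := h.pos j; omega) j rfl (hj.trans hl))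
      rwa [hv l hl, zero_add, eq_comm] at h1

theorem IsClosedPos.commutator_lvl_le (N : ℤ) : ⁅h.lvl X N, h.lvl X N⁆ ≤ h.lvl X (N + 1) := by
  refine Subgroup.commutator_le.2 fun x hx y hy => ?_
  obtain ⟨v, rfl, hv⟩ := hx
  obtain ⟨v', rfl, hv'⟩ := hy
  obtain ⟨vi, hvi, hvi0⟩ := (h.lvl X N).inv_mem ⟨v, rfl, hv⟩
  obtain ⟨vi', hvi', hvi0'⟩ := (h.lvl X N).inv_mem ⟨v', rfl, hv'⟩
  obtain ⟨z, hz⟩ := h.exists_mul v v'
  obtain ⟨z', hz'⟩ := h.exists_mul z vi
  obtain ⟨w, hw⟩ := h.exists_mul z' vi'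
  refine ⟨w, by rw [commutatorElement_def, hvi, hvi', hz, hz', hw], fun l hl => ?_⟩
  have hlow : ∀ j, lam (D.r (a j)) < lam (D.r (a l)) → lam (D.r (a j)) < N := fun j hj => by omega
  have hz0 : ∀ j, lam (D.r (a j)) ≤ lam (D.r (a l)) → z j = v j + v' j := fun j hj =>
    h.coord_mul v v' z hz j (fun i hi => hv i (by omega)) (fun i hi => hv' i (by omega))
  have hz0' : ∀ j, lam (D.r (a j)) ≤ lam (D.r (a l)) → z' j = z j + vi j := fun j hj =>
    h.coord_mul z vi z' hz' j (fun i hi => by rw [hz0 i (by omega), hv i (by omega), hv' i (by omega), add_zero])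
      (fun i hi => hvi0 i (by omega))
  have hi1 : vi l = -v l := by
    obtain ⟨o, ho⟩ : ∃ o, D.Prod a v * D.Prod a vi = D.Prod a o := h.exists_mul v vi
    have := h.coord_mul v vi (fun _ => 0) (by rw [← hvi, mul_inv_cancel, Prod_zero]) l
      (fun i hi => hv i (by omega)) (fun i hi => hvi0 i (by omega))
    exact eq_neg_of_add_eq_zero_right this.symm
  have hi2 : vi' l = -v' l := by
    have := h.coord_mul v' vi' (fun _ => 0) (by rw [← hvi', mul_inv_cancel, Prod_zero]) l
      (fun i hi => hv' i (by omega)) (fun i hi => hvi0' i (by omega))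
    exact eq_neg_of_add_eq_zero_right this.symm
  rw [h.coord_mul z' vi' w hw l (fun i hi => by
      rw [hz0' i (by omega), hz0 i (by omega), hv i (by omega), hv' i (by omega), hvi0 i (by omega), add_zero, add_zero])
    (fun i hi => hvi0' i (by omega)), hz0' l le_rfl, hz0 l le_rfl, hi1, hi2]
  abel

theorem IsClosedPos.isSolvableGrp_BObj : Red.IsSolvableGrp (BObj h) := by
  classical
  let N : ℕ := Finset.univ.sup fun l => (lam (D.r (a l))).toNat
  refine ⟨N + 1, fun X => ?_⟩
  let φ : (X ⟶ BObj h) →* (X ⟶ G) :=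
    { toFun := (· ≫ h.bincl), map_one' := MonObj.one_comp _, map_mul' := fun x y => MonObj.mul_comp x y _ }
  have hφ : Function.Injective φ := fun x y hxy => (cancel_mono h.bincl).1 hxy
  have key : ∀ m : ℕ, (derivedSeries (X ⟶ BObj h) (m + 1)).map φ ≤ h.lvl X (m + 1) := by
    intro m
    induction m with
    | zero =>
      rw [derivedSeries_succ, Subgroup.map_commutator, derivedSeries_zero]
      refine Subgroup.commutator_le.2 ?_
      rintro _ ⟨x, -, rfl⟩ _ ⟨y, -, rfl⟩
      obtain ⟨t, v, hx⟩ := h.exists_pt x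
      obtain ⟨t', v', hy⟩ := h.exists_pt y
      obtain ⟨vi, hvi⟩ := h.exists_binv t v
      obtain ⟨vi', hvi'⟩ := h.exists_binv t' v'
      obtain ⟨z, hz⟩ := h.exists_bmul t t' v v'
      obtain ⟨z', hz'⟩ := h.exists_bmul (t * t') t⁻¹ z vi
      obtain ⟨w, hw⟩ := h.exists_bmul (t * t' * t⁻¹) t'⁻¹ z' vi'
      refine ⟨w, ?_, fun l hl => absurd hl (by have := h.pos l; push_cast; omega)⟩
      show (x ≫ h.bincl) * (y ≫ h.bincl) * (x ≫ h.bincl)⁻¹ * (y ≫ h.bincl)⁻¹ = _
      rw [hx, hy, hvi, hvi', hz, hz', hw]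
      rw [show t * t' * t⁻¹ * t'⁻¹ = 1 by rw [comm_DS D t t']; exact (congrArg (· * t'⁻¹) (mul_inv_cancel_right t' t)).trans (mul_inv_cancel t'), MonObj.one_comp, _root_.one_mul]
    | succ m ih =>
      rw [derivedSeries_succ, Subgroup.map_commutator]
      refine (Subgroup.commutator_mono ih ih).trans ?_
      exact_mod_cast h.commutator_lvl_le X (m + 1)
  rw [← Subgroup.map_eq_bot_iff_of_injective _ hφ, eq_bot_iff]
  refine (key N).trans ?_
  rintro g ⟨v, rfl, hv⟩
  rw [Subgroup.mem_bot, show v = fun _ => 0 from funext fun l => hv l (by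
    have h1 : (lam (D.r (a l))).toNat ≤ N := Finset.le_sup (f := fun l => (lam (D.r (a l))).toNat) (Finset.mem_univ l)
    have := h.pos l
    omega), Prod_zero]

end Solvable

end

end Groth.Agent.SplitGrp
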