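import Groth.Agent.SplitGrp.BorelB
import Groth.Agent.Deform.Luna.RadTorus
import Groth.Agent.Deform.Luna.Radical
import Groth.Agent.Deform.DiagMaps

/-!
# A solvable subgroup containing `T U` contains no negative root points
-/

universe u

open CategoryTheory CategoryTheory.Limits MonoidalCategory CartesianMonoidalCategory MonObj GrpObj AlgebraicGeometry
open scoped Polynomial LaurentPolynomial

attribute [local instance] CategoryTheory.Hom.monoid CategoryTheory.Hom.group
set_option linter.style.haveILetI false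
set_option linter.unusedSectionVars false

namespace Groth.Agent.SplitGrp

open Deform.Chev (Pt pimg)

noncomputable section

variable {S : Scheme.{u}} {G : Over S} [GrpObj G] {D : Sys G}

/-- The character with values powers of a unit. -/
def expHom {K : Type u} [Field K] {M : Type} [AddCommGroup M] (z : Kˣ) (nu : M →+ ℤ) : Multiplicative M →* K where
  toFun m := ((z ^ nu m.toAdd : Kˣ) : K)
  map_one' := by simp
  map_mul' x y := by rw [toAdd_mul, map_add, zpow_add, Units.val_mul]

theorem exists_unit_zpow_ne {K : Type u} [Field K] [IsAlgClosed K] {c : ℤ} (hc : c ≠ 0) : ∃ z : Kˣ, z ^ c ≠ 1 :=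
  SplitRootUnique.exists_zpow_ne_one hc

theorem DSmap_chi {M N : Type} [AddCommGroup M] [AddCommGroup N] (φ : N →+ M) (x : N) :
    Red.DSmap S φ ≫ Red.chi S x = Red.chi S (φ x) := by
  rw [Red.chi, Red.chi, Deform.DiagMaps.DSmap_comp]
  congr 1
  exact AddMonoidHom.ext_int (by simp)

variable {K : Type u} [Field K] [IsAlgClosed K] {q : Spec (CommRingCat.of K) ⟶ S}
  {B' : Over (Spec (CommRingCat.of K))} [GrpObj B'] {i' : B' ⟶ Red.bc q G} [IsMonHom i']

/-- Points of a subgroup of the fibre, as points of the group. -/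
def ptsHom (i' : B' ⟶ Red.bc q G) [IsMonHom i'] : Pt B' →* (pX q ⟶ G) :=
  MonoidHom.mk' (fun b => DSPtsLib.theta q (b ≫ i')) fun b b' => by
    rw [MonObj.mul_comp, DSPtsLib.theta_mul]; rfl

/-- The subgroup contains the torus. -/
def HasTorus (D : Sys G) (i' : B' ⟶ Red.bc q G) : Prop :=
  ∀ (Y : Over (Spec (CommRingCat.of K))) (y : (Over.map q).obj Y ⟶ Red.DS S D.M),
    ∃ b : Y ⟶ B', DSPtsLib.theta q (b ≫ i') = y ≫ D.j

theorem HasTorus.mem_range (hT : HasTorus D i') (t : pX q ⟶ Red.DS S D.M) :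
    t ≫ D.j ∈ (ptsHom i').range :=
  (hT (𝟙_ _) t).imp fun _ hb => hb

/-- Closed subgroups containing the torus are stable under limits. -/
theorem mem_of_lim [IsClosedImmersion i'.left] (hT : HasTorus D i') {lam' : D.M →+ ℤ} {g l : pX q ⟶ G}
    (hg : g ∈ (ptsHom i').range) (hl : Lim q D lam' g l) : l ∈ (ptsHom i').range := by
  haveI : Smooth G.hom := D.reductive.2.1
  haveI : Smooth (Red.bc q G).hom := inferInstanceAs (Smooth (pullback.snd G.hom q))
  obtain ⟨b₀, hb₀⟩ := hg
  obtain ⟨k, hk, hk0⟩ := hl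
  let Yl : Over (Spec (CommRingCat.of K)) := Over.mk (Spec.map (CommRingCat.ofHom (LaurentPolynomial.C : K →+* K[T;T⁻¹])))
  let Yp : Over (Spec (CommRingCat.of K)) := Over.mk (Spec.map (CommRingCat.ofHom (Polynomial.C : K →+* K[X])))
  obtain ⟨bt, hbt⟩ := hT Yl (zt q D lam')
  let base : Yl ⟶ 𝟙_ (Over (Spec (CommRingCat.of K))) := toUnit Yl
  let toY : Yl ⟶ Yp := Over.homMk (Spec.map (CommRingCat.ofHom Polynomial.toLaurent)) (by
    show Spec.map _ ≫ Spec.map _ = Spec.map _
    rw [← Spec.map_comp, ← CommRingCat.ofHom_comp, toLaurent_comp_C])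
  let bY : Yl ⟶ B' := bt * (base ≫ b₀) * bt⁻¹
  have horb : DSPtsLib.theta q (bY ≫ i') = orbit q D lam' g := by
    have h1 : DSPtsLib.theta q ((base ≫ b₀) ≫ i') = baseL q ≫ g := by
      rw [Category.assoc, DSPtsLib.theta_comp, ← hb₀]
      congr 1
    have h2 : DSPtsLib.theta q (bt⁻¹ ≫ i') = (zt q D lam' ≫ D.j)⁻¹ := by
      rw [GrpObj.inv_comp, ← hbt]
      exact map_inv (MonoidHom.mk' (DSPtsLib.theta q) (DSPtsLib.theta_mul q)) _
    simp only [bY, MonObj.mul_comp, DSPtsLib.theta_mul, hbt, h1, h2]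
    rfl
  obtain ⟨k', hk'⟩ := (DSPtsLib.theta_bijective (H := G) q).surjective (show (Over.map q).obj Yp ⟶ G from k)
  have hkY : toY ≫ k' = bY ≫ i' := by
    refine (DSPtsLib.theta_bijective q).injective ?_
    rw [DSPtsLib.theta_comp, hk', horb, ← hk]
    congr 1
  have hd : DenseRange (Spec.map (CommRingCat.ofHom (Polynomial.toLaurent (R := K)))) :=
    PrimeSpectrum.denseRange_comap_iff_ker_le_nilRadical _ |>.2 (by
      show RingHom.ker (Polynomial.toLaurent (R := K)) ≤ _
      refine le_of_eq_of_le ((RingHom.injective_iff_ker_eq_bot _).1 fun x y hxy => toLaurent_inj hxy) bot_le)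
  have hsub : ∀ P, k'.left P ∈ Set.range i'.left := fun P => by
    refine hd.induction_on P (i'.left.isClosedEmbedding.isClosed_range.preimage k'.left.continuous) fun z => ?_
    exact ⟨bY.left z, (congrArg (fun f : Yl ⟶ Red.bc q G => f.left z) hkY).symm⟩
  let ev : 𝟙_ (Over (Spec (CommRingCat.of K))) ⟶ Yp := Over.homMk (Spec.map (CommRingCat.ofHom (Polynomial.evalRingHom 0))) (by
    show Spec.map _ ≫ Spec.map _ = 𝟙 _
    rw [← Spec.map_comp, ← CommRingCat.ofHom_comp, ← Spec.map_id]
    congr 1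
    refine CommRingCat.hom_ext (RingHom.ext fun r => ?_)
    exact Polynomial.eval_C)
  obtain ⟨b, hb⟩ := Deform.Borel.exists_lift_pt i' (p := ev ≫ k') (hsub _)
  refine ⟨b, ?_⟩
  show DSPtsLib.theta q (b ≫ i') = l
  rw [hb, DSPtsLib.theta_comp, hk', ← hk0]
  congr 1

/-- The limit of a product of root points with weights of one sign. -/
theorem lim_Prod_nonneg {lam' : D.M →+ ℤ} {n : ℕ} (e : Fin n → D.idx) (v : Fin n → K)
    (hv : ∀ l, v l = 0 ∨ 0 ≤ lam' (D.r (e l))) :
    Lim q D lam' (D.Prod e (fun l => sec q (v l)))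
      (D.Prod e (fun l => sec q (if lam' (D.r (e l)) = 0 then v l else 0))) := by
  refine ⟨D.Prod e (fun l => sec (polyS q) (Polynomial.X ^ (lam' (D.r (e l))).toNat * Polynomial.C (v l))), ?_, ?_⟩
  · rw [toL, comp_Prod_sec, orbit_Prod]
    congr 1
    funext l
    rcases hv l with h | h
    · rw [h, map_zero, mul_zero, map_zero, map_zero, mul_zero]
    · rw [map_mul, Polynomial.toLaurent_X_pow, Polynomial.toLaurent_C, Int.toNat_of_nonneg h]
  · rw [evP, comp_Prod_sec]
    congr 1
    funext l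
    congr 1
    rcases hv l with h | h
    · simp [h]
    · rcases h.eq_or_lt with h' | h'
      · simp [← h']
      · have : (lam' (D.r (e l))).toNat ≠ 0 := by omega
        simp [zero_pow this, h'.ne']

variable {n : ℕ} {e : Fin n → D.idx} {lam : D.M →+ ℤ}

/-- Distinct negative roots are not proportional. -/
def NoProp (D : Sys G) : Prop :=
  ∀ (i j : D.idx) (m m' : ℤ), m ≠ 0 → m • D.r i = m' • D.r j → D.r i = D.r j ∨ D.r i = -D.r j

/-- A nontrivial product of negative root points degenerates to a nontrivial root point. -/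
theorem exists_single [IsClosedImmersion i'.left] (hT : HasTorus D i') (hred : NoProp D) (he : Function.Injective e)
    (hneg : ∀ l, lam (D.r (e l)) < 0) (v : Fin n → K) (hv : v ≠ 0)
    (hmem : D.Prod e (fun l => sec q (v l)) ∈ (ptsHom i').range) :
    ∃ (l : Fin n) (x : K), x ≠ 0 ∧ D.U (e l) (sec q x) ∈ (ptsHom i').range := by
  classical
  suffices ∀ (c : ℕ) (v : Fin n → K), (Finset.univ.filter fun l => v l ≠ 0).card = c → v ≠ 0 →
      D.Prod e (fun l => sec q (v l)) ∈ (ptsHom i').range →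
      ∃ (l : Fin n) (x : K), x ≠ 0 ∧ D.U (e l) (sec q x) ∈ (ptsHom i').range from this _ v rfl hv hmem
  intro c
  induction c using Nat.strong_induction_on with
  | h c ih =>
    intro v hc hv hmem
    obtain ⟨i0, hi0⟩ : ∃ i0, v i0 ≠ 0 := Function.ne_iff.1 hv
    by_cases hone : ∀ l, v l ≠ 0 → l = i0
    · refine ⟨i0, v i0, hi0, ?_⟩
      convert hmem using 1
      rw [← Prod_single e i0]
      congr 1
      funext l
      by_cases hl : l = i0
      · subst hl; simp
      · rw [Pi.single_eq_of_ne hl, not_not.1 fun h => hl (hone l h)]; exact (map_zero _).symm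
    push Not at hone
    obtain ⟨i1, hi1, hne⟩ := hone
    have hli : LinearIndepOn ℤ (Function.update D.r (e i1) (-D.r (e i1))) (({e i0, e i1} : Finset D.idx) : Set D.idx) := by
      rw [Finset.coe_pair, LinearIndepOn.pair_iff _ (fun h => hne (he h.symm)), Function.update_self,
        Function.update_of_ne (fun h => hne (he h.symm))]
      intro m m' hmm
      rw [smul_neg, ← sub_eq_add_neg, sub_eq_zero] at hmm
      by_cases hm : m = 0
      · refine ⟨hm, ?_⟩
        rw [hm, zero_smul, eq_comm] at hmm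
        exact (smul_eq_zero.1 hmm).resolve_right (D.r_ne _)
      · exfalso
        rcases hred _ _ m m' hm hmm with h | h
        · exact hne (he (D.r_inj h)).symm
        · have h1 := hneg i0
          rw [h, map_neg] at h1
          have := hneg i1
          omega
    obtain ⟨nu', hnu⟩ := exists_pos_functional _ _ hli
    have hnu0 : 0 < nu' (D.r (e i0)) := by
      simpa [Function.update_of_ne (fun h : e i0 = e i1 => hne (he h.symm))] using hnu (e i0) (by simp)
    have hnu1 : nu' (D.r (e i1)) < 0 := by simpa using hnu (e i1) (by simp)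
    obtain ⟨i, hi, hmin⟩ := Finset.exists_min_image (Finset.univ.filter fun l => v l ≠ 0)
      (fun l => (nu' (D.r (e l)) : ℚ) / (-lam (D.r (e l)) : ℤ)) ⟨i0, by simp [hi0]⟩
    let lam' : D.M →+ ℤ := (-lam (D.r (e i))) • nu' - nu' (D.r (e i)) • (-lam)
    have hval : ∀ x, lam' x = (-lam (D.r (e i))) * nu' x + nu' (D.r (e i)) * lam x := fun x => by
      simp [lam', sub_eq_add_neg]
    have hge : ∀ l, v l = 0 ∨ 0 ≤ lam' (D.r (e l)) := fun l => by
      by_cases hl : v l = 0
      · exact Or.inl hl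
      have h1 := hmin l (by simp [hl])
      have hpi : (0 : ℚ) < (-lam (D.r (e i)) : ℤ) := by exact_mod_cast neg_pos.2 (hneg i)
      have hpl : (0 : ℚ) < (-lam (D.r (e l)) : ℤ) := by exact_mod_cast neg_pos.2 (hneg l)
      rw [div_le_div_iff₀ hpi hpl] at h1
      have h2 : nu' (D.r (e i)) * -lam (D.r (e l)) ≤ nu' (D.r (e l)) * -lam (D.r (e i)) := by exact_mod_cast h1
      refine Or.inr ?_
      rw [hval]
      linarith
    have hi0' : lam' (D.r (e i)) = 0 := by rw [hval]; ring
    have hpos0 : 0 < lam' (D.r (e i0)) := by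
      have h1 := hmin i1 (by simp [hi1])
      have hpi : (0 : ℚ) < (-lam (D.r (e i)) : ℤ) := by exact_mod_cast neg_pos.2 (hneg i)
      have hp1 : (0 : ℚ) < (-lam (D.r (e i1)) : ℤ) := by exact_mod_cast neg_pos.2 (hneg i1)
      rw [div_le_div_iff₀ hpi hp1] at h1
      have h2 : nu' (D.r (e i)) * -lam (D.r (e i1)) ≤ nu' (D.r (e i1)) * -lam (D.r (e i)) := by exact_mod_cast h1
      have := hneg i; have := hneg i1; have := hneg i0
      have : nu' (D.r (e i)) < 0 := by nlinarith
      rw [hval]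
      nlinarith
    let v' : Fin n → K := fun l => if lam' (D.r (e l)) = 0 then v l else 0
    have hv'i : v' i = v i := if_pos hi0'
    refine ih _ ?_ v' rfl (fun h => (Finset.mem_filter.1 hi).2 (by rw [← hv'i, h]; rfl))
      (mem_of_lim hT hmem (lim_Prod_nonneg e v hge))
    rw [← hc]
    refine Finset.card_lt_card (Finset.ssubset_iff.2 ⟨i0, by simp [v', hpos0.ne'], fun l hl => ?_⟩)
    simp only [Finset.mem_insert, Finset.mem_filter, Finset.mem_univ, true_and] at hl ⊢
    rcases hl with rfl | hl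
    · exact hi0
    · intro h
      simp [v', h] at hl

/-- One nontrivial point of a root group gives all of them. -/
theorem mem_of_mem_U (hT : HasTorus D i') (c : D.idx) (nu : D.M →+ ℤ) (hnu : nu (D.r c) = 2) {x : K} (hx : x ≠ 0)
    (hmem : D.U c (sec q x) ∈ (ptsHom i').range) (y : K) : D.U c (sec q y) ∈ (ptsHom i').range := by
  by_cases hy : y = 0
  · rw [hy, sec, map_zero, U_zero]; exact one_mem _
  obtain ⟨z, hz⟩ := IsAlgClosed.exists_pow_nat_eq (y / x) two_pos
  have hz0 : z ≠ 0 := fun h => div_ne_zero hy hx (by rw [← hz, h]; simp)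
  have h1 := conj_U (D.tpt q (expHom (Units.mk0 z hz0) nu)) (a := c) (sec q x)
  have h2 := mul_mem (mul_mem (hT.mem_range (D.tpt q (expHom (Units.mk0 z hz0) nu))) hmem)
    (inv_mem (hT.mem_range (D.tpt q (expHom (Units.mk0 z hz0) nu))))
  rw [h1, gmFn_tpt, sec, sec, ← map_mul] at h2
  convert h2 using 3
  show y = ((Units.mk0 z hz0 ^ nu (D.r c) : Kˣ) : K) * x
  rw [hnu, zpow_ofNat, Units.val_pow_eq_pow_val, Units.val_mk0, hz, div_mul_cancel₀ _ hx]

theorem prod_mem {H : Subgroup (pX q ⟶ G)} {m : ℕ} (a : Fin m → D.idx) (v : Fin m → Γ((pX q).left, ⊤))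
    (h : ∀ l, D.U (a l) (v l) ∈ H) : D.Prod a v ∈ H :=
  H.list_prod_mem fun x hx => by
    obtain ⟨l, rfl⟩ := List.mem_ofFn.1 hx
    exact h l

set_option maxHeartbeats 1000000 in
/-- A solvable subgroup containing the torus and all positive root groups has no full negative root group. -/
theorem false_of_rootGroup {m : ℕ} {e' : Fin m → D.idx} (hf : IsFull lam e e') (hred : NoProp D)
    (hG : Red.IsReductiveOver K (Red.bc q G)) [Group.IsSolvable (Pt B')] (hT : HasTorus D i')
    (hpos : ∀ d, 0 < lam (D.r d) → ∀ y, D.U d (sec q y) ∈ (ptsHom i').range) {c : D.idx} (hc : lam (D.r c) < 0)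
    (nu : D.M →+ ℤ) (hnu : nu (D.r c) = 2) (hcm : ∀ y, D.U c (sec q y) ∈ (ptsHom i').range) : False := by
  classical
  haveI := hG.1; haveI := hG.2.1; haveI := hG.2.2.1
  haveI : Smooth G.hom := D.reductive.2.1
  haveI := hf.isOpenImmersion
  haveI := hf.mono
  -- the torus killed by `c`
  let π₀ : D.M →ₗ[ℤ] D.M := (2 : ℤ) • LinearMap.id - (nu.toIntLinearMap).smulRight (D.r c)
  let bas := Module.finBasis ℤ (LinearMap.range π₀)
  let π : D.M →ₗ[ℤ] (Fin (Module.finrank ℤ (LinearMap.range π₀)) → ℤ) :=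
    bas.equivFun.toLinearMap ∘ₗ π₀.rangeRestrict
  have hπsurj : Function.Surjective π := bas.equivFun.surjective.comp π₀.surjective_rangeRestrict
  obtain ⟨σ, hσ⟩ := Module.projective_lifting_property π LinearMap.id hπsurj
  have hπker : ∀ x, π x = 0 ↔ (2 : ℤ) • x = nu x • D.r c := fun x => by
    show bas.equivFun (π₀.rangeRestrict x) = 0 ↔ _
    rw [LinearEquiv.map_eq_zero_iff]
    rw [← Subtype.coe_inj]
    show (2 : ℤ) • x - nu x • D.r c = 0 ↔ _
    exact sub_eq_zero
  have hπc : π (D.r c) = 0 := (hπker _).2 (by rw [hnu])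
  let M' := Fin (Module.finrank ℤ (LinearMap.range π₀)) → ℤ
  let φ : Red.DS S M' ⟶ G := Red.DSmap S π.toAddMonoidHom ≫ D.j
  haveI : Mono (Red.DSmap S π.toAddMonoidHom) := by
    refine (SplitMono.mk (Red.DSmap S σ.toAddMonoidHom) ?_).mono
    rw [Deform.DiagMaps.DSmap_comp, show π.toAddMonoidHom.comp σ.toAddMonoidHom = AddMonoidHom.id _ from
      AddMonoidHom.ext fun x => LinearMap.congr_fun hσ x, Deform.DiagMaps.DSmap_id]
  haveI : IsMonHom φ := inferInstanceAs (IsMonHom (_ ≫ D.j))
  haveI : Mono φ := inferInstanceAs (Mono (_ ≫ D.j))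
  have hTor : Red.IsTorus (Red.bc q (Red.DS S M')) :=
    Deform.isTorus_bc q (Deform.isTorus_of_split _ ⟨Iso.refl _⟩)
  let φK : Red.bc q (Red.DS S M') ⟶ Red.bc q G := (Over.pullback q).map φ
  haveI : Mono φK := inferInstanceAs (Mono ((Over.pullback q).map φ))
  haveI : IsSeparated (Red.bc q G).hom := Agent.GrpSchLib.AntiAffine.isSeparated_grp _
  obtain ⟨Z, gZ, jZ, hZ, hZc, hZs⟩ :=
    Deform.exists_centralizer (Deform.isMultType_of_ft (Deform.isMultTypeFT_of_isTorus hTor)) φK
  haveI := hZ.1; haveI := hZc; haveI := hZs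
  haveI := hZ.2.1
  have hZred : Red.IsReductiveOver K Z := Deform.Luna.isReductiveOver_centralizer hG hTor hZ
  haveI := hZred.1; haveI := hZred.2.2.1
  -- points of the centraliser
  let ψ : Pt Z →* (pX q ⟶ G) := MonoidHom.mk' (fun z => DSPtsLib.theta q (z ≫ jZ)) fun z z' => by
    rw [MonObj.mul_comp, DSPtsLib.theta_mul]; rfl
  have hψ : Function.Injective ψ := fun z z' h => (cancel_mono jZ).1 ((DSPtsLib.theta_bijective q).injective h)
  have hchi : ∀ (x : D.M), Red.DSmap S π.toAddMonoidHom ≫ Red.chi S x = Red.chi S (π x) := fun x =>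
    DSmap_chi π.toAddMonoidHom x
  have hin : ∀ g : pX q ⟶ G, (∀ (X' : Over S) (x : X' ⟶ pX q) (w : X' ⟶ Red.DS S M'),
      (x ≫ g) * (w ≫ φ) = (w ≫ φ) * (x ≫ g)) → g ∈ ψ.range := fun g hg => by
    obtain ⟨g', hg'⟩ := (DSPtsLib.theta_bijective (H := G) q).surjective
      (show (Over.map q).obj (𝟙_ (Over (Spec (CommRingCat.of K)))) ⟶ G from g)
    obtain ⟨z, hz⟩ := (hZ.2.2 _ g').2 fun Y y w => (DSPtsLib.theta_bijective q).injective (by
      rw [DSPtsLib.theta_mul, DSPtsLib.theta_mul, DSPtsLib.theta_comp, hg', Deform.Luna.theta_comp_map]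
      exact hg _ _ _)
    exact ⟨z, (congrArg (DSPtsLib.theta q) hz).trans hg'⟩
  -- the open cell of the centraliser lies in the subgroup
  let cK := (Over.pullback q).map (D.cell e e')
  haveI : IsOpenImmersion cK.left := MorphismProperty.of_isPullback
    (Deform.Extension.isPullback_map_left q (D.cell e e')).flip ‹IsOpenImmersion (D.cell e e').left›
  let U : Set Z.left := jZ.left ⁻¹' Set.range cK.left
  have hU : IsOpen U := cK.left.isOpenEmbedding.isOpen_range.preimage jZ.left.continuous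
  have hptU : ∀ z : Pt Z, pimg z ∈ U → ψ z ∈ (ptsHom i').range := fun z hz => by
    obtain ⟨x, hx⟩ := exists_lift cK (z ≫ jZ) (by
      rintro _ ⟨P, rfl⟩
      obtain rfl : P = IsLocalRing.closedPoint K := Subsingleton.elim (α := PrimeSpectrum K) _ _
      exact hz)
    obtain ⟨v, t, w, hc'⟩ := exists_cellPt D (show pX q ⟶ cellOb D n m from DSPtsLib.theta q x)
    have hg : ψ z = cellPt D v t w ≫ D.cell e e' := by
      show DSPtsLib.theta q (z ≫ jZ) = _
      rw [← hx, Deform.Luna.theta_comp_map, ← hc']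
      rfl
    rw [hg, cellPt_cell]
    have hkey : ∀ s : pX q ⟶ Red.DS S M', (∀ l, Red.gmFn (s ≫ Red.chi S (π (D.r (e l)))) * v l = v l) ∧
        ∀ l, Red.gmFn (s ≫ Red.chi S (π (D.r (e' l)))) * w l = w l := fun s => by
      obtain ⟨s', hs'⟩ := (DSPtsLib.theta_bijective (H := Red.DS S M') q).surjective
        (show (Over.map q).obj (𝟙_ (Over (Spec (CommRingCat.of K)))) ⟶ _ from s)
      have h1 := congrArg (DSPtsLib.theta q) ((hZ.2.2 _ (z ≫ jZ)).1 ⟨z, rfl⟩ (𝟙_ _) (𝟙 _) s')
      rw [DSPtsLib.theta_mul, DSPtsLib.theta_mul, Category.id_comp, Deform.Luna.theta_comp_map, hs'] at h1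
      change ψ z * (s ≫ φ) = (s ≫ φ) * ψ z at h1
      rw [hg, eq_comm, ← mul_inv_eq_iff_eq_mul] at h1
      have h2 := conj_cellPt D e e' (s ≫ Red.DSmap S π.toAddMonoidHom) v t w
      rw [Category.assoc] at h2
      have h3 := (cancel_mono (D.cell e e')).1 (h2.symm.trans h1)
      simp only [Category.assoc, hchi] at h3
      constructor
      · intro l
        have := congrArg (fun c : pX q ⟶ cellOb D n m => coord (c ≫ fst _ _) l) h3
        simpa only [cellPt, lift_fst, coord_ofCoord] using this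
      · intro l
        have := congrArg (fun c : pX q ⟶ cellOb D n m => coord (c ≫ snd _ _ ≫ snd _ _) l) h3
        simpa only [cellPt, lift_snd_assoc, lift_snd, coord_ofCoord] using this
    have hzero : ∀ (d : D.idx) (a : Γ((pX q).left, ⊤)),
        (∀ s : pX q ⟶ Red.DS S M', Red.gmFn (s ≫ Red.chi S (π (D.r d))) * a = a) →
        a = 0 ∨ D.r d = D.r c ∨ D.r d = -D.r c := fun d a ha => by
      by_cases hd : π (D.r d) = 0
      · exact Or.inr (hred d c 2 _ two_ne_zero ((hπker _).1 hd))
      left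
      have hσd : σ (π (D.r d)) ≠ 0 := fun h0 => hd (by
        have := LinearMap.congr_fun hσ (π (D.r d))
        rw [LinearMap.comp_apply, h0, map_zero] at this
        exact this.symm)
      let bM := Module.Free.chooseBasis ℤ D.M
      obtain ⟨i, hi⟩ : ∃ i, bM.coord i (σ (π (D.r d))) ≠ 0 := by
        by_contra hh
        push Not at hh
        exact hσd (bM.forall_coord_eq_zero_iff.1 hh)
      obtain ⟨z, hz⟩ := exists_unit_zpow_ne (K := K) hi
      have h1 := ha (D.tpt q (expHom z (bM.coord i).toAddMonoidHom) ≫ Red.DSmap S σ.toAddMonoidHom)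
      rw [Category.assoc, DSmap_chi, gmFn_tpt] at h1
      obtain ⟨x, rfl⟩ := (sec_bijective q).surjective a
      rw [sec, sec, ← map_mul] at h1
      have h2 : ((z ^ bM.coord i (σ (π (D.r d))) : Kˣ) : K) * x = x := (sec_bijective q).injective h1
      by_contra hx
      refine hz (Units.ext ((mul_left_eq_self₀.1 h2).resolve_right fun h0 => hx ?_))
      rw [h0]; exact map_zero _
    refine mul_mem (prod_mem e v fun l => ?_) (mul_mem (hT.mem_range t) (prod_mem e' w fun l => ?_))
    · rcases hzero (e l) (v l) (fun s => (hkey s).1 l) with h | h | h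
      · rw [h, U_zero]; exact one_mem _
      · rw [D.r_inj h]
        obtain ⟨x, hx⟩ := (sec_bijective q).surjective (v l)
        rw [← hx]; exact hcm x
      · exfalso
        have h1 := hf.neg l
        rw [h, map_neg] at h1
        omega
    · obtain ⟨x, hx⟩ := (sec_bijective q).surjective (w l)
      rw [← hx]; exact hpos _ (hf.pos l) x
  -- hence all of it
  have hUne : pimg (1 : Pt Z) ∈ U := by
    obtain ⟨x₀, hx₀⟩ := (DSPtsLib.theta_bijective (H := cellOb D n m) q).surjective
      (show (Over.map q).obj (𝟙_ (Over (Spec (CommRingCat.of K)))) ⟶ _ from cellPt D (n := n) (m := m) (X := pX q) 0 1 0)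
    refine Set.mem_preimage.2 ⟨pimg x₀, ?_⟩
    rw [← Deform.Chev.pimg_comp, ← Deform.Chev.pimg_comp, MonObj.one_comp]
    congr 1
    refine (DSPtsLib.theta_bijective q).injective ?_
    rw [Deform.Luna.theta_comp_map, hx₀, GrpSchLib.RankOne.theta_one]
    exact (torus_factor D e e' (X := pX q) 1).trans (MonObj.one_comp _)
  haveI : QuasiCompact Z.hom := by
    haveI : IsAffineHom Z.hom := isAffineHom_of_isAffine _
    infer_instance
  haveI : IsIntegral Z.left := GrpSchLib.Kunneth.isIntegral_grp Z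
  have hall : ∀ z : Pt Z, ψ z ∈ (ptsHom i').range := fun z => by
    obtain ⟨z₁, h1, h2⟩ : ∃ z₁ : Pt Z, pimg z₁ ∈ U ∧ pimg (z₁⁻¹ * z) ∈ U := by
      haveI : LocallyOfFiniteType Z.hom := inferInstance
      let τ : Z ⟶ Z := (𝟙 Z)⁻¹ * (toUnit Z ≫ z)
      have hτ : ∀ y : Pt Z, y ≫ τ = y⁻¹ * z := fun y => by
        rw [MonObj.comp_mul, GrpObj.comp_inv, Category.comp_id, ← Category.assoc, toUnit_unique (y ≫ toUnit Z) (𝟙 _),
          Category.id_comp]
      have hne : (τ.left ⁻¹' U).Nonempty := ⟨pimg (z * (1 : Pt Z)⁻¹), by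
        show τ.left (pimg _) ∈ U
        rw [← Deform.Chev.pimg_comp, hτ]
        simpa using hUne⟩
      obtain ⟨y, hy⟩ := Deform.Chev.exists_pt (G := Z)
        (nonempty_preirreducible_inter hU (hU.preimage τ.left.continuous) ⟨_, hUne⟩ hne)
        (hU.inter (hU.preimage τ.left.continuous)).isLocallyClosed
      exact ⟨y, hy.1, by have := hy.2; rwa [Set.mem_preimage, ← Deform.Chev.pimg_comp, hτ] at this⟩
    have h3 := mul_mem (hptU z₁ h1) (hptU _ h2)
    rwa [← map_mul, mul_inv_cancel_left] at h3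
  -- so the centraliser is commutative
  haveI : Group.IsSolvable (ptsHom i').range := solvable_of_surjective (ptsHom i').rangeRestrict_surjective
  haveI : Group.IsSolvable (Pt Z) := solvable_of_solvable_injective (f := ψ.codRestrict (ptsHom i').range hall)
    fun z z' h => hψ (congrArg Subtype.val h)
  haveI : IsClosedImmersion (𝟙 Z : Z ⟶ Z).left := inferInstanceAs (IsClosedImmersion (𝟙 Z.left))
  obtain ⟨-, hcomm⟩ := Deform.Luna.solvable_normal_torus hZred (𝟙 Z) fun X g x => ⟨g * x * g⁻¹, by simp⟩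
  obtain ⟨z, hz⟩ : ∃ z : Kˣ, z ^ (2 : ℤ) ≠ 1 := exists_unit_zpow_ne two_ne_zero
  obtain ⟨z₁, hz₁⟩ := hin (D.tpt q (expHom z nu) ≫ D.j) fun X' x w => by
    simp only [φ, ← Category.assoc, ← MonObj.mul_comp, comm_DS D]
  obtain ⟨z₂, hz₂⟩ := hin (D.U c (sec q (1 : K))) fun X' x w => by
    rw [comp_U]
    have h1 := conj_U (a := c) (w ≫ Red.DSmap S π.toAddMonoidHom) (x.left.appTop (sec q (1 : K)))
    rw [Category.assoc, Category.assoc, hchi, hπc, show Red.chi S (0 : M') = 1 by
      rw [Red.chi, show zmultiplesHom M' (0 : M') = 0 from AddMonoidHom.ext_int (by simp), Deform.DiagMaps.DSmap_zero],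
      MonObj.comp_one, GmPts.gmFn_one, _root_.one_mul, mul_inv_eq_iff_eq_mul] at h1
    exact h1.symm
  have h1 : ψ z₁ * ψ z₂ = ψ z₂ * ψ z₁ := by
    rw [← map_mul, ← map_mul]
    congr 1
    simpa using hcomm _ z₁ z₂
  rw [hz₁, hz₂, ← mul_inv_eq_iff_eq_mul, conj_U, gmFn_tpt, sec, sec, ← map_mul] at h1
  have h2 : ((z ^ nu (D.r c) : Kˣ) : K) * 1 = 1 := (sec_bijective q).injective (U_injective h1)
  rw [hnu, _root_.mul_one] at h2
  exact hz (Units.ext h2)

end

end Groth.Agent.SplitGrp
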