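import Groth.Agent.SplitGrp.Base
import Groth.Agent.GrpSchLib.RankOneBase

/-!
# Limits along cocharacters, and injectivity of products of root subgroups
-/

universe u

open CategoryTheory CategoryTheory.Limits MonoidalCategory CartesianMonoidalCategory MonObj GrpObj AlgebraicGeometry
open scoped Polynomial LaurentPolynomial

attribute [local instance] CategoryTheory.Hom.monoid CategoryTheory.Hom.group
set_option linter.style.haveILetI false
set_option linter.unusedSectionVars false

namespace Groth.Agent.SplitGrp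

noncomputable section

variable {S : Scheme.{u}} {G : Over S}

section Coordinates

variable {B B' B'' : Type u} [CommRing B] [CommRing B'] [CommRing B'']

/-- A point read as a ring map out of the functions on the base change. -/
def crd (s : Spec (CommRingCat.of B) ⟶ S) {s' : Spec (CommRingCat.of B') ⟶ S} (jB : B →+* B')
    (hjB : Spec.map (CommRingCat.ofHom jB) ≫ s = s') (g : pX s' ⟶ G) : Γ(pullback G.hom s, ⊤) →+* B' :=
  ((pullback.lift g.left (Spec.map (CommRingCat.ofHom jB)) ((Over.w g).trans hjB.symm)).appTop ≫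
    (Scheme.ΓSpecIso (CommRingCat.of B')).hom).hom

theorem crd_mor (s : Spec (CommRingCat.of B) ⟶ S) {s' : Spec (CommRingCat.of B') ⟶ S}
    {s'' : Spec (CommRingCat.of B'') ⟶ S} (jB : B →+* B') (hjB : Spec.map (CommRingCat.ofHom jB) ≫ s = s')
    (φ : B' →+* B'') (hφ : Spec.map (CommRingCat.ofHom φ) ≫ s' = s'') (jB' : B →+* B'')
    (hjB' : Spec.map (CommRingCat.ofHom jB') ≫ s = s'') (hc : φ.comp jB = jB') (g : pX s' ⟶ G) :
    crd s jB' hjB' (mor φ hφ ≫ g) = φ.comp (crd s jB hjB g) := by
  subst hc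
  have h : pullback.lift (mor φ hφ ≫ g).left (Spec.map (CommRingCat.ofHom (φ.comp jB)))
      ((Over.w (mor φ hφ ≫ g)).trans hjB'.symm) = Spec.map (CommRingCat.ofHom φ) ≫
        pullback.lift g.left (Spec.map (CommRingCat.ofHom jB)) ((Over.w g).trans hjB.symm) := by
    refine pullback.hom_ext ?_ ?_
    · rw [pullback.lift_fst, Category.assoc, pullback.lift_fst]
      rfl
    · rw [pullback.lift_snd, Category.assoc, pullback.lift_snd, CommRingCat.ofHom_comp, Spec.map_comp]
  refine congrArg CommRingCat.Hom.hom (Eq.trans (congrArg (fun m => Scheme.Hom.appTop m ≫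
    (Scheme.ΓSpecIso (CommRingCat.of B'')).hom) h) ?_)
  rw [Scheme.Hom.comp_appTop, Category.assoc, Scheme.ΓSpecIso_naturality, ← Category.assoc]
  rfl

theorem crd_injective [IsAffineHom G.hom] (s : Spec (CommRingCat.of B) ⟶ S) {s' : Spec (CommRingCat.of B') ⟶ S}
    (jB : B →+* B') (hjB : Spec.map (CommRingCat.ofHom jB) ≫ s = s') :
    Function.Injective (crd s jB hjB : (pX s' ⟶ G) → _) := by
  intro g g' h
  haveI : IsAffineHom (pullback.snd G.hom s) := MorphismProperty.pullback_snd _ _ inferInstance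
  haveI : IsAffine (pullback G.hom s) := isAffine_of_isAffineHom (pullback.snd G.hom s)
  have h1 := ext_of_isAffine ((cancel_mono (Scheme.ΓSpecIso (CommRingCat.of B')).hom).1 (CommRingCat.hom_ext h))
  exact Over.OverMorphism.ext ((pullback.lift_fst _ _ _).symm.trans
    ((congrArg (· ≫ pullback.fst G.hom s) h1).trans (pullback.lift_fst _ _ _)))

/-- Points are determined by their images under jointly injective ring maps. -/
theorem hom_ext_pts [IsAffineHom G.hom] (s : Spec (CommRingCat.of B) ⟶ S) {J : Type} (C : J → Type u)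
    [∀ l, CommRing (C l)] (σ : ∀ l, B →+* C l) (t : ∀ l, Spec (CommRingCat.of (C l)) ⟶ S)
    (hσ : ∀ l, Spec.map (CommRingCat.ofHom (σ l)) ≫ s = t l)
    (hinj : ∀ x y, (∀ l, σ l x = σ l y) → x = y) {g g' : pX s ⟶ G}
    (h : ∀ l, mor (σ l) (hσ l) ≫ g = mor (σ l) (hσ l) ≫ g') : g = g' := by
  have hid : Spec.map (CommRingCat.ofHom (RingHom.id B)) ≫ s = s := by simp
  refine crd_injective s (RingHom.id B) hid (RingHom.ext fun x => hinj _ _ fun l => ?_)
  have h1 := crd_mor s (RingHom.id B) hid (σ l) (hσ l) (σ l) (hσ l) (RingHom.comp_id _) g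
  have h2 := crd_mor s (RingHom.id B) hid (σ l) (hσ l) (σ l) (hσ l) (RingHom.comp_id _) g'
  rw [h l] at h1
  exact RingHom.congr_fun (h1.symm.trans h2) x

end Coordinates

variable [GrpObj G]

section Limits

variable {R : Type u} [CommRing R]

/-- The polynomial line over a ring. -/
abbrev polyS (s : Spec (CommRingCat.of R) ⟶ S) : Spec (CommRingCat.of R[X]) ⟶ S :=
  Spec.map (CommRingCat.ofHom Polynomial.C) ≫ s

/-- The punctured line over a ring. -/
abbrev laurS (s : Spec (CommRingCat.of R) ⟶ S) : Spec (CommRingCat.of R[T;T⁻¹]) ⟶ S :=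
  Spec.map (CommRingCat.ofHom LaurentPolynomial.C) ≫ s

theorem spec_comp_eq {A B C : Type u} [CommRing A] [CommRing B] [CommRing C] (s : Spec (CommRingCat.of A) ⟶ S)
    (jB : A →+* B) (φ : B →+* C) (jB' : A →+* C) (h : φ.comp jB = jB') :
    Spec.map (CommRingCat.ofHom φ) ≫ Spec.map (CommRingCat.ofHom jB) ≫ s = Spec.map (CommRingCat.ofHom jB') ≫ s := by
  rw [← Category.assoc, ← Spec.map_comp, ← CommRingCat.ofHom_comp, h]

theorem toLaurent_comp_C : (Polynomial.toLaurent (R := R)).comp Polynomial.C = LaurentPolynomial.C :=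
  RingHom.ext Polynomial.toLaurent_C

theorem invert_comp_C : ((LaurentPolynomial.invert (R := R)).toAlgHom.toRingHom).comp LaurentPolynomial.C =
    LaurentPolynomial.C :=
  RingHom.ext LaurentPolynomial.invert_C

variable (s : Spec (CommRingCat.of R) ⟶ S)

/-- The punctured line in the line. -/
def toL : pX (laurS s) ⟶ pX (polyS s) :=
  mor Polynomial.toLaurent (spec_comp_eq s _ _ _ toLaurent_comp_C)

/-- The inversion of the punctured line. -/
def invL : pX (laurS s) ⟶ pX (laurS s) :=
  mor (LaurentPolynomial.invert (R := R)).toAlgHom.toRingHom (spec_comp_eq s _ _ _ invert_comp_C)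

/-- The structure map of the punctured line. -/
def baseL : pX (laurS s) ⟶ pX s := mor LaurentPolynomial.C rfl

/-- The structure map of the line. -/
def baseP : pX (polyS s) ⟶ pX s := mor Polynomial.C rfl

/-- A section of the line. -/
def evP (c : R) : pX s ⟶ pX (polyS s) :=
  mor (Polynomial.evalRingHom c) (by
    rw [spec_comp_eq s _ _ (RingHom.id R) (RingHom.ext fun r => Polynomial.eval_C)]
    simp)

/-- The unit section of the punctured line. -/
def oneL : pX s ⟶ pX (laurS s) :=
  mor (LaurentPolynomial.eval₂ (RingHom.id R) 1) (by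
    rw [spec_comp_eq s _ _ (RingHom.id R) (RingHom.ext fun r => LaurentPolynomial.eval₂_C _ _ _)]
    simp)

variable (D : Sys G)

/-- The values of a cocharacter at the tautological point. -/
def zchar (lam : D.M →+ ℤ) : Multiplicative D.M →* R[T;T⁻¹] where
  toFun m := LaurentPolynomial.T (lam m.toAdd)
  map_one' := by simp
  map_mul' a b := by rw [toAdd_mul, map_add, LaurentPolynomial.T_add]

/-- The tautological torus point of a cocharacter. -/
def zt (lam : D.M →+ ℤ) : pX (laurS s) ⟶ Red.DS S D.M := D.tpt (laurS s) (zchar D lam)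

/-- The orbit of a point under a cocharacter. -/
def orbit (lam : D.M →+ ℤ) (g : pX s ⟶ G) : pX (laurS s) ⟶ G :=
  (zt s D lam ≫ D.j) * (baseL s ≫ g) * (zt s D lam ≫ D.j)⁻¹

/-- The orbit of `g` has the limit `l` at the origin. -/
def Lim (lam : D.M →+ ℤ) (g l : pX s ⟶ G) : Prop :=
  ∃ h : pX (polyS s) ⟶ G, toL s ≫ h = orbit s D lam g ∧ evP s 0 ≫ h = l

variable {s D}

theorem mor_id {B : Type u} [CommRing B] {s : Spec (CommRingCat.of B) ⟶ S} (φ : B →+* B)
    (h : Spec.map (CommRingCat.ofHom φ) ≫ s = s) (hφ : φ = RingHom.id B) : mor φ h = 𝟙 (pX s) := by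
  subst hφ
  refine Over.OverMorphism.ext ?_
  show Spec.map (CommRingCat.ofHom (RingHom.id B)) = 𝟙 _
  simp

theorem oneL_baseL : oneL s ≫ baseL s = 𝟙 _ := by
  refine Over.OverMorphism.ext ?_
  show Spec.map _ ≫ Spec.map _ = 𝟙 _
  rw [← Spec.map_comp, ← CommRingCat.ofHom_comp,
    show (LaurentPolynomial.eval₂ (RingHom.id R) (1 : Rˣ)).comp LaurentPolynomial.C = RingHom.id R from
      RingHom.ext fun r => LaurentPolynomial.eval₂_C _ _ _]
  simp

theorem oneL_toL : oneL s ≫ toL s = evP s 1 := by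
  refine Over.OverMorphism.ext ?_
  show Spec.map _ ≫ Spec.map _ = Spec.map _
  rw [← Spec.map_comp, ← CommRingCat.ofHom_comp]
  congr 2
  refine Polynomial.ringHom_ext (fun r => ?_) ?_
  · simp
  · simp

theorem evP_baseP (c : R) : evP s c ≫ baseP s = 𝟙 _ := by
  refine Over.OverMorphism.ext ?_
  show Spec.map _ ≫ Spec.map _ = 𝟙 _
  rw [← Spec.map_comp, ← CommRingCat.ofHom_comp,
    show (Polynomial.evalRingHom c).comp Polynomial.C = RingHom.id R from RingHom.ext fun r => Polynomial.eval_C]
  simp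

theorem toL_baseP : toL s ≫ baseP s = baseL s := by
  refine Over.OverMorphism.ext ?_
  show Spec.map _ ≫ Spec.map _ = Spec.map _
  rw [← Spec.map_comp, ← CommRingCat.ofHom_comp, toLaurent_comp_C]

theorem invL_baseL : invL s ≫ baseL s = baseL s := by
  refine Over.OverMorphism.ext ?_
  show Spec.map _ ≫ Spec.map _ = Spec.map _
  rw [← Spec.map_comp, ← CommRingCat.ofHom_comp, invert_comp_C]

variable {lam : D.M →+ ℤ}

theorem oneL_orbit (g : pX s ⟶ G) : oneL s ≫ orbit s D lam g = g := by
  have h1 : oneL s ≫ zt s D lam = 1 := by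
    rw [oneL, zt, tpt_comp]
    refine Eq.trans (congrArg (D.tpt s) (MonoidHom.ext fun m => ?_)) (tpt_one s)
    simp [zchar]
  have h2 : oneL s ≫ zt s D lam ≫ D.j = 1 := by rw [← Category.assoc, h1, MonObj.one_comp]
  simp only [orbit, MonObj.comp_mul, GrpObj.comp_inv, h2]
  rw [← Category.assoc, oneL_baseL, Category.id_comp]
  group

theorem invL_orbit (g : pX s ⟶ G) : invL s ≫ orbit s D (-lam) g = orbit s D lam g := by
  have h1 : invL s ≫ zt s D (-lam) = zt s D lam := by
    rw [invL, zt, tpt_comp]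
    refine congrArg (D.tpt _) (MonoidHom.ext fun m => ?_)
    simp [zchar]
  have h2 : invL s ≫ zt s D (-lam) ≫ D.j = zt s D lam ≫ D.j := by rw [← Category.assoc, h1]
  simp only [orbit, MonObj.comp_mul, GrpObj.comp_inv, h2]
  rw [← Category.assoc, invL_baseL]

theorem Lim.mul {g g' l l' : pX s ⟶ G} (h : Lim s D lam g l) (h' : Lim s D lam g' l') :
    Lim s D lam (g * g') (l * l') := by
  obtain ⟨k, hk, hk0⟩ := h
  obtain ⟨k', hk', hk0'⟩ := h'
  refine ⟨k * k', ?_, by rw [MonObj.comp_mul, hk0, hk0']⟩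
  rw [MonObj.comp_mul, hk, hk', orbit, orbit, orbit, MonObj.comp_mul]
  group

theorem Lim.inv {g l : pX s ⟶ G} (h : Lim s D lam g l) : Lim s D lam g⁻¹ l⁻¹ := by
  obtain ⟨k, hk, hk0⟩ := h
  refine ⟨k⁻¹, ?_, by rw [GrpObj.comp_inv, hk0]⟩
  rw [GrpObj.comp_inv, hk, orbit, orbit, GrpObj.comp_inv]
  group

theorem lim_torus (t : pX s ⟶ Red.DS S D.M) : Lim s D lam (t ≫ D.j) (t ≫ D.j) := by
  haveI : IsCommMonObj (Red.DS S D.M) := GrpSchLib.RankOne.isCommMonObj_bc
    (Limits.IsTerminal.from specULiftZIsTerminal S) (Red.diag (ULift.{u} ℤ) D.M)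
  refine ⟨baseP s ≫ t ≫ D.j, ?_, by rw [← Category.assoc, evP_baseP, Category.id_comp]⟩
  have hinv : (zt s D lam ≫ D.j)⁻¹ = (zt s D lam)⁻¹ ≫ D.j := (GrpObj.inv_comp _ _).symm
  rw [← Category.assoc, toL_baseP, orbit, ← Category.assoc (baseL s), hinv, ← MonObj.mul_comp, ← MonObj.mul_comp]
  congr 1
  have hcm : zt s D lam * (baseL s ≫ t) = (baseL s ≫ t) * zt s D lam := _root_.mul_comm _ _
  rw [hcm]
  exact (mul_inv_cancel_right (G := pX (laurS s) ⟶ Red.DS S D.M) _ _).symm

theorem orbit_Prod {n : ℕ} (e : Fin n → D.idx) (v : Fin n → R) :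
    orbit s D lam (D.Prod e (fun l => sec s (v l))) =
      D.Prod e (fun l => sec (laurS s) (LaurentPolynomial.T (lam (D.r (e l))) * LaurentPolynomial.C (v l))) := by
  rw [orbit, baseL, comp_Prod_sec, zt, conj_tpt_Prod]
  rfl

theorem lim_Prod {n : ℕ} (e : Fin n → D.idx) (hpos : ∀ l, 0 < lam (D.r (e l))) (v : Fin n → R) :
    Lim s D lam (D.Prod e (fun l => sec s (v l))) 1 := by
  refine ⟨D.Prod e (fun l => sec (polyS s) (Polynomial.X ^ (lam (D.r (e l))).toNat * Polynomial.C (v l))), ?_, ?_⟩
  · rw [toL, comp_Prod_sec, orbit_Prod]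
    congr 1
    funext l
    rw [map_mul, Polynomial.toLaurent_X_pow, Polynomial.toLaurent_C, Int.toNat_of_nonneg (hpos l).le]
  · rw [evP, comp_Prod_sec]
    refine Eq.trans ?_ (Prod_zero e)
    congr 1
    funext l
    have : (lam (D.r (e l))).toNat ≠ 0 := by have := hpos l; omega
    simp [sec, zero_pow this]

theorem coeff_toLaurent_nat (p : R[X]) (n : ℕ) : (Polynomial.toLaurent p).coeff (n : ℤ) = p.coeff n := by
  rw [Polynomial.toLaurent_apply]
  exact Finsupp.mapDomain_apply Nat.cast_injective _ _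

theorem coeff_toLaurent_neg (p : R[X]) {z : ℤ} (hz : z < 0) : (Polynomial.toLaurent p).coeff z = 0 := by
  rw [Polynomial.toLaurent_apply]
  exact Finsupp.mapDomain_of_notMem_range _ _ fun ⟨n, hn⟩ => by
    have : (n : ℤ) = z := hn
    omega

theorem toLaurent_inj {p q : R[X]} (h : Polynomial.toLaurent p = Polynomial.toLaurent q) : p = q :=
  Polynomial.ext fun n => by rw [← coeff_toLaurent_nat, h, coeff_toLaurent_nat]

/-- A point with limits along opposite cocharacters equals both limits. -/
theorem lim_separation {g l l' : pX s ⟶ G} (h : Lim s D lam g l) (h' : Lim s D (-lam) g l') :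
    g = l ∧ g = l' := by
  haveI : IsAffineHom G.hom := D.reductive.1
  obtain ⟨k, hk, rfl⟩ := h
  obtain ⟨k', hk', rfl⟩ := h'
  have hC : Spec.map (CommRingCat.ofHom (Polynomial.C : R →+* R[X])) ≫ s = polyS s := rfl
  have hL : Spec.map (CommRingCat.ofHom (LaurentPolynomial.C : R →+* R[T;T⁻¹])) ≫ s = laurS s := rfl
  have hR : Spec.map (CommRingCat.ofHom (RingHom.id R)) ≫ s = s := by simp
  have heq : toL s ≫ k = invL s ≫ toL s ≫ k' := by rw [hk, hk', invL_orbit]
  have key : ∀ x, Polynomial.toLaurent (crd s Polynomial.C hC k x) =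
      LaurentPolynomial.invert (Polynomial.toLaurent (crd s Polynomial.C hC k' x)) := fun x => by
    have h1 := crd_mor s Polynomial.C hC Polynomial.toLaurent (spec_comp_eq s _ _ _ toLaurent_comp_C)
      LaurentPolynomial.C hL toLaurent_comp_C k
    have h2 := crd_mor s Polynomial.C hC Polynomial.toLaurent (spec_comp_eq s _ _ _ toLaurent_comp_C)
      LaurentPolynomial.C hL toLaurent_comp_C k'
    have h3 := crd_mor s LaurentPolynomial.C hL (LaurentPolynomial.invert (R := R)).toAlgHom.toRingHom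
      (spec_comp_eq s _ _ _ invert_comp_C) LaurentPolynomial.C hL invert_comp_C (toL s ≫ k')
    have h4 : crd s LaurentPolynomial.C hL (toL s ≫ k) = crd s LaurentPolynomial.C hL (invL s ≫ toL s ≫ k') := by
      rw [heq]
    exact RingHom.congr_fun (h1.symm.trans (h4.trans (h3.trans (congrArg
      ((LaurentPolynomial.invert (R := R)).toAlgHom.toRingHom).comp h2)))) x
  have hconst : ∀ x, ∀ c : R, (crd s Polynomial.C hC k x).eval c = (crd s Polynomial.C hC k x).coeff 0 ∧
      (crd s Polynomial.C hC k' x).eval c = (crd s Polynomial.C hC k x).coeff 0 := fun x c => by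
    have h1 : ∀ n : ℕ, n ≠ 0 → (crd s Polynomial.C hC k x).coeff n = 0 ∧
        (crd s Polynomial.C hC k' x).coeff n = 0 := by
      intro n hn
      refine ⟨?_, ?_⟩
      · rw [← coeff_toLaurent_nat, key x, LaurentPolynomial.invert_apply, coeff_toLaurent_neg _ (by omega)]
      · have h2 := congrArg (fun p : R[T;T⁻¹] => p.coeff (-(n : ℤ))) (key x)
        simp only [LaurentPolynomial.invert_apply, neg_neg, coeff_toLaurent_nat] at h2
        rw [← h2, coeff_toLaurent_neg _ (by omega)]
    have h0 : (crd s Polynomial.C hC k' x).coeff 0 = (crd s Polynomial.C hC k x).coeff 0 := by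
      have h2 := congrArg (fun p : R[T;T⁻¹] => p.coeff ((0 : ℕ) : ℤ)) (key x)
      simp only [coeff_toLaurent_nat, LaurentPolynomial.invert_apply, Nat.cast_zero, neg_zero] at h2
      exact ((coeff_toLaurent_nat _ 0).symm.trans h2.symm).trans (coeff_toLaurent_nat _ 0)
    constructor
    · rw [show crd s Polynomial.C hC k x = Polynomial.C ((crd s Polynomial.C hC k x).coeff 0) from
        Polynomial.ext fun n => by
          rcases eq_or_ne n 0 with rfl | hn
          · simp
          · rw [(h1 n hn).1, Polynomial.coeff_C, if_neg hn]]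
      simp
    · rw [show crd s Polynomial.C hC k' x = Polynomial.C ((crd s Polynomial.C hC k x).coeff 0) from
        Polynomial.ext fun n => by
          rcases eq_or_ne n 0 with rfl | hn
          · simp [h0]
          · rw [(h1 n hn).2, Polynomial.coeff_C, if_neg hn]]
      simp
  have hev : ∀ (m : pX (polyS s) ⟶ G) (c : R) (x), crd s (RingHom.id R) hR (evP s c ≫ m) x =
      (crd s Polynomial.C hC m x).eval c := fun m c x => by
    rw [evP, crd_mor s Polynomial.C hC (Polynomial.evalRingHom c) _ (RingHom.id R) hR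
      (RingHom.ext fun r => Polynomial.eval_C) m]
    rfl
  have hg : evP s 1 ≫ k = g := by rw [← oneL_toL, Category.assoc, hk, oneL_orbit]
  have hg' : evP s 1 ≫ k' = g := by rw [← oneL_toL, Category.assoc, hk', oneL_orbit]
  constructor
  · rw [← hg]
    refine crd_injective s (RingHom.id R) hR (RingHom.ext fun x => ?_)
    rw [hev, hev, (hconst x 1).1, (hconst x 0).1]
  · rw [← hg']
    refine crd_injective s (RingHom.id R) hR (RingHom.ext fun x => ?_)
    rw [hev, hev, (hconst x 1).2, (hconst x 0).2]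

end Limits

section Infinitesimal

variable (D : Sys G) {B : Type u} [CommRing B]

/-- The group algebra of the character lattice. -/
abbrev grpAlg (D : Sys G) (B : Type u) [CommRing B] : Type u := MonoidAlgebra B (Multiplicative D.M)

/-- Products of distinct root subgroups are infinitesimally injective. -/
theorem Sys.Prod_eps (s : Spec (CommRingCat.of B) ⟶ S) {n : ℕ} (e : Fin n → D.idx) (he : Function.Injective e)
    (d : Fin n → B) (s' : Spec (CommRingCat.of (TrivSqZeroExt B B)) ⟶ S)
    (hs' : Spec.map (CommRingCat.ofHom (TrivSqZeroExt.inlHom B B)) ≫ s = s')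
    (h : D.Prod e (fun l => sec s' (TrivSqZeroExt.inr (d l))) = 1) : d = 0 := by
  classical
  haveI : IsAffineHom G.hom := D.reductive.1
  funext l₀
  let lin : B →ₗ[B] (grpAlg D B) := MonoidAlgebra.lsingle 1
  let sE : Spec (CommRingCat.of (TrivSqZeroExt B (grpAlg D B))) ⟶ S := Spec.map (CommRingCat.ofHom (TrivSqZeroExt.inlHom B (grpAlg D B))) ≫ s
  let φ : TrivSqZeroExt B B →+* (TrivSqZeroExt B (grpAlg D B)) := (TrivSqZeroExt.map lin).toRingHom
  let emb : (TrivSqZeroExt B (grpAlg D B)) →+* (TrivSqZeroExt (grpAlg D B) (grpAlg D B)) :=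
    { toFun := fun x => TrivSqZeroExt.inl (algebraMap B (grpAlg D B) x.fst) + TrivSqZeroExt.inr x.snd
      map_one' := TrivSqZeroExt.ext (by simp [TrivSqZeroExt.fst_add, MonoidAlgebra.one_def]) (by simp [TrivSqZeroExt.snd_add])
      map_zero' := TrivSqZeroExt.ext (by simp [TrivSqZeroExt.fst_add]) (by simp [TrivSqZeroExt.snd_add])
      map_add' := fun x y => TrivSqZeroExt.ext
        (by simp only [TrivSqZeroExt.fst_add, TrivSqZeroExt.fst_inl, TrivSqZeroExt.fst_inr, add_zero, map_add])
        (by simp only [TrivSqZeroExt.snd_add, TrivSqZeroExt.snd_inl, TrivSqZeroExt.snd_inr, zero_add])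
      map_mul' := fun x y => TrivSqZeroExt.ext
        (by simp only [TrivSqZeroExt.fst_add, TrivSqZeroExt.fst_mul, TrivSqZeroExt.fst_inl, TrivSqZeroExt.fst_inr,
          add_zero, map_mul])
        (by simp only [TrivSqZeroExt.snd_add, TrivSqZeroExt.snd_mul, TrivSqZeroExt.fst_add, TrivSqZeroExt.snd_inl,
              TrivSqZeroExt.snd_inr, TrivSqZeroExt.fst_inl, TrivSqZeroExt.fst_inr, zero_add, add_zero,
              op_smul_eq_smul, algebraMap_smul]) }
  let sE' : Spec (CommRingCat.of (TrivSqZeroExt (grpAlg D B) (grpAlg D B))) ⟶ S := Spec.map (CommRingCat.ofHom emb) ≫ sE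
  let χ : Multiplicative D.M →* (TrivSqZeroExt (grpAlg D B) (grpAlg D B)) := (TrivSqZeroExt.inlHom (grpAlg D B) (grpAlg D B) : (grpAlg D B) →* (TrivSqZeroExt (grpAlg D B) (grpAlg D B))).comp (MonoidAlgebra.of B _)
  let w : Fin n → (grpAlg D B) := fun l => MonoidAlgebra.single (Multiplicative.ofAdd (D.r (e l))) (d l)
  have h1 : D.Prod e (fun l => sec sE (TrivSqZeroExt.inr (lin (d l)))) = 1 := by
    have hφ : Spec.map (CommRingCat.ofHom φ) ≫ s' = sE := by
      rw [← hs', spec_comp_eq s _ _ (TrivSqZeroExt.inlHom B (grpAlg D B))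
        (RingHom.ext fun b => TrivSqZeroExt.map_inl _ b)]
    have := congrArg (mor φ hφ ≫ ·) h
    simp only [comp_Prod_sec, MonObj.comp_one] at this
    refine Eq.trans ?_ this
    congr 1
    funext l
    exact congrArg (sec sE) (TrivSqZeroExt.map_inr lin (d l)).symm
  have h2 : D.Prod e (fun l => sec sE' (TrivSqZeroExt.inr (w l))) = 1 := by
    have h3 := congrArg (fun g => (D.tpt sE' χ ≫ D.j) * (mor emb rfl ≫ g) * (D.tpt sE' χ ≫ D.j)⁻¹) h1
    simp only [comp_Prod_sec, MonObj.comp_one, _root_.mul_one, mul_inv_cancel, conj_tpt_Prod] at h3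
    refine Eq.trans ?_ h3
    congr 1
    funext l
    congr 1
    show _ = TrivSqZeroExt.inl (MonoidAlgebra.single (Multiplicative.ofAdd (D.r (e l))) (1 : B)) *
      (TrivSqZeroExt.inl (algebraMap B (grpAlg D B) (TrivSqZeroExt.fst (TrivSqZeroExt.inr (lin (d l)) : (TrivSqZeroExt B (grpAlg D B))))) +
        TrivSqZeroExt.inr (TrivSqZeroExt.snd (TrivSqZeroExt.inr (lin (d l)) : (TrivSqZeroExt B (grpAlg D B)))))
    rw [TrivSqZeroExt.fst_inr, TrivSqZeroExt.snd_inr, map_zero, TrivSqZeroExt.inl_zero, zero_add,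
      TrivSqZeroExt.inl_mul_inr]
    congr 1
    simp [w, lin, MonoidAlgebra.single_mul_single]
  have h4 : D.Prod e (fun l => sec sE (TrivSqZeroExt.inr (w l))) = 1 := by
    refine hom_ext_pts (J := Unit) sE (fun _ => (TrivSqZeroExt (grpAlg D B) (grpAlg D B))) (fun _ => emb) (fun _ => sE') (fun _ => rfl) (fun x y hxy => ?_)
      fun _ => ?_
    · have hxy' : emb x = emb y := hxy ()
      simp only [emb, RingHom.coe_mk, MonoidHom.coe_mk, OneHom.coe_mk] at hxy'
      have h5 := congrArg (fun z : (TrivSqZeroExt (grpAlg D B) (grpAlg D B)) => z.fst) hxy'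
      have h7 := congrArg (fun z : (TrivSqZeroExt (grpAlg D B) (grpAlg D B)) => z.snd) hxy'
      simp only [TrivSqZeroExt.fst_add, TrivSqZeroExt.fst_inl, TrivSqZeroExt.fst_inr, add_zero] at h5
      simp only [TrivSqZeroExt.snd_add, TrivSqZeroExt.snd_inl, TrivSqZeroExt.snd_inr, zero_add] at h7
      refine TrivSqZeroExt.ext ?_ h7
      simpa using congrArg (fun z : grpAlg D B => z.coeff 1) h5
    · rw [comp_Prod_sec, MonObj.comp_one]
      refine Eq.trans ?_ h2
      congr 1
      funext l
      simp [emb, sec]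
  let π : (grpAlg D B) →ₗ[B] B :=
    { toFun := fun p => p.coeff (Multiplicative.ofAdd (D.r (e l₀)))
      map_add' := fun p q => by simp
      map_smul' := fun b p => by
        simp only [MonoidAlgebra.coeff_smul, Finsupp.smul_apply, RingHom.id_apply] }
  let ψ : (TrivSqZeroExt B (grpAlg D B)) →+* TrivSqZeroExt B B := (TrivSqZeroExt.map π).toRingHom
  have hψ : Spec.map (CommRingCat.ofHom ψ) ≫ sE = s' := by
    rw [← hs', spec_comp_eq s _ _ (TrivSqZeroExt.inlHom B B) (RingHom.ext fun b => TrivSqZeroExt.map_inl _ b)]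
  have h5 := congrArg (mor ψ hψ ≫ ·) h4
  simp only [comp_Prod_sec, MonObj.comp_one] at h5
  have h6 : (fun l => sec s' (ψ (TrivSqZeroExt.inr (w l)))) =
      Pi.single l₀ (sec s' (TrivSqZeroExt.inr (d l₀))) := by
    funext l
    rw [show ψ (TrivSqZeroExt.inr (w l)) = TrivSqZeroExt.inr (π (w l)) from TrivSqZeroExt.map_inr _ _]
    rcases eq_or_ne l l₀ with rfl | hl
    · simp [π, w]
    · rw [Pi.single_eq_of_ne hl]
      have : D.r (e l) ≠ D.r (e l₀) := fun hh => hl (he (D.r_inj hh))
      simp [π, w, this, sec]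
  rw [h6, Prod_single, ← U_zero (D := D) (a := e l₀)] at h5
  have h7 := U_injective h5
  rw [← map_zero (Scheme.ΓSpecIso (CommRingCat.of (TrivSqZeroExt B B))).inv.hom] at h7
  simpa using congrArg TrivSqZeroExt.snd ((sec_bijective s').injective h7)

end Infinitesimal

section Injectivity

variable {R : Type u} [CommRing R] (D : Sys G)

/-- Pairs of polynomials congruent below degree `N`. -/
def congrBelow (R : Type u) [CommRing R] (N : ℕ) : Subring (R[X] × R[X]) where
  carrier := {p | ∀ i < N, p.1.coeff i = p.2.coeff i}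
  one_mem' := fun i _ => rfl
  zero_mem' := fun i _ => rfl
  add_mem' := fun ha hb i hi => by simp [ha i hi, hb i hi]
  neg_mem' := fun ha i hi => by simp [ha i hi]
  mul_mem' := fun {a b} ha hb i hi => by
    simp only [Prod.fst_mul, Prod.snd_mul, Polynomial.coeff_mul]
    refine Finset.sum_congr rfl fun x hx => ?_
    rw [Finset.HasAntidiagonal.mem_antidiagonal] at hx
    rw [ha x.1 (by omega), hb x.2 (by omega)]

/-- The first coefficient of a difference of congruent pairs. -/
def leadDiff (R : Type u) [CommRing R] (N : ℕ) (hN : 0 < N) : congrBelow R N →+* TrivSqZeroExt R R where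
  toFun p := TrivSqZeroExt.inl (p.1.1.coeff 0) + TrivSqZeroExt.inr (p.1.1.coeff N - p.1.2.coeff N)
  map_one' := by ext <;> simp [hN.ne']
  map_zero' := by ext <;> simp
  map_add' p q := by
    ext
    · simp
    · simp; ring
  map_mul' p q := by
    ext
    · simp [Polynomial.mul_coeff_zero]
    · have key : (p.1.1 * q.1.1).coeff N - (p.1.2 * q.1.2).coeff N =
          p.1.1.coeff 0 * (q.1.1.coeff N - q.1.2.coeff N) + q.1.1.coeff 0 * (p.1.1.coeff N - p.1.2.coeff N) := by
        rw [Polynomial.coeff_mul, Polynomial.coeff_mul, ← Finset.sum_sub_distrib]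
        rw [← Finset.sum_subset (s₁ := ({((0 : ℕ), N), (N, 0)} : Finset (ℕ × ℕ))) (by
          intro x hx
          simp only [Finset.mem_insert, Finset.mem_singleton] at hx
          rcases hx with rfl | rfl <;> simp) (fun x hx hx' => ?_)]
        · rw [Finset.sum_pair (by simp [hN.ne'])]
          simp only [show p.1.2.coeff 0 = p.1.1.coeff 0 from (p.2 0 hN).symm,
            show q.1.2.coeff 0 = q.1.1.coeff 0 from (q.2 0 hN).symm]
          ring
        · rw [Finset.HasAntidiagonal.mem_antidiagonal] at hx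
          simp only [Finset.mem_insert, Finset.mem_singleton, not_or] at hx'
          have h1 : x.1 < N := by
            by_contra hh
            exact hx'.2 (Prod.ext (by omega) (by omega))
          have h2 : x.2 < N := by
            by_contra hh
            exact hx'.1 (Prod.ext (by omega) (by omega))
          rw [p.2 x.1 h1, q.2 x.2 h2, sub_self]
      simpa [mul_comm] using key

/-- Products of distinct positive root subgroups are injective. -/
theorem Sys.Prod_injective (lam : D.M →+ ℤ) (s : Spec (CommRingCat.of R) ⟶ S) {n : ℕ} (e : Fin n → D.idx)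
    (he : Function.Injective e) (hpos : ∀ l, 0 < lam (D.r (e l))) {v v' : Fin n → R}
    (h : D.Prod e (fun l => sec s (v l)) = D.Prod e (fun l => sec s (v' l))) : v = v' := by
  classical
  haveI : IsAffineHom G.hom := D.reductive.1
  let N : Fin n → ℕ := fun l => (lam (D.r (e l))).toNat
  let p : Fin n → R[X] := fun l => Polynomial.X ^ N l * Polynomial.C (v l)
  let q : Fin n → R[X] := fun l => Polynomial.X ^ N l * Polynomial.C (v' l)
  have hP : D.Prod e (fun l => sec (polyS s) (p l)) = D.Prod e (fun l => sec (polyS s) (q l)) := by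
    refine hom_ext_pts (J := Unit) (polyS s) (fun _ => R[T;T⁻¹]) (fun _ => Polynomial.toLaurent)
      (fun _ => laurS s) (fun _ => spec_comp_eq s _ _ _ toLaurent_comp_C) (fun x y hxy => toLaurent_inj (hxy ()))
      fun _ => ?_
    rw [comp_Prod_sec, comp_Prod_sec]
    have hx : ∀ (l : Fin n) (c : R), Polynomial.toLaurent (Polynomial.X ^ N l * Polynomial.C c) =
        LaurentPolynomial.T (lam (D.r (e l))) * LaurentPolynomial.C c := fun l c => by
      rw [map_mul, Polynomial.toLaurent_X_pow, Polynomial.toLaurent_C, Int.toNat_of_nonneg (hpos l).le]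
    simp only [p, q, hx]
    rw [← orbit_Prod, ← orbit_Prod, h]
  by_contra hne
  obtain ⟨l₀, hl₀, hmin⟩ := Finset.exists_min_image (Finset.univ.filter fun l => v l ≠ v' l) N (by
    obtain ⟨l, hl⟩ := Function.ne_iff.1 hne
    exact ⟨l, by simpa using hl⟩)
  simp only [Finset.mem_filter, Finset.mem_univ, true_and] at hl₀ hmin
  have hNpos : ∀ l, 0 < N l := fun l => by
    have := hpos l
    show 0 < (lam (D.r (e l))).toNat
    omega
  let C₀ := congrBelow R (N l₀)
  have hmem : ∀ l, (p l, q l) ∈ C₀ := fun l i hi => by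
    simp only [p, q, Polynomial.coeff_X_pow_mul', Polynomial.coeff_C]
    split_ifs with h1 h2
    · by_contra h3
      exact absurd (hmin l h3) (by omega)
    · rfl
    · rfl
  let diag : Fin n → C₀ := fun l => ⟨(q l, q l), fun _ _ => rfl⟩
  let w : Fin n → C₀ := fun l => ⟨(p l, q l), hmem l⟩
  let pr : Bool → (C₀ →+* R[X]) := fun b => if b then (RingHom.fst _ _).comp C₀.subtype else (RingHom.snd _ _).comp C₀.subtype
  let cC : R →+* C₀ := ((Polynomial.C : R →+* R[X]).prod Polynomial.C).codRestrict C₀ fun r i _ => rfl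
  let sC : Spec (CommRingCat.of C₀) ⟶ S := Spec.map (CommRingCat.ofHom cC) ≫ s
  have hpr : ∀ b, Spec.map (CommRingCat.ofHom (pr b)) ≫ sC = polyS s := fun b =>
    spec_comp_eq s _ _ _ (by cases b <;> rfl)
  have hC : D.Prod e (fun l => sec sC (w l)) = D.Prod e (fun l => sec sC (diag l)) := by
    refine hom_ext_pts (J := Bool) sC (fun _ => R[X]) pr (fun _ => polyS s) hpr (fun x y hxy => ?_) fun b => ?_
    · exact Subtype.ext (Prod.ext (hxy true) (hxy false))
    · rw [comp_Prod_sec, comp_Prod_sec]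
      cases b
      · rfl
      · exact hP
  let s' : Spec (CommRingCat.of (TrivSqZeroExt R R)) ⟶ S :=
    Spec.map (CommRingCat.ofHom (TrivSqZeroExt.inlHom R R)) ≫ s
  let δ := leadDiff R (N l₀) (hNpos l₀)
  have hδ : Spec.map (CommRingCat.ofHom δ) ≫ sC = s' := spec_comp_eq s _ _ _ (RingHom.ext fun r => by
    refine TrivSqZeroExt.ext ?_ ?_
    · simp [δ, leadDiff, cC]
    · simp [δ, leadDiff, cC])
  have h2 := congrArg (mor δ hδ ≫ ·) hC
  simp only [comp_Prod_sec] at h2
  have hq : ∀ l, (q l).coeff 0 = 0 := fun l => by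
    simp [q, Polynomial.coeff_X_pow_mul', (hNpos l).ne']
    exact fun h' => absurd h'.symm (hNpos l).ne'
  have hp : ∀ l, (p l).coeff 0 = 0 := fun l => by
    simp [p, Polynomial.coeff_X_pow_mul', (hNpos l).ne']
    exact fun h' => absurd h'.symm (hNpos l).ne'
  have hdiag : ∀ l, δ (diag l) = 0 := fun l => by
    ext <;> simp [δ, leadDiff, diag, hq]
  have hw : ∀ l, δ (w l) = TrivSqZeroExt.inr ((p l).coeff (N l₀) - (q l).coeff (N l₀)) := fun l => by
    ext <;> simp [δ, leadDiff, w, hp]
  simp only [hdiag, hw, sec, map_zero] at h2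
  rw [Prod_zero] at h2
  have h3 := congrFun (D.Prod_eps s e he _ s' rfl h2) l₀
  refine hl₀ (sub_eq_zero.1 ?_)
  simpa [p, q, Polynomial.coeff_X_pow_mul'] using h3

/-- The product of negative root subgroups, the torus and positive root subgroups is injective on points. -/
theorem Sys.cell_injective (lam : D.M →+ ℤ) (s : Spec (CommRingCat.of R) ⟶ S) {n m : ℕ} {e : Fin n → D.idx}
    {e' : Fin m → D.idx} (he : Function.Injective e) (he' : Function.Injective e')
    (hneg : ∀ l, lam (D.r (e l)) < 0) (hpos : ∀ l, 0 < lam (D.r (e' l))) {v v₁ : Fin n → R}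
    {t t₁ : pX s ⟶ Red.DS S D.M} {w w₁ : Fin m → R}
    (h : D.Prod e (fun l => sec s (v l)) * ((t ≫ D.j) * D.Prod e' (fun l => sec s (w l))) =
      D.Prod e (fun l => sec s (v₁ l)) * ((t₁ ≫ D.j) * D.Prod e' (fun l => sec s (w₁ l)))) :
    v = v₁ ∧ t = t₁ ∧ w = w₁ := by
  have hneg' : ∀ l, 0 < (-lam) (D.r (e l)) := fun l => by simpa using hneg l
  set x := (D.Prod e (fun l => sec s (v₁ l)))⁻¹ * D.Prod e (fun l => sec s (v l)) with hx
  have hx' : x = (t₁ ≫ D.j) * D.Prod e' (fun l => sec s (w₁ l)) * (D.Prod e' (fun l => sec s (w l)))⁻¹ *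
      (t ≫ D.j)⁻¹ := by
    rw [hx, eq_mul_inv_iff_mul_eq, eq_mul_inv_iff_mul_eq, _root_.mul_assoc, _root_.mul_assoc, h]
    group
  have h1 : Lim s D (-lam) x 1 := by
    have := (lim_Prod (s := s) e hneg' v₁).inv.mul (lim_Prod (s := s) e hneg' v)
    rwa [inv_one, _root_.one_mul] at this
  have h2 : Lim s D lam x ((t₁ ≫ D.j) * (t ≫ D.j)⁻¹) := by
    have := (((lim_torus (lam := lam) t₁).mul (lim_Prod (s := s) e' hpos w₁)).mul
      (lim_Prod (s := s) e' hpos w).inv).mul (lim_torus (lam := lam) t).inv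
    rw [← hx'] at this
    simpa using this
  obtain ⟨h3, h4⟩ := lim_separation h2 h1
  have ht : t = t₁ := by
    rw [h4, eq_comm, mul_inv_eq_one] at h3
    exact ((cancel_mono D.j).1 h3).symm
  have hv : D.Prod e (fun l => sec s (v l)) = D.Prod e (fun l => sec s (v₁ l)) :=
    (inv_mul_eq_one.1 (hx ▸ h4)).symm
  rw [hv, ← ht] at h
  exact ⟨D.Prod_injective (-lam) s e he hneg' hv, ht,
    D.Prod_injective lam s e' he' hpos (mul_left_cancel (mul_left_cancel h))⟩

end Injectivity

end

end Groth.Agent.SplitGrp
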