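import Groth.Agent.SplitGrp.Contract
import Groth.Agent.GrpSchLib.RankOneNonComm
import Groth.Agent.GrpSchLib.RankOneNondeg
import Groth.Agent.W4GenDeg.QfFlat
import Groth.Agent.FlatMisc.Fibrewise
import Groth.Agent.SchTorsor.Props
import Groth.Agent.S4715

/-!
# The big cell is open
-/

universe u

open CategoryTheory CategoryTheory.Limits MonoidalCategory CartesianMonoidalCategory MonObj GrpObj AlgebraicGeometry

attribute [local instance] CategoryTheory.Hom.monoid CategoryTheory.Hom.group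
set_option linter.style.haveILetI false
set_option linter.unusedSectionVars false

namespace Groth.Agent.SplitGrp

open GrpSchLib.Kunneth (Fn ev evPt evPt_comp ev_apply)
open SplitRootUnique (IsPD)

noncomputable section

variable {S : Scheme.{u}} {G : Over S} [GrpObj G]

/-- The group structure on powers of the additive group. -/
instance powGrp : ∀ n, GrpObj (RedSub.pow (Red.Ga S) n)
  | 0 => inferInstanceAs (GrpObj (𝟙_ (Over S)))
  | n + 1 => letI := powGrp n; inferInstanceAs (GrpObj (Red.Ga S ⊗ RedSub.pow (Red.Ga S) n))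

/-- The geometric fibres are smooth connected affine. -/
def GoodFibres (X : Over S) : Prop :=
  ∀ (K : Type u) [Field K] [IsAlgClosed K] (q : Spec (CommRingCat.of K) ⟶ S),
    IsAffine (Red.bc q X).left ∧ ConnectedSpace ↥(Red.bc q X).left

theorem smooth_pow : ∀ n, Smooth (RedSub.pow (Red.Ga S) n).hom
  | 0 => inferInstanceAs (Smooth (𝟙 S))
  | n + 1 => by
    haveI := GrpSchLib.RankOne.smooth_ga S
    haveI := smooth_pow n
    exact inferInstanceAs (Smooth (pullback.fst (Red.Ga S).hom (RedSub.pow (Red.Ga S) n).hom ≫ (Red.Ga S).hom))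

theorem isAffineHom_pow : ∀ n, IsAffineHom (RedSub.pow (Red.Ga S) n).hom
  | 0 => inferInstanceAs (IsAffineHom (𝟙 S))
  | n + 1 => by
    haveI : IsAffineHom Red.GaZ.{u}.hom := by
      haveI : IsAffine Red.GaZ.{u}.left := by show IsAffine (Spec _); infer_instance
      exact isAffineHom_of_isAffine _
    haveI : IsAffineHom (Red.Ga S).hom := (show IsAffineHom (pullback.snd _ _) from MorphismProperty.pullback_snd _ _ inferInstance)
    haveI := isAffineHom_pow n
    haveI : IsAffineHom (pullback.fst (Red.Ga S).hom (RedSub.pow (Red.Ga S) n).hom) :=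
      MorphismProperty.pullback_fst _ _ ‹IsAffineHom (RedSub.pow (Red.Ga S) n).hom›
    exact inferInstanceAs (IsAffineHom (pullback.fst (Red.Ga S).hom (RedSub.pow (Red.Ga S) n).hom ≫ (Red.Ga S).hom))

theorem formallySmooth_grpAlg (L : Type) [AddCommGroup L] [Module.Finite ℤ L] [Module.Free ℤ L] :
    Algebra.FormallySmooth (ULift.{u} ℤ) (MonoidAlgebra (ULift.{u} ℤ) (Multiplicative L)) := by
  refine Algebra.FormallySmooth.of_comp_surjective fun B _ _ I hI φ => ?_
  let bas := Module.Free.chooseBasis ℤ L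
  have hu : ∀ l, ∃ x : Bˣ, Ideal.Quotient.mk I (x : B) = φ (MonoidAlgebra.of _ _ (Multiplicative.ofAdd (bas l))) := by
    intro l
    obtain ⟨b, hb⟩ := Ideal.Quotient.mk_surjective (φ (MonoidAlgebra.of _ _ (Multiplicative.ofAdd (bas l))))
    have h1 : IsUnit (Ideal.Quotient.mk I b) := hb ▸ ((Group.isUnit (Multiplicative.ofAdd (bas l))).map (MonoidAlgebra.of (ULift.{u} ℤ) (Multiplicative L))).map φ
    refine ⟨IsUnit.unit ?_, hb⟩
    obtain ⟨c, hc⟩ := Ideal.Quotient.mk_surjective (↑h1.unit⁻¹ : B ⧸ I)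
    have h2 : b * c - 1 ∈ I := by
      rw [← Ideal.Quotient.eq, map_mul, hc, map_one, h1.mul_val_inv]
    have h3 : IsNilpotent (b * c - 1) := ⟨2, by
      simpa [hI] using Ideal.pow_mem_pow h2 2⟩
    have h4 : IsUnit (b * c) := by simpa using h3.isUnit_one_add
    exact isUnit_of_mul_isUnit_left h4
  choose x hx using hu
  let ψ : L →+ Additive Bˣ := (bas.constr ℤ fun l => Additive.ofMul (x l)).toAddMonoidHom
  let f : Multiplicative L →* B :=
    { toFun := fun m => ((Additive.toMul (ψ m.toAdd) : Bˣ) : B)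
      map_one' := by simp
      map_mul' := fun a b => by simp }
  refine ⟨MonoidAlgebra.lift (ULift.{u} ℤ) B (Multiplicative L) f, MonoidAlgebra.algHom_ext (fun m => ?_) (Subsingleton.elim _ _)⟩
  let P : Multiplicative L →* B ⧸ I :=
    { toFun := fun m => φ (MonoidAlgebra.of _ _ m)
      map_one' := (congrArg φ (map_one _)).trans (map_one φ)
      map_mul' := fun a b => (congrArg φ (map_mul _ a b)).trans (map_mul φ _ _) }
  let H : AddSubgroup L :=
    { carrier := {m | Ideal.Quotient.mk I (f (Multiplicative.ofAdd m)) = P (Multiplicative.ofAdd m)}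
      zero_mem' := by simp only [Set.mem_setOf_eq, ofAdd_zero, map_one]
      add_mem' := fun {a b} ha hb => by
        simp only [Set.mem_setOf_eq] at ha hb ⊢
        rw [ofAdd_add, map_mul, map_mul, map_mul, ha, hb]
      neg_mem' := fun {a} ha => by
        simp only [Set.mem_setOf_eq] at ha ⊢
        have h1 : IsUnit (P (Multiplicative.ofAdd a)) := (Group.isUnit _).map P
        apply h1.mul_left_cancel
        conv_lhs => rw [← ha, ← map_mul (Ideal.Quotient.mk I), ← map_mul f, ← ofAdd_add, add_neg_cancel, ofAdd_zero,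
          map_one, map_one]
        rw [← map_mul P, ← ofAdd_add, add_neg_cancel, ofAdd_zero, map_one] }
  have hb : ∀ l, bas l ∈ H := fun l => by
    show Ideal.Quotient.mk I (f (Multiplicative.ofAdd (bas l))) = P (Multiplicative.ofAdd (bas l))
    simp only [f, ψ, LinearMap.toAddMonoidHom_coe, MonoidHom.coe_mk, OneHom.coe_mk, toAdd_ofAdd,
      Module.Basis.constr_basis, toMul_ofMul]
    exact hx l
  have key : ∀ m : L, m ∈ H := fun m => by
    have h1 : Submodule.span ℤ (Set.range bas) ≤ AddSubgroup.toIntSubmodule H :=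
      Submodule.span_le.2 (Set.range_subset_iff.2 hb)
    exact h1 (bas.mem_span m)
  show Ideal.Quotient.mk I (MonoidAlgebra.lift (ULift.{u} ℤ) B (Multiplicative L) f (MonoidAlgebra.single m 1)) = _
  rw [MonoidAlgebra.lift_single]
  refine Eq.trans (congrArg (Ideal.Quotient.mk I) (by rw [Algebra.smul_def, map_one, _root_.one_mul]; rfl)) (key m.toAdd)

theorem smooth_DS (M : Type) [AddCommGroup M] [Module.Finite ℤ M] [Module.Free ℤ M] : Smooth (Red.DS S M).hom := by
  haveI := formallySmooth_grpAlg.{u} M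
  haveI : Smooth (Red.diag (ULift.{u} ℤ) M).hom := by
    show Smooth (Spec.map (CommRingCat.ofHom (algebraMap (ULift.{u} ℤ) (MonoidAlgebra (ULift.{u} ℤ) (Multiplicative M)))))
    rw [HasRingHomProperty.Spec_iff (P := @Smooth)]
    show RingHom.Smooth (algebraMap (ULift.{u} ℤ) (MonoidAlgebra (ULift.{u} ℤ) (Multiplicative M)))
    rw [RingHom.smooth_algebraMap]
    haveI : IsNoetherianRing (ULift.{u} ℤ) := isNoetherianRing_of_ringEquiv ℤ ULift.ringEquiv.symm
    haveI : AddMonoid.FG M := AddGroup.fg_iff_addMonoid_fg.1 (Module.Finite.iff_addGroup_fg.1 ‹_›)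
    exact ⟨inferInstance, Algebra.FinitePresentation.of_finiteType.1 inferInstance⟩
  exact inferInstanceAs (Smooth (pullback.snd (Red.diag (ULift.{u} ℤ) M).hom _))

theorem connected_tensor {X Y : Over S} [GrpObj X] [GrpObj Y] [Smooth X.hom] [Smooth Y.hom] [QuasiCompact X.hom]
    [QuasiCompact Y.hom] {K : Type u} [Field K] [IsAlgClosed K] (q : Spec (CommRingCat.of K) ⟶ S)
    [ConnectedSpace ↥(Red.bc q X).left] [ConnectedSpace ↥(Red.bc q Y).left] :
    ConnectedSpace ↥(Red.bc q (X ⊗ Y)).left := by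
  haveI : Smooth (Red.bc q X).hom := inferInstanceAs (Smooth (pullback.snd X.hom q))
  haveI : Smooth (Red.bc q Y).hom := inferInstanceAs (Smooth (pullback.snd Y.hom q))
  haveI : QuasiCompact (Red.bc q X).hom := inferInstanceAs (QuasiCompact (pullback.snd X.hom q))
  haveI : QuasiCompact (Red.bc q Y).hom := inferInstanceAs (QuasiCompact (pullback.snd Y.hom q))
  haveI := Deform.Chev.connectedSpace_tensor (Red.bc q X) (Red.bc q Y)
  exact ((Scheme.homeoOfIso ((Over.forget _).mapIso
    (Functor.Monoidal.μIso (Over.pullback q) X Y))).connectedSpace_iff).1 ‹ConnectedSpace ↥(Red.bc q X ⊗ Red.bc q Y).left›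

theorem goodFibres_DS (M : Type) [AddCommGroup M] [Module.Finite ℤ M] [Module.Free ℤ M] {K : Type u} [Field K]
    [IsAlgClosed K] (q : Spec (CommRingCat.of K) ⟶ S) : ConnectedSpace ↥(Red.bc q (Red.DS S M)).left := by
  let bas := (Module.Free.chooseBasis ℤ M).reindex (Fintype.equivFin _)
  obtain ⟨-, -, -, hc⟩ := Deform.TorusBasic.props (k := K) (Deform.isTorus_of_split
    (T := Red.DS (Spec (CommRingCat.of K)) M) _ (Deform.SplitQuot.nonempty_DS_congr bas.equivFun.symm.toAddEquiv))
  haveI := hc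
  exact ((Scheme.homeoOfIso ((Over.forget _).mapIso (Deform.DiagMaps.bcDS q M))).connectedSpace_iff).2 hc

theorem goodFibres_pow {K : Type u} [Field K] [IsAlgClosed K] (q : Spec (CommRingCat.of K) ⟶ S) :
    ∀ n, ConnectedSpace ↥(Red.bc q (RedSub.pow (Red.Ga S) n)).left
  | 0 => by
    haveI : IsIso (pullback.snd (𝟙 S) q) := inferInstance
    haveI : ConnectedSpace ↥(Spec (CommRingCat.of K)) := inferInstanceAs (ConnectedSpace (PrimeSpectrum K))
    exact (Scheme.homeoOfIso (asIso (pullback.snd (𝟙 S) q))).connectedSpace_iff.2 inferInstance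
  | n + 1 => by
    haveI := goodFibres_pow q n
    haveI := GrpSchLib.RankOne.smooth_ga S
    haveI := smooth_pow (S := S) n
    haveI := isAffineHom_pow (S := S) n
    haveI := isAffineHom_pow (S := S) 1
    haveI : IsAffineHom (Red.Ga S).hom := by
      haveI : IsAffineHom Red.GaZ.{u}.hom := by
        haveI : IsAffine Red.GaZ.{u}.left := by show IsAffine (Spec _); infer_instance
        exact isAffineHom_of_isAffine _
      exact (show IsAffineHom (pullback.snd _ _) from MorphismProperty.pullback_snd _ _ inferInstance)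
    haveI := GrpSchLib.RankOne.irreducible_ga q
    haveI : ConnectedSpace ↥(Red.bc q (Red.Ga S)).left := inferInstance
    exact connected_tensor q

variable (D : Sys G) {n m : ℕ}

/-- The big cell. -/
abbrev cellOb (n m : ℕ) : Over S :=
  RedSub.pow (Red.Ga S) n ⊗ (Red.DS S D.M ⊗ RedSub.pow (Red.Ga S) m)

/-- The big cell map. -/
def Sys.cell (e : Fin n → D.idx) (e' : Fin m → D.idx) : cellOb D n m ⟶ G :=
  (fst _ _ ≫ RedSub.prodMap (Red.Ga S) n (fun l => D.u (e l))) *
    ((snd _ _ ≫ fst _ _ ≫ D.j) * (snd _ _ ≫ snd _ _ ≫ RedSub.prodMap (Red.Ga S) m (fun l => D.u (e' l))))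

theorem comp_cell (e : Fin n → D.idx) (e' : Fin m → D.idx) {X : Over S} (x : X ⟶ cellOb D n m) :
    x ≫ D.cell e e' = D.Prod e (coord (x ≫ fst _ _)) *
      (((x ≫ snd _ _ ≫ fst _ _) ≫ D.j) * D.Prod e' (coord (x ≫ snd _ _ ≫ snd _ _))) := by
  simp only [Sys.cell, MonObj.comp_mul, ← comp_prodMap, Category.assoc]

set_option maxHeartbeats 1000000 in
/-- The big cell map is a monomorphism. -/
theorem mono_cell (lam : D.M →+ ℤ) {e : Fin n → D.idx} {e' : Fin m → D.idx} (he : Function.Injective e)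
    (he' : Function.Injective e') (hneg : ∀ l, lam (D.r (e l)) < 0) (hpos : ∀ l, 0 < lam (D.r (e' l))) :
    Mono (D.cell e e') := by
  refine ⟨fun {Z} a b h => Over.OverMorphism.ext (Scheme.Cover.hom_ext Z.left.affineCover _ _ fun i => ?_)⟩
  obtain ⟨B, hB⟩ : ∃ B : CommRingCat.{u}, Z.left.affineCover.X i = Spec B := ⟨_, rfl⟩
  obtain ⟨iota, hiota⟩ : ∃ iota : Spec B ⟶ Z.left, Z.left.affineCover.f i = eqToHom hB ≫ iota :=
    ⟨eqToHom hB.symm ≫ Z.left.affineCover.f i, by simp⟩
  rw [hiota, Category.assoc, Category.assoc]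
  congr 1
  let s : Spec (CommRingCat.of B) ⟶ S := iota ≫ Z.hom
  let x : pX s ⟶ Z := Over.homMk iota rfl
  suffices h1 : x ≫ a = x ≫ b from congrArg CommaMorphism.left h1
  have h2 : (x ≫ a) ≫ D.cell e e' = (x ≫ b) ≫ D.cell e e' := by rw [Category.assoc, Category.assoc, h]
  replace h2 := (comp_cell D e e' (x ≫ a)).symm.trans (h2.trans (comp_cell D e e' (x ≫ b)))
  have hs : ∀ {p : ℕ} (c : Fin p → Γ((pX s).left, ⊤)), ∃ v : Fin p → B, c = fun l => sec s (v l) := fun c =>
    ⟨fun l => (Scheme.ΓSpecIso (CommRingCat.of B)).hom (c l), funext fun l =>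
      ((Scheme.ΓSpecIso (CommRingCat.of B)).hom_inv_id_apply (c l)).symm⟩
  obtain ⟨v, hv⟩ := hs (coord ((x ≫ a) ≫ fst _ _))
  obtain ⟨v₁, hv₁⟩ := hs (coord ((x ≫ b) ≫ fst _ _))
  obtain ⟨w, hw⟩ := hs (coord ((x ≫ a) ≫ snd _ _ ≫ snd _ _))
  obtain ⟨w₁, hw₁⟩ := hs (coord ((x ≫ b) ≫ snd _ _ ≫ snd _ _))
  rw [hv, hv₁, hw, hw₁] at h2
  obtain ⟨hva, ht, hwa⟩ := D.cell_injective lam s he he' hneg hpos h2
  refine CartesianMonoidalCategory.hom_ext _ _ (coord_injective (by rw [hv, hv₁, hva]))
    (CartesianMonoidalCategory.hom_ext _ _ (by simpa only [Category.assoc] using ht) (coord_injective ?_))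
  simp only [Category.assoc] at hw hw₁
  rw [Category.assoc, Category.assoc, Category.assoc, Category.assoc, hw, hw₁, hwa]

section Field

variable {K : Type u} [Field K] (q : Spec (CommRingCat.of K) ⟶ S)

/-- The additive group pulled back. -/
def gaTo : Red.Ga (Spec (CommRingCat.of K)) ⟶ Red.bc q (Red.Ga S) :=
  (Over.mapPullbackAdj q).homEquiv _ _
    (GrpSchLib.GaPts.ptOfFn (T := (Over.map q).obj (Red.Ga (Spec (CommRingCat.of K))))
      (Red.gaFn (X := Red.Ga (Spec (CommRingCat.of K))) (𝟙 (Red.Ga (Spec (CommRingCat.of K))))))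

/-- The coordinate of the pulled back additive group. -/
def gaFrom : Red.bc q (Red.Ga S) ⟶ Red.Ga (Spec (CommRingCat.of K)) :=
  GrpSchLib.GaPts.ptOfFn (T := Red.bc q (Red.Ga S))
    (Red.gaFn (X := (Over.map q).obj (Red.bc q (Red.Ga S))) (DSPtsLib.theta q (𝟙 (Red.bc q (Red.Ga S)))))

theorem gaFn_gaFrom {Y : Over (Spec (CommRingCat.of K))} (y : Y ⟶ Red.bc q (Red.Ga S)) :
    Red.gaFn (y ≫ gaFrom q) = Red.gaFn (X := (Over.map q).obj Y) (DSPtsLib.theta q y) := by
  rw [gaFrom, GrpSchLib.GaPts.gaFn_comp, GrpSchLib.GaPts.gaFn_ptOfFn]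
  refine Eq.trans (GrpSchLib.GaPts.gaFn_comp ((Over.map q).map y) _).symm ?_
  rw [← DSPtsLib.theta_comp, Category.comp_id]

theorem gaTo_gaFrom : gaTo q ≫ gaFrom q = 𝟙 _ := by
  apply GrpSchLib.GaPts.gaFn_injective
  show Red.gaFn (gaTo q ≫ gaFrom q) = Red.gaFn (𝟙 _)
  rw [gaFn_gaFrom, gaTo, DSPtsLib.theta, Equiv.symm_apply_apply]
  exact GrpSchLib.GaPts.gaFn_ptOfFn _

theorem one_gaTo : (1 : 𝟙_ _ ⟶ Red.Ga (Spec (CommRingCat.of K))) ≫ gaTo q = 1 := by
  apply (DSPtsLib.theta_bijective q).injective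
  apply GrpSchLib.GaPts.gaFn_injective
  show Red.gaFn _ = Red.gaFn _
  rw [← gaFn_gaFrom, ← gaFn_gaFrom, Category.assoc, gaTo_gaFrom, Category.comp_id]
  rw [GrpSchLib.GaPts.gaFn_one, gaFn_gaFrom, GrpSchLib.RankOne.theta_one]
  exact (GrpSchLib.GaPts.gaFn_one (T := (Over.map q).obj (𝟙_ (Over (Spec (CommRingCat.of K)))))).symm

theorem map_one' {X Y : Over S} [GrpObj Y] : (Over.pullback q).map (1 : X ⟶ Y) = 1 :=
  map_one ((Over.pullback q).homMonoidHom : (X ⟶ Y) →* _)

theorem evPt_one_comp {X Y : Over (Spec (CommRingCat.of K))} [GrpObj X] [GrpObj Y] (f : X ⟶ Y)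
    (hf : (1 : 𝟙_ _ ⟶ X) ≫ f = 1) {d : Fn X →ₗ[K] K} (h : IsPD (evPt (1 : 𝟙_ _ ⟶ X)) d) :
    IsPD (evPt (1 : 𝟙_ _ ⟶ Y)) (d ∘ₗ (ev f).toLinearMap) := by
  have h1 : (evPt (1 : 𝟙_ _ ⟶ X)).comp (ev f) = evPt (1 : 𝟙_ _ ⟶ Y) := AlgHom.ext fun z => by
    rw [AlgHom.comp_apply, evPt_comp, hf]
  rw [← h1]
  exact h.comp _

theorem coord_proj {X : Over S} : ∀ {n : ℕ} (x : X ⟶ RedSub.pow (Red.Ga S) n) (l : Fin n),
    Red.gaFn (x ≫ GrpSchLib.GaPts.ptOfFn (coord (𝟙 (RedSub.pow (Red.Ga S) n)) l)) = coord x l := fun x l => by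
  rw [GrpSchLib.GaPts.gaFn_comp, GrpSchLib.GaPts.gaFn_ptOfFn]
  have := congrFun (coord_comp x (𝟙 (RedSub.pow (Red.Ga S) _))) l
  rw [Category.comp_id] at this
  exact this.symm

set_option maxHeartbeats 2000000 in
/-- The dimension of the big cell over a field is at least the number of its coordinates. -/
theorem dim_cellOb_ge [IsAlgClosed K] [IsAffine (Red.bc q (cellOb D n m)).left]
    [Smooth (Red.bc q (cellOb D n m)).hom] :
    ((n + (Module.finrank ℤ D.M + m) : ℕ) : WithBot ℕ∞) ≤ topologicalKrullDim ↥(Red.bc q (cellOb D n m)).left := by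
  classical
  let Bk := Spec (CommRingCat.of K)
  obtain ⟨d, hd, hd1, -⟩ := SplitRootUnique.exists_deriv_Ga (k := K)
  let bas := Module.Free.chooseBasis ℤ D.M
  choose dt hdt hdtf using fun l => SplitRootUnique.exists_deriv_DS (k := K) (M := D.M)
    ((Int.castAddHom K).comp (bas.coord l).toAddMonoidHom)
  let g1 : Red.Ga S ⟶ Red.Ga S := 𝟙 _
  let inA : Fin n → (Red.Ga S ⟶ cellOb D n m) := fun l => lift (ofCoord (Pi.single l (Red.gaFn g1))) 1
  let inB : Fin m → (Red.Ga S ⟶ cellOb D n m) := fun l =>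
    lift 1 (lift 1 (ofCoord (Pi.single l (Red.gaFn g1))))
  let inT : Red.DS S D.M ⟶ cellOb D n m := lift 1 (lift (𝟙 _) 1)
  let prA : Fin n → (cellOb D n m ⟶ Red.Ga S) := fun l =>
    fst _ _ ≫ GrpSchLib.GaPts.ptOfFn (coord (𝟙 (RedSub.pow (Red.Ga S) n)) l)
  let prB : Fin m → (cellOb D n m ⟶ Red.Ga S) := fun l =>
    snd _ _ ≫ snd _ _ ≫ GrpSchLib.GaPts.ptOfFn (coord (𝟙 (RedSub.pow (Red.Ga S) m)) l)
  let prT : cellOb D n m ⟶ Red.DS S D.M := snd _ _ ≫ fst _ _
  have coord_one : ∀ {X : Over S} {p : ℕ} (l : Fin p),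
      (1 : X ⟶ RedSub.pow (Red.Ga S) p) ≫ GrpSchLib.GaPts.ptOfFn (coord (𝟙 _) l) = 1 := by
    intro X p
    induction p with
    | zero => exact fun l => l.elim0
    | succ p ih =>
      intro l
      apply GrpSchLib.GaPts.gaFn_injective
      show Red.gaFn _ = Red.gaFn _
      rw [coord_proj, GrpSchLib.GaPts.gaFn_one]
      refine Fin.cases ?_ (fun l' => ?_) l
      · show Red.gaFn ((1 : X ⟶ Red.Ga S ⊗ RedSub.pow (Red.Ga S) p) ≫ fst _ _) = 0
        rw [MonObj.one_comp, GrpSchLib.GaPts.gaFn_one]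
      · show coord ((1 : X ⟶ Red.Ga S ⊗ RedSub.pow (Red.Ga S) p) ≫ snd _ _) l' = 0
        rw [MonObj.one_comp, ← coord_proj, ih, GrpSchLib.GaPts.gaFn_one]
  have ofCoord_proj : ∀ {X : Over S} {p : ℕ} (v : Fin p → Γ(X.left, ⊤)) (l : Fin p),
      ofCoord v ≫ GrpSchLib.GaPts.ptOfFn (coord (𝟙 (RedSub.pow (Red.Ga S) p)) l) =
        GrpSchLib.GaPts.ptOfFn (S := S) (v l) := fun v l => GrpSchLib.GaPts.gaFn_injective (by
      show Red.gaFn _ = Red.gaFn _
      rw [coord_proj, coord_ofCoord, GrpSchLib.GaPts.gaFn_ptOfFn])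
  have hsingle : ∀ {p : ℕ} (l l' : Fin p), ofCoord (Pi.single l (Red.gaFn g1)) ≫
      GrpSchLib.GaPts.ptOfFn (coord (𝟙 (RedSub.pow (Red.Ga S) p)) l') = if l' = l then g1 else 1 := by
    intro p l l'
    rw [ofCoord_proj]
    apply GrpSchLib.GaPts.gaFn_injective
    show Red.gaFn _ = Red.gaFn _
    rw [GrpSchLib.GaPts.gaFn_ptOfFn]
    split_ifs with h
    · subst h; rw [Pi.single_eq_same]
    · rw [Pi.single_eq_of_ne h, GrpSchLib.GaPts.gaFn_one]
  let eT := Deform.DiagMaps.bcDS q D.M
  let F := Over.pullback q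
  let xA : Fin n → _ := fun l => d ∘ₗ (ev (gaTo q ≫ F.map (inA l))).toLinearMap
  let xB : Fin m → _ := fun l => d ∘ₗ (ev (gaTo q ≫ F.map (inB l))).toLinearMap
  let xT : Module.Free.ChooseBasisIndex ℤ D.M → _ := fun l => dt l ∘ₗ (ev (eT.inv ≫ F.map inT)).toLinearMap
  let fam : Fin n ⊕ (Module.Free.ChooseBasisIndex ℤ D.M ⊕ Fin m) → (Fn (Red.bc q (cellOb D n m)) →ₗ[K] K) :=
    Sum.elim xA (Sum.elim xT xB)
  have one_ga : ∀ (f : Red.Ga S ⟶ cellOb D n m), (1 : 𝟙_ (Over S) ⟶ Red.Ga S) ≫ f = 1 →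
      (1 : 𝟙_ _ ⟶ Red.Ga Bk) ≫ gaTo q ≫ F.map f = 1 := fun f hf => by
    rw [← Category.assoc, one_gaTo]
    have h1 : (1 : 𝟙_ (Over Bk) ⟶ Red.bc q (Red.Ga S)) =
        toUnit _ ≫ (Functor.Monoidal.εIso F).hom ≫ F.map (1 : 𝟙_ (Over S) ⟶ Red.Ga S) := by
      rw [map_one', MonObj.comp_one, MonObj.comp_one]
    rw [h1, Category.assoc, Category.assoc, ← F.map_comp, hf, map_one', MonObj.comp_one, MonObj.comp_one]
  have coordUnit : ∀ {p : ℕ} (l : Fin p),
      (1 : 𝟙_ (Over S) ⟶ Red.Ga S) ≫ ofCoord (Pi.single l (Red.gaFn g1)) = (1 : _ ⟶ RedSub.pow (Red.Ga S) p) := by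
    intro p l
    refine coord_injective (funext fun l' => ?_)
    refine (coord_proj _ l').symm.trans (Eq.trans ?_ (coord_proj _ l'))
    rw [coord_one, Category.assoc, hsingle]
    split_ifs
    · rw [Category.comp_id]
    · rw [MonObj.comp_one]
  have hpd : ∀ p, IsPD (evPt (1 : 𝟙_ _ ⟶ Red.bc q (cellOb D n m))) (fam p) := by
    rintro (l | l | l)
    · refine evPt_one_comp _ (one_ga _ ?_) hd
      show _ ≫ lift _ _ = 1
      rw [comp_lift, coordUnit, MonObj.comp_one]
      refine CartesianMonoidalCategory.hom_ext _ _ ?_ ?_ <;> simp [MonObj.one_comp]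
    · refine evPt_one_comp _ ?_ (hdt l)
      haveI : IsMonHom eT.hom := inferInstance
      have h1 : (1 : 𝟙_ _ ⟶ Red.DS Bk D.M) ≫ eT.inv = 1 := by
        rw [← cancel_mono eT.hom, Category.assoc, eT.inv_hom_id, Category.comp_id, MonObj.one_comp]
      have hin : (1 : 𝟙_ (Over S) ⟶ Red.DS S D.M) ≫ inT = 1 := by
        show _ ≫ lift _ _ = 1
        rw [comp_lift, comp_lift, Category.comp_id, MonObj.comp_one, MonObj.comp_one]
        refine CartesianMonoidalCategory.hom_ext _ _ ?_ (CartesianMonoidalCategory.hom_ext _ _ ?_ ?_) <;>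
          simp [MonObj.one_comp]
      have h2 : (1 : 𝟙_ (Over Bk) ⟶ Red.bc q (Red.DS S D.M)) =
          toUnit _ ≫ (Functor.Monoidal.εIso F).hom ≫ F.map (1 : 𝟙_ (Over S) ⟶ Red.DS S D.M) := by
        rw [map_one', MonObj.comp_one, MonObj.comp_one]
      rw [← Category.assoc, h1, h2, Category.assoc, Category.assoc, ← F.map_comp, hin, map_one', MonObj.comp_one,
        MonObj.comp_one]
    · refine evPt_one_comp _ (one_ga _ ?_) hd
      show _ ≫ lift _ _ = 1
      rw [comp_lift, comp_lift, coordUnit, MonObj.comp_one, MonObj.comp_one]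
      refine CartesianMonoidalCategory.hom_ext _ _ ?_ (CartesianMonoidalCategory.hom_ext _ _ ?_ ?_) <;>
        simp [MonObj.one_comp]
  let tA : Fin n → Fn (Red.bc q (cellOb D n m)) := fun l => Red.gaFn (F.map (prA l) ≫ gaFrom q)
  let tB : Fin m → Fn (Red.bc q (cellOb D n m)) := fun l => Red.gaFn (F.map (prB l) ≫ gaFrom q)
  let tT : Module.Free.ChooseBasisIndex ℤ D.M → Fn (Red.bc q (cellOb D n m)) := fun l =>
    Red.gmFn ((F.map prT ≫ eT.hom) ≫ Red.chi Bk (bas l))
  have hA : ∀ l l', inA l ≫ prA l' = if l' = l then g1 else 1 := fun l l' => by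
    simp only [inA, prA, lift_fst_assoc, hsingle]
  have hAB : ∀ l l', inA l ≫ prB l' = 1 := fun l l' => by
    simp only [inA, prB, lift_snd_assoc]
    rw [← Category.assoc, MonObj.one_comp, coord_one]
  have hBA : ∀ l l', inB l ≫ prA l' = 1 := fun l l' => by
    simp only [inB, prA, lift_fst_assoc, coord_one]
  have hB : ∀ l l', inB l ≫ prB l' = if l' = l then g1 else 1 := fun l l' => by
    simp only [inB, prB, lift_snd_assoc, hsingle]
  have hAT : ∀ l, inA l ≫ prT = 1 := fun l => by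
    simp only [inA, prT, lift_snd_assoc, MonObj.one_comp]
  have hBT : ∀ l, inB l ≫ prT = 1 := fun l => by
    simp only [inB, prT, lift_snd_assoc, lift_fst]
  have hTA : ∀ l, inT ≫ prA l = 1 := fun l => by
    simp only [inT, prA, lift_fst_assoc, coord_one]
  have hTB : ∀ l, inT ≫ prB l = 1 := fun l => by
    simp only [inT, prB, lift_snd_assoc, coord_one]
  have hTT : inT ≫ prT = 𝟙 _ := by simp only [inT, prT, lift_snd_assoc, lift_fst]
  have eGa : ∀ (f : Red.Ga S ⟶ cellOb D n m) (p : cellOb D n m ⟶ Red.Ga S),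
      ev (gaTo q ≫ F.map f) (Red.gaFn (F.map p ≫ gaFrom q)) = Red.gaFn (gaTo q ≫ F.map (f ≫ p) ≫ gaFrom q) :=
    fun f p => by
      rw [ev_apply, ← GrpSchLib.GaPts.gaFn_comp]
      simp only [Category.assoc, F.map_comp]
  have one_ga' : Red.gaFn (gaTo q ≫ F.map (1 : Red.Ga S ⟶ Red.Ga S) ≫ gaFrom q) = 0 := by
    rw [← Category.assoc, gaFn_gaFrom, map_one', MonObj.comp_one, GrpSchLib.RankOne.theta_one]
    exact GrpSchLib.GaPts.gaFn_one (T := (Over.map q).obj (Red.Ga Bk))
  have dGa : ∀ (f : Red.Ga S ⟶ cellOb D n m) (p : cellOb D n m ⟶ Red.Ga S) (c : Prop) [Decidable c],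
      f ≫ p = (if c then g1 else 1) → d (ev (gaTo q ≫ F.map f) (Red.gaFn (F.map p ≫ gaFrom q))) = if c then 1 else 0 := by
    intro f p c _ h
    rw [eGa, h]
    split_ifs with hc
    · show d (Red.gaFn (gaTo q ≫ F.map (𝟙 _) ≫ gaFrom q)) = 1
      rw [F.map_id, Category.id_comp, gaTo_gaFrom, hd1]
    · rw [one_ga', map_zero]
  have dGaT : ∀ (f : Red.Ga S ⟶ cellOb D n m) l, f ≫ prT = 1 → d (ev (gaTo q ≫ F.map f) (tT l)) = 0 := by
    intro f l hf
    simp only [tT]
    haveI : IsMonHom (Red.chi Bk (bas l)) := Deform.DiagMaps.isMonHom_DSmap _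
    rw [ev_apply, ← GmPts.gmFn_comp]
    simp only [Category.assoc]
    rw [← Category.assoc (F.map f), ← F.map_comp, hf, map_one', MonObj.one_comp, MonObj.comp_one,
      GmPts.gmFn_one]
    exact hd.map_one
  have eTga : ∀ l (p : cellOb D n m ⟶ Red.Ga S), inT ≫ p = 1 →
      dt l (ev (eT.inv ≫ F.map inT) (Red.gaFn (F.map p ≫ gaFrom q))) = 0 := by
    intro l p hp
    rw [ev_apply, ← GrpSchLib.GaPts.gaFn_comp]
    simp only [Category.assoc]
    rw [← Category.assoc (F.map inT), ← F.map_comp, hp, map_one', ← Category.assoc, MonObj.comp_one, gaFn_gaFrom]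
    rw [GrpSchLib.RankOne.theta_one]
    exact ((congrArg (dt l) (GrpSchLib.GaPts.gaFn_one (T := (Over.map q).obj (Red.DS Bk D.M)))).trans (map_zero _))
  have eTT : ∀ l l', dt l (ev (eT.inv ≫ F.map inT) (tT l')) = if l' = l then 1 else 0 := by
    intro l l'
    simp only [tT]
    rw [ev_apply, ← GmPts.gmFn_comp]
    simp only [Category.assoc]
    rw [← Category.assoc (F.map inT), ← F.map_comp, hTT, F.map_id, Category.id_comp, eT.inv_hom_id_assoc, hdtf]
    simp only [AddMonoidHom.comp_apply, LinearMap.toAddMonoidHom_coe, Int.coe_castAddHom, Module.Basis.coord_apply,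
      Module.Basis.repr_self, Finsupp.single_apply]
    split_ifs <;> simp_all
  have hli : LinearIndependent K fam := by
    rw [Fintype.linearIndependent_iff]
    intro c hc
    simp only [Fintype.sum_sum_type, fam, Sum.elim_inl, Sum.elim_inr] at hc
    rintro (l | l | l)
    · have h := LinearMap.congr_fun hc (tA l)
      simpa [xA, xB, xT, tA, dGa _ _ _ (hA _ _), fun a => dGa (inB a) (prA l) False (by simpa using hBA a l),
        fun a => eTga a (prA l) (hTA l)] using h
    · have h := LinearMap.congr_fun hc (tT l)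
      simpa [xA, xB, xT, fun a => dGaT (inA a) l (hAT a), fun a => dGaT (inB a) l (hBT a), eTT] using h
    · have h := LinearMap.congr_fun hc (tB l)
      simpa [xA, xB, xT, tB, dGa _ _ _ (hB _ _), fun a => dGa (inA a) (prB l) False (by simpa using hAB a l),
        fun a => eTga a (prB l) (hTB l)] using h
  have h := SplitRootUnique.card_le_dim (Red.bc q (cellOb D n m)) fam hpd hli
  rwa [Fintype.card_sum, Fintype.card_sum, Fintype.card_fin, Fintype.card_fin,
    ← Module.finrank_eq_card_chooseBasisIndex] at h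

end Field

/-- The big cell map is an open immersion. -/
theorem isOpenImmersion_cell (lam : D.M →+ ℤ) {e : Fin n → D.idx} {e' : Fin m → D.idx} (he : Function.Injective e)
    (he' : Function.Injective e') (hneg : ∀ l, lam (D.r (e l)) < 0) (hpos : ∀ l, 0 < lam (D.r (e' l)))
    (hcard : n + m = Fintype.card D.idx) : IsOpenImmersion (D.cell e e').left := by
  haveI := mono_cell D lam he he' hneg hpos
  haveI : IsAffineHom G.hom := D.reductive.1
  haveI : Smooth G.hom := D.reductive.2.1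
  haveI := smooth_pow (S := S) n
  haveI := smooth_pow (S := S) m
  haveI := smooth_DS (S := S) D.M
  haveI := isAffineHom_pow (S := S) n
  haveI := isAffineHom_pow (S := S) m
  haveI : IsAffineHom (Red.DS S D.M).hom := by
    haveI : IsAffine (Red.diag (ULift.{u} ℤ) D.M).left := inferInstanceAs (IsAffine (Spec _))
    haveI : IsAffineHom (Red.diag (ULift.{u} ℤ) D.M).hom := isAffineHom_of_isAffine _
    exact (show IsAffineHom (pullback.snd _ _) from MorphismProperty.pullback_snd _ _ inferInstance)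
  haveI : Smooth (Red.DS S D.M ⊗ RedSub.pow (Red.Ga S) m).hom :=
    inferInstanceAs (Smooth (pullback.fst (Red.DS S D.M).hom _ ≫ (Red.DS S D.M).hom))
  haveI : Smooth (cellOb D n m).hom :=
    inferInstanceAs (Smooth (pullback.fst (RedSub.pow (Red.Ga S) n).hom _ ≫ (RedSub.pow (Red.Ga S) n).hom))
  haveI : IsAffineHom (pullback.fst (Red.DS S D.M).hom (RedSub.pow (Red.Ga S) m).hom) :=
    MorphismProperty.pullback_fst _ _ ‹IsAffineHom (RedSub.pow (Red.Ga S) m).hom›
  haveI : IsAffineHom (Red.DS S D.M ⊗ RedSub.pow (Red.Ga S) m).hom :=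
    inferInstanceAs (IsAffineHom (pullback.fst (Red.DS S D.M).hom (RedSub.pow (Red.Ga S) m).hom ≫ (Red.DS S D.M).hom))
  haveI : IsAffineHom (pullback.fst (RedSub.pow (Red.Ga S) n).hom (Red.DS S D.M ⊗ RedSub.pow (Red.Ga S) m).hom) :=
    MorphismProperty.pullback_fst _ _ ‹IsAffineHom (Red.DS S D.M ⊗ RedSub.pow (Red.Ga S) m).hom›
  haveI : IsAffineHom (cellOb D n m).hom :=
    inferInstanceAs (IsAffineHom (pullback.fst (RedSub.pow (Red.Ga S) n).hom (Red.DS S D.M ⊗ RedSub.pow (Red.Ga S) m).hom ≫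
      (RedSub.pow (Red.Ga S) n).hom))
  haveI : Mono (D.cell e e').left := (Over.forget S).map_mono (D.cell e e')
  have hw : (D.cell e e').left ≫ G.hom = (cellOb D n m).hom := Over.w _
  haveI : LocallyOfFinitePresentation ((D.cell e e').left ≫ G.hom) := by rw [hw]; infer_instance
  haveI : Flat ((D.cell e e').left ≫ G.hom) := by rw [hw]; infer_instance
  haveI : LocallyOfFinitePresentation (D.cell e e').left :=
    AlgSpPts.locallyOfFinitePresentation_of_comp (D.cell e e').left G.hom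
  refine FlatMisc.isOpenImmersion_of_fibres G.hom (D.cell e e').left fun s => ?_
  let p := pullback.snd (D.cell e e').left (G.hom.fiberι s)
  suffices Flat p from IsOpenImmersion.of_flat_of_mono p
  let q := Red.geomPt s
  let K := AlgebraicClosure (S.residueField s)
  let cK := (Over.pullback q).map (D.cell e e')
  haveI : Mono cK.left := (Over.forget _).map_mono cK
  obtain ⟨hGa, hGs, hGc, -⟩ := D.reductive.2.2 s
  haveI := hGa; haveI := hGs; haveI := hGc
  haveI : Smooth (Red.bc q (cellOb D n m)).hom := inferInstanceAs (Smooth (pullback.snd _ q))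
  haveI : IsAffineHom (Red.bc q (cellOb D n m)).hom := inferInstanceAs (IsAffineHom (pullback.snd _ q))
  haveI : IsAffine (Red.bc q (cellOb D n m)).left := isAffine_of_isAffineHom (Red.bc q (cellOb D n m)).hom
  haveI := goodFibres_pow (S := S) q n
  haveI := goodFibres_pow (S := S) q m
  haveI := goodFibres_DS (S := S) D.M q
  haveI : ConnectedSpace ↥(Red.bc q (Red.DS S D.M ⊗ RedSub.pow (Red.Ga S) m)).left := connected_tensor q
  haveI : ConnectedSpace ↥(Red.bc q (cellOb D n m)).left := connected_tensor q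
  haveI : IsAffineHom (Red.bc q G).hom := inferInstanceAs (IsAffineHom (pullback.snd G.hom q))
  haveI : IsIntegral (Red.bc q (cellOb D n m)).left := GrpSchLib.Kunneth.isIntegral_grp _
  haveI : IsIntegral (Red.bc q G).left := GrpSchLib.Kunneth.isIntegral_grp _
  haveI : LocallyOfFiniteType (cK.left ≫ (Red.bc q G).hom) := by rw [Over.w cK]; infer_instance
  haveI : LocallyOfFiniteType cK.left := locallyOfFiniteType_of_comp cK.left (Red.bc q G).hom
  haveI : LocallyQuasiFinite cK.left := LocallyQuasiFinite.of_injective cK.left.injective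
  have hdim : topologicalKrullDim ↥(Red.bc q (cellOb D n m)).left = topologicalKrullDim ↥(Red.bc q G).left := by
    haveI : IsLocallyNoetherian (Red.bc q (cellOb D n m)).left :=
      LocallyOfFiniteType.isLocallyNoetherian (Red.bc q (cellOb D n m)).hom
    haveI : IsLocallyNoetherian (Red.bc q G).left := LocallyOfFiniteType.isLocallyNoetherian (Red.bc q G).hom
    haveI : IsAffineHom cK.left := inferInstance
    haveI : QuasiCompact cK.left := inferInstance
    refine le_antisymm ((S4715.result cK.left).1.trans (S4715.result cK.left).2) ?_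
    refine (le_of_eq (D.dim s)).trans (le_trans ?_ (dim_cellOb_ge D q))
    exact_mod_cast (show Module.finrank ℤ D.M + Fintype.card D.idx ≤ n + (Module.finrank ℤ D.M + m) by omega)
  haveI : Flat cK.left := W4GenDeg.flat_of_quasiFinite_regular (Red.bc q (cellOb D n m)).hom (Red.bc q G).hom cK.left
    (Over.w cK) hdim
    (fun x => GrpSchLib.isRegularLocalRing_stalk_of_smooth (Red.bc q (cellOb D n m)).hom x)
    (fun x => GrpSchLib.isRegularLocalRing_stalk_of_smooth (Red.bc q G).hom x)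
  let α : Spec (CommRingCat.of K) ⟶ Spec (S.residueField s) :=
    Spec.map (CommRingCat.ofHom (algebraMap (S.residueField s) K))
  let l : (Red.bc q G).left ⟶ G.hom.fiber s :=
    pullback.lift (pullback.fst G.hom q) (pullback.snd G.hom q ≫ α) (by
      rw [Category.assoc]; exact pullback.condition)
  have hl : l ≫ G.hom.fiberι s = pullback.fst G.hom q := pullback.lift_fst _ _ _
  have hsq : IsPullback l (pullback.snd G.hom q) (G.hom.fiberToSpecResidueField s) α :=
    IsPullback.of_right (by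
      convert IsPullback.of_hasPullback G.hom q using 1 <;> first | exact hl | rfl) (pullback.lift_snd _ _ _)
      (IsPullback.of_hasPullback G.hom (S.fromSpecResidueField s))
  haveI : Surjective α := ⟨fun x => ⟨(IsLocalRing.closedPoint K : PrimeSpectrum K),
    Subsingleton.elim (α := PrimeSpectrum (S.residueField s)) _ _⟩⟩
  haveI : Flat α := inferInstance
  haveI : QuasiCompact α := inferInstance
  haveI : Surjective l := MorphismProperty.of_isPullback hsq.flip ‹Surjective α›
  haveI : Flat l := MorphismProperty.of_isPullback hsq.flip ‹Flat α›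
  haveI : QuasiCompact l := MorphismProperty.of_isPullback hsq.flip ‹QuasiCompact α›
  let l' : (Red.bc q (cellOb D n m)).left ⟶ pullback (D.cell e e').left (G.hom.fiberι s) :=
    pullback.lift (pullback.fst (cellOb D n m).hom q) (cK.left ≫ l) (by
      rw [Category.assoc, hl, (Deform.Extension.isPullback_map_left q (D.cell e e')).w])
  have hsq2 : IsPullback cK.left l' l p :=
    IsPullback.of_bot (by
      rw [hl, pullback.lift_fst]
      exact Deform.Extension.isPullback_map_left q (D.cell e e')) (pullback.lift_snd _ _ _).symm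
      (IsPullback.of_hasPullback (D.cell e e').left (G.hom.fiberι s)).flip
  exact MorphismProperty.of_isPullback_of_descendsAlong (P := @Flat)
    (Q := @Surjective ⊓ @Flat ⊓ @QuasiCompact) hsq2 ⟨⟨inferInstance, inferInstance⟩, inferInstance⟩ ‹Flat cK.left›

end

end Groth.Agent.SplitGrp
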