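import Groth.Agent.SplitGrp.Fibre
import Groth.Agent.Deform.Borel.CentTorus
import Groth.Agent.Deform.Transporter

/-!
# The big cell generates; centralisers of the torus
-/

universe u

open CategoryTheory CategoryTheory.Limits MonoidalCategory CartesianMonoidalCategory MonObj GrpObj AlgebraicGeometry
open scoped Polynomial LaurentPolynomial

attribute [local instance] CategoryTheory.Hom.monoid CategoryTheory.Hom.group
set_option linter.style.haveILetI false
set_option linter.unusedSectionVars false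

namespace Groth.Agent.SplitGrp

open Deform.Chev (Pt pimg)

noncomputable section

variable {S : Scheme.{u}}

/-- Morphisms agree if they agree on points with values in rings. -/
theorem hom_ext_rings {Z W : Over S} {a b : Z ⟶ W}
    (h : ∀ (B : Type u) [CommRing B] (s : Spec (CommRingCat.of B) ⟶ S) (x : pX s ⟶ Z), x ≫ a = x ≫ b) : a = b := by
  refine Over.OverMorphism.ext (Scheme.Cover.hom_ext Z.left.affineCover _ _ fun i => ?_)
  obtain ⟨B, hB⟩ : ∃ B : CommRingCat.{u}, Z.left.affineCover.X i = Spec B := ⟨_, rfl⟩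
  obtain ⟨iota, hiota⟩ : ∃ iota : Spec B ⟶ Z.left, Z.left.affineCover.f i = eqToHom hB ≫ iota :=
    ⟨eqToHom hB.symm ≫ Z.left.affineCover.f i, by simp⟩
  rw [hiota, Category.assoc, Category.assoc]
  congr 1
  exact congrArg CommaMorphism.left (h B (iota ≫ Z.hom) (Over.homMk iota rfl))

/-- Points landing in the image of an open immersion lift. -/
theorem exists_lift {X Y Z : Over S} (c : Y ⟶ Z) [IsOpenImmersion c.left] (g : X ⟶ Z)
    (h : Set.range g.left ⊆ Set.range c.left) : ∃ x : X ⟶ Y, x ≫ c = g :=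
  ⟨Over.homMk (IsOpenImmersion.lift c.left g.left h) (by rw [← Over.w c, IsOpenImmersion.lift_fac_assoc, Over.w g]),
    Over.OverMorphism.ext (IsOpenImmersion.lift_fac c.left g.left h)⟩

theorem range_subset_of_comp {X Y Z : Over S} {c : Y ⟶ Z} {g : X ⟶ Z} (x : X ⟶ Y) (h : x ≫ c = g) :
    Set.range g.left ⊆ Set.range c.left := by
  rintro _ ⟨p, rfl⟩
  exact ⟨x.left p, by rw [← Scheme.Hom.comp_apply, ← Over.comp_left, h]⟩

variable {G : Over S} [GrpObj G] (D : Sys G) {n m : ℕ} (e : Fin n → D.idx) (e' : Fin m → D.idx)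

/-- A point of the big cell with given coordinates. -/
def cellPt {X : Over S} (v : Fin n → Γ(X.left, ⊤)) (t : X ⟶ Red.DS S D.M) (w : Fin m → Γ(X.left, ⊤)) :
    X ⟶ cellOb D n m :=
  lift (ofCoord v) (lift t (ofCoord w))

theorem cellPt_cell {X : Over S} (v : Fin n → Γ(X.left, ⊤)) (t : X ⟶ Red.DS S D.M) (w : Fin m → Γ(X.left, ⊤)) :
    cellPt D v t w ≫ D.cell e e' = D.Prod e v * ((t ≫ D.j) * D.Prod e' w) := by
  rw [comp_cell, cellPt, lift_fst, lift_snd_assoc, lift_snd_assoc, lift_fst, lift_snd, coord_ofCoord, coord_ofCoord]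

theorem torus_factor {X : Over S} (t : X ⟶ Red.DS S D.M) :
    cellPt D (n := n) (m := m) 0 t 0 ≫ D.cell e e' = t ≫ D.j := by
  rw [cellPt_cell]
  show D.Prod e (fun _ => (0 : Γ(X.left, ⊤))) * ((t ≫ D.j) * D.Prod e' (fun _ => (0 : Γ(X.left, ⊤)))) = _
  rw [Prod_zero, Prod_zero, _root_.one_mul, _root_.mul_one]

theorem range_j_subset : Set.range D.j.left ⊆ Set.range (D.cell e e').left :=
  range_subset_of_comp _ ((torus_factor D e e' (𝟙 _)).trans (Category.id_comp _))

theorem comm_DS {X : Over S} (a b : X ⟶ Red.DS S D.M) : a * b = b * a := by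
  haveI : IsCommMonObj (Red.DS S D.M) := GrpSchLib.RankOne.isCommMonObj_bc
    (Limits.IsTerminal.from specULiftZIsTerminal S) (Red.diag (ULift.{u} ℤ) D.M)
  exact _root_.mul_comm _ _

/-- The big cell is stable under conjugation by the torus. -/
theorem conj_cellPt {X : Over S} (t : X ⟶ Red.DS S D.M) (v : Fin n → Γ(X.left, ⊤)) (t' : X ⟶ Red.DS S D.M)
    (w : Fin m → Γ(X.left, ⊤)) :
    (t ≫ D.j) * (cellPt D v t' w ≫ D.cell e e') * (t ≫ D.j)⁻¹ =
      cellPt D (fun l => Red.gmFn (t ≫ Red.chi S (D.r (e l))) * v l) t'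
        (fun l => Red.gmFn (t ≫ Red.chi S (D.r (e' l))) * w l) ≫ D.cell e e' := by
  rw [cellPt_cell, cellPt_cell, ← conj_Prod, ← conj_Prod]
  have hc : (t ≫ D.j) * (t' ≫ D.j) * (t ≫ D.j)⁻¹ = t' ≫ D.j := by
    rw [← MonObj.mul_comp, comm_DS D t t', MonObj.mul_comp, mul_inv_cancel_right]
  calc _ = ((t ≫ D.j) * D.Prod e v * (t ≫ D.j)⁻¹) *
        (((t ≫ D.j) * (t' ≫ D.j) * (t ≫ D.j)⁻¹) * ((t ≫ D.j) * D.Prod e' w * (t ≫ D.j)⁻¹)) := by group
    _ = _ := by rw [hc]

theorem exists_cellPt {X : Over S} (x : X ⟶ cellOb D n m) : ∃ v t w, x = cellPt D v t w := by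
  refine ⟨coord (x ≫ fst _ _), x ≫ snd _ _ ≫ fst _ _, coord (x ≫ snd _ _ ≫ snd _ _), ?_⟩
  refine CartesianMonoidalCategory.hom_ext _ _ (coord_injective ?_)
    (CartesianMonoidalCategory.hom_ext _ _ ?_ (coord_injective ?_))
  · rw [cellPt, lift_fst, coord_ofCoord]
  · rw [Category.assoc, Category.assoc, cellPt, lift_snd_assoc, lift_fst]
  · rw [Category.assoc, Category.assoc, cellPt, lift_snd_assoc, lift_snd, coord_ofCoord]

theorem exists_conj_cell {X : Over S} (t : X ⟶ Red.DS S D.M) (x : X ⟶ cellOb D n m) :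
    ∃ x', x' ≫ D.cell e e' = (t ≫ D.j) * (x ≫ D.cell e e') * (t ≫ D.j)⁻¹ := by
  obtain ⟨v, t', w, rfl⟩ := exists_cellPt D x
  exact ⟨_, (conj_cellPt D e e' t v t' w).symm⟩

variable {D e e'} {lam : D.M →+ ℤ}

/-- The data of a full big cell. -/
structure IsFull (lam : D.M →+ ℤ) (e : Fin n → D.idx) (e' : Fin m → D.idx) : Prop where
  inj : Function.Injective e
  inj' : Function.Injective e'
  neg : ∀ l, lam (D.r (e l)) < 0
  pos : ∀ l, 0 < lam (D.r (e' l))
  card : n + m = Fintype.card D.idx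

theorem IsFull.isOpenImmersion (h : IsFull lam e e') : IsOpenImmersion (D.cell e e').left :=
  isOpenImmersion_cell D lam h.inj h.inj' h.neg h.pos h.card

theorem IsFull.mono (h : IsFull lam e e') : Mono (D.cell e e') :=
  mono_cell D lam h.inj h.inj' h.neg h.pos

theorem IsFull.symm (h : IsFull lam e e') : IsFull (-lam) e' e :=
  ⟨h.inj', h.inj, fun l => by simpa using h.pos l, fun l => by simpa using h.neg l, by rw [← h.card, add_comm]⟩

theorem exists_sec {B : Type u} [CommRing B] (s : Spec (CommRingCat.of B) ⟶ S) {p : ℕ}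
    (c : Fin p → Γ((pX s).left, ⊤)) : ∃ v : Fin p → B, c = fun l => sec s (v l) :=
  ⟨fun l => (Scheme.ΓSpecIso (CommRingCat.of B)).hom (c l), funext fun l =>
    ((Scheme.ΓSpecIso (CommRingCat.of B)).hom_inv_id_apply (c l)).symm⟩

/-- A point contracted to the unit is a product of positive root points. -/
theorem exists_Prod_of_lim (h : IsFull lam e e') {R : Type u} [CommRing R] {s : Spec (CommRingCat.of R) ⟶ S}
    {g : pX s ⟶ G} (hg : Lim s D lam g 1) : ∃ w : Fin m → R, g = D.Prod e' (fun l => sec s (w l)) := by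
  haveI := h.isOpenImmersion
  set c := D.cell e e' with hc
  have hV : IsOpen (Set.range c.left) := c.left.isOpenEmbedding.isOpen_range
  obtain ⟨k, hk, hk0⟩ := hg
  have hsub : Set.range g.left ⊆ Set.range c.left := by
    rintro _ ⟨P, rfl⟩
    change PrimeSpectrum R at P
    let A := (R ⧸ P.asIdeal)[X]
    let L := FractionRing A
    let σ : R[X] →+* L := (algebraMap A L).comp (Polynomial.mapRingHom (Ideal.Quotient.mk P.asIdeal))
    let ι' : R →+* L := σ.comp Polynomial.C
    have hX : IsUnit (algebraMap A L Polynomial.X) :=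
      IsUnit.mk0 _ fun h0 => Polynomial.X_ne_zero (IsFractionRing.injective A L (by rw [h0, map_zero]))
    let τ : R[T;T⁻¹] →+* L := LaurentPolynomial.eval₂ ι' hX.unit
    have hτ : τ.comp Polynomial.toLaurent = σ := by
      refine Polynomial.ringHom_ext (fun r => ?_) ?_
      · simp [τ, ι']
      · simp only [τ, σ, RingHom.comp_apply, Polynomial.toLaurent_X, LaurentPolynomial.eval₂_T, zpow_one, IsUnit.unit_spec]
        exact congrArg (algebraMap A L) (Polynomial.map_X _).symm
    let sL : Spec (CommRingCat.of L) ⟶ S := Spec.map (CommRingCat.ofHom ι') ≫ s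
    let mσ : pX sL ⟶ pX (polyS s) := mor σ (spec_comp_eq s _ _ _ rfl)
    let mι : pX sL ⟶ pX s := mor ι' rfl
    let mτ : pX sL ⟶ pX (laurS s) := mor τ (spec_comp_eq s _ _ _ (RingHom.ext fun r => LaurentPolynomial.eval₂_C _ _ _))
    have h1 : mτ ≫ toL s = mσ := by
      refine Over.OverMorphism.ext ?_
      show Spec.map _ ≫ Spec.map _ = Spec.map _
      rw [← Spec.map_comp, ← CommRingCat.ofHom_comp, hτ]
    have h2 : mτ ≫ baseL s = mι := by
      refine Over.OverMorphism.ext ?_
      show Spec.map _ ≫ Spec.map _ = Spec.map _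
      rw [← Spec.map_comp, ← CommRingCat.ofHom_comp]
      congr 2
      exact RingHom.ext fun r => LaurentPolynomial.eval₂_C _ _ _
    have hin : Set.range (mσ ≫ k).left ⊆ Set.range c.left := by
      rintro _ ⟨η', rfl⟩
      change PrimeSpectrum L at η'
      rw [Over.comp_left, Scheme.Hom.comp_apply]
      refine (Specializes.map ((PrimeSpectrum.le_iff_specializes (PrimeSpectrum.comap σ η')
        (PrimeSpectrum.comap (Polynomial.evalRingHom (0 : R)) P)).1 fun p hp => ?_) k.left.continuous).mem_open hV ?_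
      · have h3 : σ p = 0 := by
          have h4 : η'.asIdeal = ⊥ := by
            rcases Ideal.eq_bot_or_top η'.asIdeal with h5 | h5
            · exact h5
            · exact absurd h5 η'.isPrime.ne_top
          simpa [h4] using hp
        have h6 : Polynomial.map (Ideal.Quotient.mk P.asIdeal) p = 0 :=
          IsFractionRing.injective A L (by rw [map_zero]; exact h3)
        show Polynomial.eval 0 p ∈ P.asIdeal
        rw [← Polynomial.coeff_zero_eq_eval_zero, ← Ideal.Quotient.eq_zero_iff_mem, ← Polynomial.coeff_map, h6,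
          Polynomial.coeff_zero]
      · have h7 : evP s 0 ≫ k = cellPt D (n := n) (m := m) 0 1 0 ≫ c := by
          rw [hk0, hc, torus_factor, MonObj.one_comp]
        exact range_subset_of_comp _ h7.symm ⟨P, rfl⟩
    obtain ⟨x, hx⟩ := exists_lift c (mσ ≫ k) hin
    have hconj : (((mτ ≫ zt s D lam) ≫ D.j)) * (mι ≫ g) * ((mτ ≫ zt s D lam) ≫ D.j)⁻¹ = x ≫ c := by
      rw [hx, ← h1, Category.assoc mτ (toL s) k, hk, orbit, MonObj.comp_mul, MonObj.comp_mul, GrpObj.comp_inv, ← h2]
      simp only [Category.assoc]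
    obtain ⟨x', hx'⟩ := exists_conj_cell D e e' (mτ ≫ zt s D lam)⁻¹ x
    have h8 : x' ≫ c = mι ≫ g := by
      rw [hc, hx', ← hc, GrpObj.inv_comp, ← hconj]
      group
    refine range_subset_of_comp _ h8 ⟨(IsLocalRing.closedPoint L : PrimeSpectrum L), ?_⟩
    rw [Over.comp_left, Scheme.Hom.comp_apply]
    congr 1
    refine PrimeSpectrum.ext ?_
    show Ideal.comap ι' (IsLocalRing.maximalIdeal L) = P.asIdeal
    rw [show IsLocalRing.maximalIdeal L = ⊥ from IsLocalRing.isField_iff_maximalIdeal_eq.1 (Field.toIsField L)]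
    ext r
    rw [Ideal.mem_comap]
    show algebraMap A L (Polynomial.map (Ideal.Quotient.mk P.asIdeal) (Polynomial.C r)) ∈ (⊥ : Ideal L) ↔ _
    rw [Polynomial.map_C, Ideal.mem_bot, map_eq_zero_iff _ (IsFractionRing.injective A L), Polynomial.C_eq_zero,
      Ideal.Quotient.eq_zero_iff_mem]
  obtain ⟨x, hx⟩ := exists_lift c g hsub
  obtain ⟨v, t, w, rfl⟩ := exists_cellPt D x
  obtain ⟨v, rfl⟩ := exists_sec s v
  obtain ⟨w, rfl⟩ := exists_sec s w
  rw [hc, cellPt_cell] at hx
  refine ⟨w, ?_⟩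
  have hv : D.Prod e (fun l => sec s (v l)) =
      g * (D.Prod e' (fun l => sec s (w l)))⁻¹ * (t ≫ D.j)⁻¹ := by rw [← hx]; group
  have l1 : Lim s D lam (D.Prod e (fun l => sec s (v l))) (t ≫ D.j)⁻¹ := by
    have hg1 : Lim s D lam g 1 := ⟨k, hk, hk0⟩
    have := Lim.mul (Lim.mul hg1 (Lim.inv (lim_Prod e' h.pos w))) (Lim.inv (lim_torus (lam := lam) t))
    rw [← hv] at this
    simpa using this
  have l2 := lim_Prod (s := s) (lam := -lam) e (fun l => by simpa using h.neg l) v
  obtain ⟨h3, h4⟩ := lim_separation l1 l2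
  rw [h4] at h3 hx
  rw [eq_comm, inv_eq_one] at h3
  rw [← hx, h3, _root_.one_mul, _root_.one_mul]

theorem exists_cellPt_of_mem (h : IsFull lam e e') (p : G.left) (hp : p ∈ Set.range (D.cell e e').left) :
    ∃ x : pX (G.left.fromSpecResidueField p ≫ G.hom) ⟶ cellOb D n m,
      x ≫ D.cell e e' = Over.homMk (G.left.fromSpecResidueField p) rfl := by
  haveI := h.isOpenImmersion
  refine exists_lift _ _ ?_
  show Set.range (G.left.fromSpecResidueField p) ⊆ _
  rw [Scheme.range_fromSpecResidueField, Set.singleton_subset_iff]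
  exact hp

/-- The image of the big cell does not depend on the orderings. -/
theorem range_cell_subset {n₁ m₁ : ℕ} {e₁ : Fin n₁ → D.idx} {e₁' : Fin m₁ → D.idx} (h : IsFull lam e e')
    (h₁ : IsFull lam e₁ e₁') : Set.range (D.cell e e').left ⊆ Set.range (D.cell e₁ e₁').left := by
  intro p hp
  obtain ⟨x, hx⟩ := exists_cellPt_of_mem h p hp
  obtain ⟨v, t, w, rfl⟩ := exists_cellPt D x
  obtain ⟨v, rfl⟩ := exists_sec _ v
  obtain ⟨w, rfl⟩ := exists_sec _ w
  obtain ⟨v', hv'⟩ := exists_Prod_of_lim h₁.symm (lim_Prod (lam := -lam) e (fun l => by simpa using h.neg l) v)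
  obtain ⟨w', hw'⟩ := exists_Prod_of_lim h₁ (lim_Prod (lam := lam) e' h.pos w)
  rw [cellPt_cell, hv', hw', ← cellPt_cell (e := e₁) (e' := e₁')] at hx
  exact range_subset_of_comp _ hx ⟨(IsLocalRing.closedPoint _ : PrimeSpectrum (G.left.residueField p)),
    Scheme.fromSpecResidueField_apply p _⟩

/-! ### Generation -/

variable (D e e') in
/-- The product of two big cells. -/
def cellSq : cellOb D n m ⊗ cellOb D n m ⟶ G :=
  (fst _ _ ≫ D.cell e e') * (snd _ _ ≫ D.cell e e')

theorem flat_cellSq (h : IsFull lam e e') :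
    Flat (cellSq D e e').left ∧ LocallyOfFinitePresentation (cellSq D e e').left := by
  haveI := h.isOpenImmersion
  haveI : Smooth G.hom := D.reductive.2.1
  let φ : G ⊗ G ≅ G ⊗ G :=
    { hom := lift (fst _ _ * snd _ _) (snd _ _)
      inv := lift (fst _ _ * (snd _ _)⁻¹) (snd _ _)
      hom_inv_id := by
        refine CartesianMonoidalCategory.hom_ext _ _ ?_ ?_ <;>
          simp [MonObj.comp_mul, GrpObj.comp_inv]
      inv_hom_id := by
        refine CartesianMonoidalCategory.hom_ext _ _ ?_ ?_ <;>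
          simp [MonObj.comp_mul, GrpObj.comp_inv] }
  have he : cellSq D e e' = (D.cell e e' ⊗ₘ D.cell e e') ≫ φ.hom ≫ fst G G := by
    simp [φ, cellSq, MonObj.comp_mul]
  haveI : IsIso φ.hom.left := ((Over.forget S).mapIso φ).isIso_hom
  haveI : IsOpenImmersion (D.cell e e' ⊗ₘ D.cell e e').left := by
    rw [Over.tensorHom_left]
    infer_instance
  haveI : Flat (fst G G).left := inferInstanceAs (Flat (pullback.fst G.hom G.hom))
  haveI : LocallyOfFinitePresentation (fst G G).left :=
    inferInstanceAs (LocallyOfFinitePresentation (pullback.fst G.hom G.hom))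
  rw [he, Over.comp_left, Over.comp_left]
  exact ⟨inferInstance, inferInstance⟩

/-- Every point is a product of two points of the big cell. -/
theorem surjective_cellSq (h : IsFull lam e e') : Surjective (cellSq D e e').left := by
  obtain ⟨hfl, hfp⟩ := flat_cellSq h
  haveI := hfl; haveI := hfp
  haveI := h.isOpenImmersion
  have hW : IsOpen (Set.range (cellSq D e e').left) := (cellSq D e e').left.isOpenMap.isOpen_range
  refine ⟨fun p => ?_⟩
  let s := G.hom p
  let q := Red.geomPt s
  let K := AlgebraicClosure (S.residueField s)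
  obtain ⟨hGa, hGs, hGc, -⟩ := D.reductive.2.2 s
  haveI := hGa; haveI := hGs; haveI := hGc
  let GK := Red.bc q G
  haveI : IsAffineHom GK.hom := isAffineHom_of_isAffine _
  haveI : IsIntegral GK.left := GrpSchLib.Kunneth.isIntegral_grp _
  haveI : JacobsonSpace ↥GK.left := LocallyOfFiniteType.jacobsonSpace GK.hom
  haveI : IsSeparated GK.hom := inferInstance
  let π : GK.left ⟶ G.left := pullback.fst G.hom q
  have hq : ∀ z, q z = s := fun z => by
    show S.fromSpecResidueField s _ = s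
    exact Scheme.fromSpecResidueField_apply s _
  obtain ⟨p', hp', -⟩ := Scheme.Pullback.exists_preimage_pullback (f := G.hom) (g := q) p
    (IsLocalRing.closedPoint K : PrimeSpectrum K) (hq _).symm
  suffices hall : π ⁻¹' Set.range (cellSq D e e').left = Set.univ by
    have := hall.ge (Set.mem_univ p')
    rwa [Set.mem_preimage, hp'] at this
  have hO : IsOpen (π ⁻¹' Set.range (cellSq D e e').left) := hW.preimage π.continuous
  refine Set.eq_univ_of_forall fun g₀ => by_contra fun hg₀ => ?_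
  obtain ⟨g₁, hg₁, hg₁c⟩ := nonempty_inter_closedPoints (Z := (π ⁻¹' Set.range (cellSq D e e').left)ᶜ) ⟨g₀, hg₀⟩
    hO.isClosed_compl.isLocallyClosed
  apply hg₁
  let gK : Pt GK := Over.homMk (pointOfClosedPoint GK.hom g₁ hg₁c) (pointOfClosedPoint_comp GK.hom g₁ hg₁c)
  let V : Set GK.left := π ⁻¹' Set.range (D.cell e e').left
  have hVo : IsOpen V := (D.cell e e').left.isOpenEmbedding.isOpen_range.preimage π.continuous
  let ψ : GK ⟶ GK := (𝟙 GK)⁻¹ * (toUnit GK ≫ gK)
  let ψ' : GK ⟶ GK := (toUnit GK ≫ gK) * (𝟙 GK)⁻¹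
  have hψ : ψ' ≫ ψ = 𝟙 GK := by
    simp only [ψ, MonObj.comp_mul, GrpObj.comp_inv, Category.comp_id, ← Category.assoc,
      toUnit_unique (ψ' ≫ toUnit GK) (toUnit GK), ψ']
    group
  have mem_of_pt : ∀ y : Pt GK, pimg y ∈ V → ∃ x, x ≫ D.cell e e' = DSPtsLib.theta q y := fun y hy =>
    exists_lift _ _ (by
      rintro _ ⟨z, rfl⟩
      rw [DSPtsLib.theta_left, Scheme.Hom.comp_apply, Subsingleton.elim (α := PrimeSpectrum K) z _]
      exact hy)
  have hone : ∀ y : Pt GK, y = 1 → pimg y ∈ V := fun y hy => by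
    subst hy
    have := range_subset_of_comp _ ((torus_factor D e e' (1 : (Over.map q).obj (𝟙_ _) ⟶ _)).trans
      (MonObj.one_comp D.j)) ⟨(IsLocalRing.closedPoint K : PrimeSpectrum K), rfl⟩
    show π (pimg (1 : Pt GK)) ∈ Set.range (D.cell e e').left
    rw [← GrpSchLib.RankOne.theta_one q (H := G), DSPtsLib.theta_left, Scheme.Hom.comp_apply] at this
    exact this
  let y₀ : GK.left := ψ'.left (pimg (1 : Pt GK))
  have hy₀ : y₀ ∈ ψ.left ⁻¹' V := by
    show ψ.left (ψ'.left _) ∈ V
    rw [← Scheme.Hom.comp_apply, ← Over.comp_left, hψ]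
    exact hone 1 rfl
  have hne : (V ∩ ψ.left ⁻¹' V).Nonempty :=
    nonempty_preirreducible_inter hVo (hVo.preimage ψ.left.continuous) ⟨_, hone 1 rfl⟩ ⟨_, hy₀⟩
  obtain ⟨y₁, ⟨hy₁, hy₁'⟩, hy₁c⟩ := nonempty_inter_closedPoints hne
    (hVo.inter (hVo.preimage ψ.left.continuous)).isLocallyClosed
  let yK : Pt GK := Over.homMk (pointOfClosedPoint GK.hom y₁ hy₁c) (pointOfClosedPoint_comp GK.hom y₁ hy₁c)
  have himg : pimg yK = y₁ := pointOfClosedPoint_apply GK.hom y₁ hy₁c _
  obtain ⟨a, ha⟩ := mem_of_pt yK (himg.symm ▸ hy₁)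
  obtain ⟨b, hb⟩ := mem_of_pt (yK ≫ ψ) (by
    show π (pimg (yK ≫ ψ)) ∈ Set.range (D.cell e e').left
    rw [Deform.Chev.pimg_comp, himg]
    exact hy₁')
  have hprod : yK * (yK ≫ ψ) = gK := by
    simp only [ψ, MonObj.comp_mul, GrpObj.comp_inv, Category.comp_id, ← Category.assoc,
      toUnit_unique (yK ≫ toUnit GK) (𝟙 _), Category.id_comp]
    group
  have hfac : lift a b ≫ cellSq D e e' = DSPtsLib.theta q gK := by
    rw [cellSq, MonObj.comp_mul, lift_fst_assoc, lift_snd_assoc, ha, hb, ← DSPtsLib.theta_mul, hprod]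
  refine range_subset_of_comp _ hfac ⟨(IsLocalRing.closedPoint K : PrimeSpectrum K), ?_⟩
  rw [DSPtsLib.theta_left, Scheme.Hom.comp_apply]
  exact congrArg π (pointOfClosedPoint_apply GK.hom g₁ hg₁c _)

/-- Pulling back along the product of two cells gives an epimorphic cover of any point of the group. -/
theorem exists_cover (h : IsFull lam e e') {X : Over S} (g : X ⟶ G) :
    ∃ (Z : Over S) (p : Z ⟶ X) (a b : Z ⟶ cellOb D n m), Epi p ∧
      p ≫ g = (a ≫ D.cell e e') * (b ≫ D.cell e e') := by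
  obtain ⟨hfl, -⟩ := flat_cellSq h
  haveI := hfl
  haveI := surjective_cellSq h
  let Z : Over S := Over.mk (pullback.fst g.left (cellSq D e e').left ≫ X.hom)
  let p : Z ⟶ X := Over.homMk (pullback.fst g.left (cellSq D e e').left) rfl
  let r : Z ⟶ cellOb D n m ⊗ cellOb D n m := Over.homMk (pullback.snd g.left (cellSq D e e').left) (by
    show _ = pullback.fst g.left (cellSq D e e').left ≫ X.hom
    rw [← Over.w (cellSq D e e'), ← Category.assoc, ← pullback.condition, Category.assoc, Over.w g])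
  refine ⟨Z, p, r ≫ fst _ _, r ≫ snd _ _, ?_, ?_⟩
  · haveI : Epi p.left := Flat.epi_of_flat_of_surjective (pullback.fst g.left (cellSq D e e').left)
    exact (Over.forget S).epi_of_epi_map ‹Epi p.left›
  · have h1 : p ≫ g = r ≫ cellSq D e e' := Over.OverMorphism.ext pullback.condition
    rw [h1, cellSq, MonObj.comp_mul, Category.assoc, Category.assoc]

/-- Homomorphisms agreeing on the big cell are equal. -/
theorem hom_ext_cell (h : IsFull lam e e') {H : Over S} [GrpObj H] (f f' : G ⟶ H) [IsMonHom f] [IsMonHom f']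
    (heq : D.cell e e' ≫ f = D.cell e e' ≫ f') : f = f' := by
  obtain ⟨Z, p, a, b, hp, hab⟩ := exists_cover h (𝟙 G)
  rw [← cancel_epi p, ← Category.comp_id p, hab, MonObj.mul_comp, MonObj.mul_comp, Category.assoc, Category.assoc,
    Category.assoc, Category.assoc, heq]

/-! ### The centraliser of the torus -/

theorem isMultType_DS : SGA3x.IsMultTypeFT (Red.DS S D.M) :=
  haveI : AddGroup.FG D.M := Module.Finite.iff_addGroup_fg.mp inferInstance
  Deform.SplitQuot.isMultTypeFT_DS S D.M

/-- Points commuting with the torus land in the big cell. -/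
theorem range_subset_of_commute (h : IsFull lam e e') {X : Over S} (g : X ⟶ G)
    (hg : ∀ (X' : Over S) (x : X' ⟶ X) (t : X' ⟶ Red.DS S D.M), (x ≫ g) * (t ≫ D.j) = (t ≫ D.j) * (x ≫ g)) :
    Set.range g.left ⊆ Set.range (D.cell e e').left := by
  haveI := h.isOpenImmersion
  haveI : IsAffineHom G.hom := D.reductive.1
  haveI : Smooth G.hom := D.reductive.2.1
  haveI : IsClosedImmersion D.j.left :=
    Deform.isClosedImmersion_of_mono (Deform.isMultType_of_ft isMultType_DS) D.j
  obtain ⟨C, cC, -, hCs, hC⟩ := Deform.exists_transporter (Deform.isMultType_of_ft isMultType_DS) D.j D.j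
  haveI := hCs
  obtain ⟨z, hz⟩ := (hC X g).2 fun X' x t => by rw [hg, mul_inv_cancel_right]
  suffices hCV : Set.range cC.left ⊆ Set.range (D.cell e e').left from (range_subset_of_comp z hz).trans hCV
  rintro _ ⟨c₀, rfl⟩
  let s := C.hom c₀
  let q := Red.geomPt s
  let K := AlgebraicClosure (S.residueField s)
  obtain ⟨hGa, hGs, hGc, -⟩ := D.reductive.2.2 s
  haveI := hGa; haveI := hGs; haveI := hGc
  let GK := Red.bc q G
  let jK := (Over.pullback q).map D.j
  have hTK : Red.IsTorus (Red.bc q (Red.DS S D.M)) := by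
    let bas := (Module.Free.chooseBasis ℤ D.M).reindex (Fintype.equivFin _)
    exact Deform.isTorus_bc q (Deform.isTorus_of_split (T := Red.DS S D.M) _
      (Deform.SplitQuot.nonempty_DS_congr bas.equivFun.symm.toAddEquiv))
  obtain ⟨J, _, cJ, hcJ, hcJi, hJs, hJc, hJcent, hJall⟩ :=
    Deform.Borel.exists_connected_cent_torus GK hTK jK
  haveI := hcJ; haveI := hcJi; haveI := hJs; haveI := hJc
  haveI : IsAffineHom GK.hom := isAffineHom_of_isAffine _
  haveI : IsAffineHom J.hom := by rw [← Over.w cJ]; infer_instance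
  haveI : IsIntegral J.left := GrpSchLib.Kunneth.isIntegral_grp J
  haveI : JacobsonSpace ↥J.left := LocallyOfFiniteType.jacobsonSpace J.hom
  haveI : JacobsonSpace ↥(Red.bc q C).left := by
    haveI : Smooth (Red.bc q C).hom := inferInstanceAs (Smooth (pullback.snd C.hom q))
    exact LocallyOfFiniteType.jacobsonSpace (Red.bc q C).hom
  let π : GK.left ⟶ G.left := pullback.fst G.hom q
  let A : Set J.left := (cJ.left ≫ π) ⁻¹' Set.range D.j.left
  have hA : IsClosed A := D.j.left.isClosedEmbedding.isClosed_range.preimage (cJ.left ≫ π).continuous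
  let U : Set J.left := (cJ.left ≫ π) ⁻¹' Set.range (D.cell e e').left
  have hUo : IsOpen U := (D.cell e e').left.isOpenEmbedding.isOpen_range.preimage (cJ.left ≫ π).continuous
  have hUne : U.Nonempty := by
    refine ⟨pimg (1 : Pt J), ?_⟩
    show (cJ.left ≫ π) _ ∈ Set.range (D.cell e e').left
    have h1 := range_subset_of_comp _ ((torus_factor D e e' (1 : (Over.map q).obj (𝟙_ _) ⟶ _)).trans
      (MonObj.one_comp D.j)) ⟨(IsLocalRing.closedPoint K : PrimeSpectrum K), rfl⟩
    rw [← GrpSchLib.RankOne.theta_one q (H := G), ← MonObj.one_comp cJ, DSPtsLib.theta_left,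
      Scheme.Hom.comp_apply] at h1
    exact h1
  have hUA : U ⊆ A := by
    intro j₀ hj₀
    by_contra hjA
    obtain ⟨j₁, ⟨hj₁, hj₁A⟩, hj₁c⟩ := nonempty_inter_closedPoints (Z := U ∩ Aᶜ) ⟨j₀, hj₀, hjA⟩
      (hUo.inter hA.isOpen_compl).isLocallyClosed
    let yK : Pt J := Over.homMk (pointOfClosedPoint J.hom j₁ hj₁c) (pointOfClosedPoint_comp J.hom j₁ hj₁c)
    have himg : pimg yK = j₁ := pointOfClosedPoint_apply J.hom j₁ hj₁c _
    let g₁ := DSPtsLib.theta q (yK ≫ cJ)
    have hcomm : ∀ t : (Over.map q).obj (𝟙_ _) ⟶ Red.DS S D.M, g₁ * (t ≫ D.j) = (t ≫ D.j) * g₁ := fun t => by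
      obtain ⟨tK, rfl⟩ := (DSPtsLib.theta_bijective q).surjective t
      rw [← GrpSchLib.RankOne.theta_pullback_map, ← DSPtsLib.theta_mul, ← DSPtsLib.theta_mul, hJcent yK tK]
    obtain ⟨x, hx⟩ := exists_lift (D.cell e e') g₁ (by
      rintro _ ⟨o, rfl⟩
      rw [DSPtsLib.theta_left, Over.comp_left, Category.assoc, Scheme.Hom.comp_apply,
        Subsingleton.elim (α := PrimeSpectrum K) o (IsLocalRing.closedPoint K)]
      show (cJ.left ≫ π) (pimg yK) ∈ _
      rw [himg]
      exact hj₁)
    obtain ⟨v, t, w, rfl⟩ := exists_cellPt D x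
    have hscale : ∀ t₀ : (Over.map q).obj (𝟙_ _) ⟶ Red.DS S D.M,
        (fun l => Red.gmFn (t₀ ≫ Red.chi S (D.r (e l))) * v l) = v ∧
        (fun l => Red.gmFn (t₀ ≫ Red.chi S (D.r (e' l))) * w l) = w := fun t₀ => by
      haveI := h.mono
      have h1 : cellPt D (fun l => Red.gmFn (t₀ ≫ Red.chi S (D.r (e l))) * v l) t
          (fun l => Red.gmFn (t₀ ≫ Red.chi S (D.r (e' l))) * w l) = cellPt D v t w := by
        rw [← cancel_mono (D.cell e e'), ← conj_cellPt, hx, ← hcomm, mul_inv_cancel_right]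
      have h2 := congrArg (fun y => coord (y ≫ fst _ _)) h1
      have h3 := congrArg (fun y => coord (y ≫ snd _ _ ≫ snd _ _)) h1
      simp only [cellPt, lift_fst, lift_snd_assoc, lift_snd, coord_ofCoord] at h2 h3
      exact ⟨h2, h3⟩
    have hzero : ∀ (z : Γ(((Over.map q).obj (𝟙_ (Over (Spec (CommRingCat.of K))))).left, ⊤)) (d : D.idx),
        lam (D.r d) ≠ 0 → (∀ t₀ : (Over.map q).obj (𝟙_ _) ⟶ Red.DS S D.M,
          Red.gmFn (t₀ ≫ Red.chi S (D.r d)) * z = z) → z = 0 := by
      intro z d hd hz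
      obtain ⟨ζ, hζ⟩ := SplitRootUnique.exists_zpow_ne_one (k := K) hd
      let f : Multiplicative D.M →* K :=
        { toFun := fun m => ((ζ ^ lam m.toAdd : Kˣ) : K)
          map_one' := by simp
          map_mul' := fun a b => by rw [toAdd_mul, map_add, zpow_add, Units.val_mul] }
      let e₀ : (Over.map q).obj (𝟙_ (Over (Spec (CommRingCat.of K)))) ⟶ pX q :=
        Over.homMk (𝟙 _) (by show 𝟙 _ ≫ q = 𝟙 _ ≫ q; rfl)
      have h1 := hz (e₀ ≫ D.tpt q f)
      rw [Category.assoc, GmPts.gmFn_comp, gmFn_tpt] at h1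
      have h2 : (sec q (f (Multiplicative.ofAdd (D.r d))) - 1) * (show Γ((pX q).left, ⊤) from z) = 0 := by
        rw [sub_mul, _root_.one_mul, sub_eq_zero]
        exact h1
      have h3 : IsUnit (sec q (f (Multiplicative.ofAdd (D.r d))) - 1) := by
        rw [← map_one (Scheme.ΓSpecIso (CommRingCat.of K)).inv.hom, sec, ← map_sub]
        refine (IsUnit.mk0 _ ?_).map (Scheme.ΓSpecIso (CommRingCat.of K)).inv.hom
        rw [sub_ne_zero]
        exact fun hh => hζ (Units.ext hh)
      exact h3.mul_right_eq_zero.1 h2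
    have hv0 : v = 0 := funext fun l => hzero _ (e l) (h.neg l).ne fun t₀ => congrFun (hscale t₀).1 l
    have hw0 : w = 0 := funext fun l => hzero _ (e' l) (h.pos l).ne' fun t₀ => congrFun (hscale t₀).2 l
    subst hv0; subst hw0
    rw [torus_factor] at hx
    refine hj₁A (?_ : j₁ ∈ A)
    show (cJ.left ≫ π) j₁ ∈ Set.range D.j.left
    have := range_subset_of_comp t hx ⟨(IsLocalRing.closedPoint K : PrimeSpectrum K), rfl⟩
    rw [DSPtsLib.theta_left, Over.comp_left, Category.assoc, Scheme.Hom.comp_apply] at this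
    rw [← himg]
    exact this
  have hAuniv : A = Set.univ :=
    hA.closure_eq.symm.trans (Set.eq_univ_of_univ_subset
      ((hUo.dense hUne).closure_eq.ge.trans (closure_mono hUA)))
  let CK := Red.bc q C
  let cK := (Over.pullback q).map cC
  let O : Set CK.left := (cK.left ≫ π) ⁻¹' Set.range (D.cell e e').left
  have hO : IsOpen O := (D.cell e e').left.isOpenEmbedding.isOpen_range.preimage (cK.left ≫ π).continuous
  obtain ⟨c', hc', -⟩ := Scheme.Pullback.exists_preimage_pullback (f := C.hom) (g := q) c₀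
    (IsLocalRing.closedPoint K : PrimeSpectrum K) (Scheme.fromSpecResidueField_apply s _).symm
  suffices hc'O : c' ∈ O by
    have h1 : (cK.left ≫ π) c' = cC.left c₀ := by
      rw [show cK.left ≫ π = pullback.fst C.hom q ≫ cC.left from ActBC.pullback_map_left_fst q cC,
        Scheme.Hom.comp_apply, hc']
    exact h1 ▸ hc'O
  by_contra hc'O
  obtain ⟨c₁, hc₁, hc₁c⟩ := nonempty_inter_closedPoints (Z := Oᶜ) ⟨c', hc'O⟩ hO.isClosed_compl.isLocallyClosed
  haveI : LocallyOfFiniteType CK.hom :=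
    haveI : Smooth CK.hom := inferInstanceAs (Smooth (pullback.snd C.hom q))
    inferInstance
  let zK : Pt CK := Over.homMk (pointOfClosedPoint CK.hom c₁ hc₁c) (pointOfClosedPoint_comp CK.hom c₁ hc₁c)
  obtain ⟨y, hy⟩ := hJall (zK ≫ cK) fun w => by
    apply (DSPtsLib.theta_bijective q).injective
    rw [DSPtsLib.theta_mul, DSPtsLib.theta_mul, GrpSchLib.RankOne.theta_pullback_map,
      GrpSchLib.RankOne.theta_pullback_map]
    have := (hC _ (DSPtsLib.theta q zK ≫ cC)).1 ⟨_, rfl⟩ _ (𝟙 _) (DSPtsLib.theta q w)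
    rw [Category.id_comp, mul_inv_eq_iff_eq_mul] at this
    exact this
  apply hc₁
  show (cK.left ≫ π) c₁ ∈ Set.range (D.cell e e').left
  have h1 : pimg y ∈ A := hAuniv ▸ Set.mem_univ _
  have h2 : pimg (y ≫ cJ) = cJ.left (pimg y) := Deform.Chev.pimg_comp y cJ
  rw [hy, Deform.Chev.pimg_comp, show pimg zK = c₁ from pointOfClosedPoint_apply CK.hom c₁ hc₁c _] at h2
  rw [Scheme.Hom.comp_apply, h2]
  exact range_j_subset D e e' (by simpa [A] using h1)

/-- **The torus is its own centraliser.** -/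
theorem exists_torus_of_commute (h : IsFull lam e e') {X : Over S} (g : X ⟶ G)
    (hg : ∀ (X' : Over S) (x : X' ⟶ X) (t : X' ⟶ Red.DS S D.M), (x ≫ g) * (t ≫ D.j) = (t ≫ D.j) * (x ≫ g)) :
    ∃ t : X ⟶ Red.DS S D.M, t ≫ D.j = g := by
  haveI := h.isOpenImmersion
  haveI := h.mono
  obtain ⟨x, hx⟩ := exists_lift (D.cell e e') g (range_subset_of_commute h g hg)
  refine ⟨x ≫ snd _ _ ≫ fst _ _, ?_⟩
  rw [← hx]
  refine hom_ext_rings fun B _ s p => ?_
  obtain ⟨v, t, w, hvw⟩ := exists_cellPt D (p ≫ x)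
  obtain ⟨v, rfl⟩ := exists_sec s v
  obtain ⟨w, rfl⟩ := exists_sec s w
  have h1 := hg (pX (laurS s)) (baseL s ≫ p) (zt s D lam)
  rw [Category.assoc, ← hx, ← Category.assoc p, hvw] at h1
  have hb : baseL s ≫ cellPt D (fun l => sec s (v l)) t (fun l => sec s (w l)) =
      cellPt D (fun l => sec (laurS s) (LaurentPolynomial.C (v l))) (baseL s ≫ t)
        (fun l => sec (laurS s) (LaurentPolynomial.C (w l))) := by
    simp only [baseL]
    refine CartesianMonoidalCategory.hom_ext _ _ (coord_injective ?_)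
      (CartesianMonoidalCategory.hom_ext _ _ ?_ (coord_injective ?_))
    · simp only [cellPt, Category.assoc, lift_fst, coord_comp, coord_ofCoord, appTop_mor]
    · simp only [cellPt, Category.assoc, lift_snd_assoc, lift_fst]
    · simp only [cellPt, Category.assoc, lift_snd_assoc, lift_snd, coord_comp, coord_ofCoord, appTop_mor]
  rw [← Category.assoc, hb] at h1
  have h2 := mul_inv_eq_of_eq_mul h1.symm
  rw [conj_cellPt, cancel_mono] at h2
  have h3 := congrArg (fun y => coord (y ≫ fst _ _)) h2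
  have h4 := congrArg (fun y => coord (y ≫ snd _ _ ≫ snd _ _)) h2
  simp only [cellPt, lift_fst, lift_snd_assoc, lift_snd, coord_ofCoord, zt, gmFn_tpt] at h3 h4
  have hzero : ∀ (k : ℤ) (b : B), k ≠ 0 →
      sec (laurS s) (LaurentPolynomial.T k) * sec (laurS s) (LaurentPolynomial.C b) =
        sec (laurS s) (LaurentPolynomial.C b) → b = 0 := by
    intro k b hk hb
    have h5 : LaurentPolynomial.T k * LaurentPolynomial.C b = LaurentPolynomial.C b :=
      (sec_bijective (laurS s)).injective ((map_mul _ _ _).trans hb)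
    have h6 := congrArg (fun p : B[T;T⁻¹] => p.coeff k) h5
    rw [_root_.mul_comm] at h6
    simpa [← LaurentPolynomial.single_eq_C_mul_T, ← LaurentPolynomial.single_eq_C, hk, Finsupp.single_apply,
      Ne.symm hk] using h6
  have hv : v = 0 := funext fun l => hzero _ _ (h.neg l).ne (congrFun h3 l)
  have hw : w = 0 := funext fun l => hzero _ _ (h.pos l).ne' (congrFun h4 l)
  rw [← Category.assoc p x (D.cell e e'), hvw, ← Category.assoc p, ← Category.assoc p x, hvw]
  rw [cellPt_cell, hv, hw]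
  simp only [cellPt, lift_snd_assoc, lift_fst, Pi.zero_apply, sec, map_zero, Prod_zero, _root_.one_mul,
    _root_.mul_one]

end

end Groth.Agent.SplitGrp
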