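import Groth.Agent.SplitGrp.Words
import Mathlib.AlgebraicGeometry.ZariskisMainTheorem
import Mathlib.AlgebraicGeometry.ValuativeCriterion

/-!
# Subgroups spanned by positive root subgroups
-/

universe u

open CategoryTheory CategoryTheory.Limits MonoidalCategory CartesianMonoidalCategory MonObj GrpObj AlgebraicGeometry
open scoped Polynomial LaurentPolynomial

attribute [local instance] CategoryTheory.Hom.monoid CategoryTheory.Hom.group
set_option linter.style.haveILetI false
set_option linter.unusedSectionVars false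

namespace Groth.Agent.SplitGrp

noncomputable section

variable {S : Scheme.{u}} {G : Over S}

/-- A point over an injective extension which is defined over the smaller ring. -/
theorem exists_point_descend [IsAffineHom G.hom] {B C C' : Type u} [CommRing B] [CommRing C] [CommRing C']
    (s : Spec (CommRingCat.of B) ⟶ S) {sC : Spec (CommRingCat.of C) ⟶ S} {sC' : Spec (CommRingCat.of C') ⟶ S}
    (jC : B →+* C) (hC : Spec.map (CommRingCat.ofHom jC) ≫ s = sC) (inc : C →+* C') (hinc : Function.Injective inc)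
    (hC' : Spec.map (CommRingCat.ofHom inc) ≫ sC = sC') (hBC' : Spec.map (CommRingCat.ofHom (inc.comp jC)) ≫ s = sC')
    (g : pX sC' ⟶ G) (hg : ∀ a, crd s (inc.comp jC) hBC' g a ∈ inc.range) :
    ∃ k : pX sC ⟶ G, mor inc hC' ≫ k = g := by
  haveI : IsAffineHom (pullback.snd G.hom s) := MorphismProperty.pullback_snd _ _ inferInstance
  haveI : IsAffine (pullback G.hom s) := isAffine_of_isAffineHom (pullback.snd G.hom s)
  choose f hf using fun a => RingHom.mem_range.1 (hg a)
  let o : Γ(pullback G.hom s, ⊤) →+* C :=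
    { toFun := f
      map_one' := hinc (by rw [hf, map_one, map_one])
      map_mul' := fun a b => hinc (by rw [hf, map_mul, map_mul, hf, hf])
      map_zero' := hinc (by rw [hf, map_zero, map_zero])
      map_add' := fun a b => hinc (by rw [hf, map_add, map_add, hf, hf]) }
  let kP : Spec (CommRingCat.of C) ⟶ pullback G.hom s :=
    Spec.map (CommRingCat.ofHom o) ≫ (pullback G.hom s).isoSpec.inv
  let L : Spec (CommRingCat.of C') ⟶ pullback G.hom s :=
    pullback.lift g.left (Spec.map (CommRingCat.ofHom (inc.comp jC))) ((Over.w g).trans hBC'.symm)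
  have hL : Spec.map (CommRingCat.ofHom inc) ≫ kP = L := by
    refine ext_of_isAffine ?_
    rw [← cancel_mono (Scheme.ΓSpecIso (CommRingCat.of C')).hom]
    refine CommRingCat.hom_ext (RingHom.ext fun a => ?_)
    refine Eq.trans ?_ ((hf a).trans rfl)
    simp only [kP, Scheme.Hom.comp_appTop, Category.assoc, Scheme.ΓSpecIso_naturality,
      Scheme.ΓSpecIso_naturality_assoc]
    simp only [CommRingCat.hom_comp, RingHom.comp_apply, CommRingCat.hom_ofHom]
    congr 2
    have e1 : (pullback G.hom s).isoSpec.inv.appTop ≫ (Scheme.ΓSpecIso Γ(pullback G.hom s, ⊤)).hom = 𝟙 _ := by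
      rw [← Scheme.toSpecΓ_appTop, ← Scheme.Hom.comp_appTop]
      show Scheme.Hom.appTop ((pullback G.hom s).isoSpec.hom ≫ (pullback G.hom s).isoSpec.inv) = _
      rw [Iso.hom_inv_id, Scheme.Hom.id_appTop]
    have e2 := RingHom.congr_fun (congrArg CommRingCat.Hom.hom e1) a
    exact congrArg o e2
  have hsnd : kP ≫ pullback.snd G.hom s = Spec.map (CommRingCat.ofHom jC) := by
    obtain ⟨φ, hφ⟩ : ∃ φ : CommRingCat.of B ⟶ CommRingCat.of C, Spec.map φ = kP ≫ pullback.snd G.hom s :=
      ⟨_, Spec.map_preimage _⟩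
    rw [← hφ]
    congr 1
    refine CommRingCat.hom_ext (RingHom.ext fun b => hinc ?_)
    have h1 : Spec.map (φ ≫ CommRingCat.ofHom inc) = Spec.map (CommRingCat.ofHom (inc.comp jC)) := by
      rw [Spec.map_comp, hφ, ← Category.assoc, hL]
      exact pullback.lift_snd _ _ _
    exact RingHom.congr_fun (congrArg CommRingCat.Hom.hom (Spec.map_injective h1)) b
  refine ⟨Over.homMk (kP ≫ pullback.fst G.hom s) ?_, Over.OverMorphism.ext ?_⟩
  · show (kP ≫ pullback.fst G.hom s) ≫ G.hom = sC
    rw [Category.assoc, pullback.condition, ← Category.assoc, hsnd, hC]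
  · show Spec.map (CommRingCat.ofHom inc) ≫ kP ≫ pullback.fst G.hom s = g.left
    rw [← Category.assoc, hL]
    exact pullback.lift_fst _ _ _

variable [GrpObj G] {D : Sys G} {lam : D.M →+ ℤ}

/-- Limits over a subring. -/
theorem exists_lim_of_injective {R K : Type u} [CommRing R] [CommRing K] {s : Spec (CommRingCat.of R) ⟶ S}
    {sK : Spec (CommRingCat.of K) ⟶ S} (φ : R →+* K) (hφ : Function.Injective φ)
    (hsK : Spec.map (CommRingCat.ofHom φ) ≫ s = sK) {g : pX s ⟶ G} {l : pX sK ⟶ G}
    (h : Lim sK D lam (mor φ hsK ≫ g) l) : ∃ l' : pX s ⟶ G, Lim s D lam g l' ∧ mor φ hsK ≫ l' = l := by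
  haveI : IsAffineHom G.hom := D.reductive.1
  obtain ⟨kK, hk, hk0⟩ := h
  let φP : R[X] →+* K[X] := Polynomial.mapRingHom φ
  let φL : R[T;T⁻¹] →+* K[T;T⁻¹] := AddMonoidAlgebra.mapRingHom ℤ φ
  have hφC : φP.comp Polynomial.C = (Polynomial.C : K →+* K[X]).comp φ :=
    RingHom.ext fun r => Polynomial.map_C φ
  have hφLC : φL.comp LaurentPolynomial.C = (LaurentPolynomial.C : K →+* K[T;T⁻¹]).comp φ :=
    RingHom.ext fun r => AddMonoidAlgebra.mapRingHom_single φ 0 r
  have hP : Spec.map (CommRingCat.ofHom φP) ≫ polyS s = polyS sK := by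
    show _ ≫ Spec.map _ ≫ s = Spec.map _ ≫ sK
    rw [← hsK, ← Category.assoc, ← Category.assoc, ← Spec.map_comp, ← Spec.map_comp, ← CommRingCat.ofHom_comp,
      ← CommRingCat.ofHom_comp, hφC]
  have hLs : Spec.map (CommRingCat.ofHom φL) ≫ laurS s = laurS sK := by
    show _ ≫ Spec.map _ ≫ s = Spec.map _ ≫ sK
    rw [← hsK, ← Category.assoc, ← Category.assoc, ← Spec.map_comp, ← Spec.map_comp, ← CommRingCat.ofHom_comp,
      ← CommRingCat.ofHom_comp, hφLC]
  have horb : mor φL hLs ≫ orbit s D lam g = orbit sK D lam (mor φ hsK ≫ g) := by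
    have h1 : mor φL hLs ≫ zt s D lam = zt sK D lam := by
      refine (tpt_comp φL hLs _).trans (congrArg (D.tpt (laurS sK)) ?_)
      refine MonoidHom.ext fun r => ?_
      show φL (AddMonoidAlgebra.single (lam r.toAdd) 1) = AddMonoidAlgebra.single (lam r.toAdd) 1
      rw [AddMonoidAlgebra.mapRingHom_single, map_one]
    have h2 : mor φL hLs ≫ baseL s = baseL sK ≫ mor φ hsK := by
      refine Over.OverMorphism.ext ?_
      show Spec.map _ ≫ Spec.map _ = Spec.map _ ≫ Spec.map _
      rw [← Spec.map_comp, ← Spec.map_comp, ← CommRingCat.ofHom_comp, ← CommRingCat.ofHom_comp, hφLC]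
    simp only [orbit, MonObj.comp_mul, GrpObj.comp_inv, reassoc_of% h1, reassoc_of% h2, h1]
  have hrC : Spec.map (CommRingCat.ofHom ((Polynomial.toLaurent (R := R)).comp Polynomial.C)) ≫ s = laurS s := by
    rw [toLaurent_comp_C]
  have hrange : ∀ a, crd s ((Polynomial.toLaurent (R := R)).comp Polynomial.C) hrC (orbit s D lam g) a ∈
      (Polynomial.toLaurent (R := R)).range := fun a => by
    have hC1 : Spec.map (CommRingCat.ofHom (φL.comp ((Polynomial.toLaurent (R := R)).comp Polynomial.C))) ≫ s =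
        laurS sK := by
      rw [CommRingCat.ofHom_comp, Spec.map_comp, Category.assoc, hrC, hLs]
    have hC2 : Spec.map (CommRingCat.ofHom (φP.comp (Polynomial.C : R →+* R[X]))) ≫ s = polyS sK := by
      rw [CommRingCat.ofHom_comp, Spec.map_comp, Category.assoc]; exact hP
    have h1 := crd_mor s _ hrC φL hLs _ hC1 rfl (orbit s D lam g)
    have hcomp : (Polynomial.toLaurent (R := K)).comp (φP.comp (Polynomial.C : R →+* R[X])) =
        φL.comp ((Polynomial.toLaurent (R := R)).comp Polynomial.C) := by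
      refine RingHom.ext fun r => ?_
      simp only [RingHom.comp_apply, φP, Polynomial.coe_mapRingHom, Polynomial.map_C, Polynomial.toLaurent_C]
      exact (AddMonoidAlgebra.mapRingHom_single φ 0 r).symm
    have h2 := crd_mor s _ hC2 Polynomial.toLaurent (spec_comp_eq sK _ _ _ toLaurent_comp_C) _ hC1 hcomp kK
    have h3 : φL (crd s _ hrC (orbit s D lam g) a) = Polynomial.toLaurent (crd s _ hC2 kK a) := by
      rw [← RingHom.comp_apply, ← h1, horb, ← hk, ← RingHom.comp_apply]
      exact RingHom.congr_fun h2 a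
    set o := crd s _ hrC (orbit s D lam g) a
    have h4 : ∀ z : ℤ, z < 0 → o.coeff z = 0 := fun z hz => hφ (by
      rw [map_zero]
      have h6 := congrArg (fun p : K[T;T⁻¹] => p.coeff z) h3
      exact (AddMonoidAlgebra.coeff_mapRingHom φ o z).symm.trans (h6.trans (coeff_toLaurent_neg _ hz)))
    refine ⟨LaurentPolynomial.trunc o, AddMonoidAlgebra.coeff_injective (Finsupp.ext fun z => ?_)⟩
    rcases lt_or_ge z 0 with hz | hz
    · rw [coeff_toLaurent_neg _ hz, h4 z hz]
    · lift z to ℕ using hz
      rw [coeff_toLaurent_nat]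
      simp [LaurentPolynomial.trunc]
  obtain ⟨k, hk'⟩ := exists_point_descend s (Polynomial.C : R →+* R[X]) (sC := polyS s) rfl Polynomial.toLaurent
    (fun x y => toLaurent_inj) (spec_comp_eq s _ _ _ toLaurent_comp_C) hrC (orbit s D lam g) hrange
  refine ⟨evP s 0 ≫ k, ⟨k, hk', rfl⟩, ?_⟩
  have h5 : mor φP hP ≫ k = kK := by
    refine hom_ext_pts (J := Unit) (polyS sK) (fun _ => K[T;T⁻¹]) (fun _ => Polynomial.toLaurent)
      (fun _ => laurS sK) (fun _ => spec_comp_eq sK _ _ _ toLaurent_comp_C) (fun x y hxy => toLaurent_inj (hxy ()))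
      fun _ => ?_
    show toL sK ≫ mor φP hP ≫ k = toL sK ≫ kK
    rw [hk, ← horb, ← hk', ← Category.assoc, ← Category.assoc]
    congr 1
    refine Over.OverMorphism.ext ?_
    show Spec.map _ ≫ Spec.map _ = Spec.map _ ≫ Spec.map _
    rw [← Spec.map_comp, ← Spec.map_comp, ← CommRingCat.ofHom_comp, ← CommRingCat.ofHom_comp]
    congr 2
    refine Polynomial.ringHom_ext (fun r => ?_) ?_
    · simp only [RingHom.comp_apply, φP, Polynomial.coe_mapRingHom, Polynomial.map_C, Polynomial.toLaurent_C]
      exact (AddMonoidAlgebra.mapRingHom_single φ 0 r).symm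
    · simp only [RingHom.comp_apply, φP, Polynomial.coe_mapRingHom, Polynomial.map_X, Polynomial.toLaurent_X]
      exact ((AddMonoidAlgebra.mapRingHom_single φ (1 : ℤ) 1).trans (by rw [map_one]; rfl)).symm
  rw [← hk0, ← h5, ← Category.assoc, ← Category.assoc]
  congr 1
  refine Over.OverMorphism.ext ?_
  show Spec.map _ ≫ Spec.map _ = Spec.map _ ≫ Spec.map _
  rw [← Spec.map_comp, ← Spec.map_comp, ← CommRingCat.ofHom_comp, ← CommRingCat.ofHom_comp]
  congr 2
  refine Polynomial.ringHom_ext (fun r => ?_) ?_ <;> simp [φP]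

/-- Limits can be detected over an extension. -/
theorem lim_of_injective {R K : Type u} [CommRing R] [CommRing K] {s : Spec (CommRingCat.of R) ⟶ S}
    {sK : Spec (CommRingCat.of K) ⟶ S} (φ : R →+* K) (hφ : Function.Injective φ)
    (hsK : Spec.map (CommRingCat.ofHom φ) ≫ s = sK) {g : pX s ⟶ G} (h : Lim sK D lam (mor φ hsK ≫ g) 1) :
    Lim s D lam g 1 := by
  haveI : IsAffineHom G.hom := D.reductive.1
  obtain ⟨l', hl', he⟩ := exists_lim_of_injective φ hφ hsK h
  have h1 : l' = 1 := hom_ext_pts (J := Unit) s (fun _ => K) (fun _ => φ) (fun _ => sK) (fun _ => hsK)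
    (fun x y hxy => hφ (hxy ())) fun _ => by rw [he, MonObj.comp_one]
  rwa [h1] at hl'

section Subgroup

variable {n p q : ℕ} {e : Fin n → D.idx} {a : Fin p → D.idx} {b : Fin q → D.idx}

/-- A list of roots closed under combinations, inside a full system of positive roots. -/
structure IsClosedPos (lam : D.M →+ ℤ) (e : Fin n → D.idx) (a : Fin p → D.idx) (b : Fin q → D.idx) : Prop where
  full : IsFull lam e (Fin.append a b)
  closed : ∀ {k : ℕ} (f : Fin k → Fin p) (c : D.idx) (d : Fin k → ℕ),
    D.r c = ∑ i, (d i : ℤ) • D.r (a (f i)) → c ∈ Set.range a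

theorem IsClosedPos.pos (h : IsClosedPos lam e a b) (i : Fin p) : 0 < lam (D.r (a i)) := by
  simpa using h.full.pos (Fin.castAdd q i)

theorem IsClosedPos.Prod_inj (h : IsClosedPos lam e a b) {X : Over S} {w w' : Fin p → Γ(X.left, ⊤)}
    (hw : D.Prod a w = D.Prod a w') : w = w' := by
  have h1 : D.Prod (Fin.append a b) (Fin.append w (fun _ => 0)) = D.Prod (Fin.append a b) (Fin.append w' (fun _ => 0)) := by
    rw [Prod_append, Prod_append, hw]
  funext i
  simpa using congrFun (Prod_pos_injective h.full h1) (Fin.castAdd q i)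

theorem IsClosedPos.exists_word (h : IsClosedPos lam e a b) {k : ℕ} (f : Fin k → Fin p) {X : Over S}
    (v : Fin k → Γ(X.left, ⊤)) : ∃ w, D.Prod (fun i => a (f i)) v = D.Prod a w :=
  exists_Prod_word h.full _ (fun i => h.pos (f i)) (fun c d hc => h.closed f c d hc) v

theorem IsClosedPos.exists_mul (h : IsClosedPos lam e a b) {X : Over S} (v v' : Fin p → Γ(X.left, ⊤)) :
    ∃ w, D.Prod a v * D.Prod a v' = D.Prod a w := by
  obtain ⟨w, hw⟩ := h.exists_word (Fin.append (id : Fin p → Fin p) id) (Fin.append v v')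
  refine ⟨w, ?_⟩
  rw [← hw, ← Prod_append]
  congr 1
  funext i
  refine Fin.addCases (fun j => ?_) (fun j => ?_) i
  · rw [Fin.append_left, Fin.append_left]; rfl
  · rw [Fin.append_right, Fin.append_right]; rfl

theorem IsClosedPos.exists_inv (h : IsClosedPos lam e a b) {X : Over S} (v : Fin p → Γ(X.left, ⊤)) :
    ∃ w, (D.Prod a v)⁻¹ = D.Prod a w := by
  rw [Prod_inv]
  exact h.exists_word Fin.rev _

/-- The inclusion of the product of the root subgroups. -/
def vmap (a : Fin p → D.idx) : RedSub.pow (Red.Ga S) p ⟶ G := RedSub.prodMap (Red.Ga S) p fun l => D.u (a l)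

theorem comp_vmap {X : Over S} (x : X ⟶ RedSub.pow (Red.Ga S) p) : x ≫ vmap a = D.Prod a (coord x) :=
  comp_prodMap a x

theorem ofCoord_vmap {X : Over S} (w : Fin p → Γ(X.left, ⊤)) : ofCoord w ≫ vmap a = D.Prod a w := by
  rw [comp_vmap, coord_ofCoord]

theorem IsClosedPos.mono_vmap (h : IsClosedPos lam e a b) : Mono (vmap a) :=
  ⟨fun x y hxy => coord_injective (h.Prod_inj (by rw [← comp_vmap, ← comp_vmap, hxy]))⟩

/-- The underlying scheme of the subgroup. -/
def UObj (_ : IsClosedPos lam e a b) : Over S := RedSub.pow (Red.Ga S) p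

/-- Its inclusion. -/
def IsClosedPos.incl (h : IsClosedPos lam e a b) : UObj h ⟶ G := vmap a

instance (h : IsClosedPos lam e a b) : Mono h.incl := h.mono_vmap

theorem IsClosedPos.exists_lift_mul (h : IsClosedPos lam e a b) {X : Over S} (x y : X ⟶ UObj h) :
    ∃ z : X ⟶ UObj h, z ≫ h.incl = (x ≫ h.incl) * (y ≫ h.incl) := by
  obtain ⟨w, hw⟩ := h.exists_mul (X := X) (coord x) (coord y)
  exact ⟨ofCoord w, (ofCoord_vmap w).trans (hw.symm.trans (by rw [← comp_vmap, ← comp_vmap]; rfl))⟩

theorem IsClosedPos.exists_lift_inv (h : IsClosedPos lam e a b) {X : Over S} (x : X ⟶ UObj h) :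
    ∃ z : X ⟶ UObj h, z ≫ h.incl = (x ≫ h.incl)⁻¹ := by
  obtain ⟨w, hw⟩ := h.exists_inv (X := X) (coord x)
  exact ⟨ofCoord w, (ofCoord_vmap w).trans (hw.symm.trans (by rw [← comp_vmap]; rfl))⟩

theorem IsClosedPos.exists_lift_one (h : IsClosedPos lam e a b) : ∃ z : 𝟙_ (Over S) ⟶ UObj h, z ≫ h.incl = 1 :=
  ⟨ofCoord (fun _ => 0), (ofCoord_vmap _).trans (Prod_zero a)⟩

theorem one_comp_incl (h : IsClosedPos lam e a b) {X : Over S} :
    (toUnit X ≫ h.exists_lift_one.choose) ≫ h.incl = 1 := by
  rw [Category.assoc, h.exists_lift_one.choose_spec, MonObj.comp_one]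

theorem mul_comp_incl (h : IsClosedPos lam e a b) {X : Over S} (x y : X ⟶ UObj h) :
    (lift x y ≫ (h.exists_lift_mul (fst (UObj h) (UObj h)) (snd _ _)).choose) ≫ h.incl =
      (x ≫ h.incl) * (y ≫ h.incl) := by
  rw [Category.assoc, (h.exists_lift_mul (fst (UObj h) (UObj h)) (snd _ _)).choose_spec, MonObj.comp_mul,
    lift_fst_assoc, lift_snd_assoc]

instance (h : IsClosedPos lam e a b) : GrpObj (UObj h) where
  one := h.exists_lift_one.choose
  mul := (h.exists_lift_mul (fst (UObj h) (UObj h)) (snd _ _)).choose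
  inv := (h.exists_lift_inv (𝟙 (UObj h))).choose
  one_mul := by
    rw [← cancel_mono h.incl, Category.assoc, (h.exists_lift_mul (fst (UObj h) (UObj h)) (snd _ _)).choose_spec,
      MonObj.comp_mul, whiskerRight_fst_assoc, whiskerRight_snd_assoc, h.exists_lift_one.choose_spec, MonObj.comp_one,
      _root_.one_mul, leftUnitor_hom]
  mul_one := by
    rw [← cancel_mono h.incl, Category.assoc, (h.exists_lift_mul (fst (UObj h) (UObj h)) (snd _ _)).choose_spec,
      MonObj.comp_mul, whiskerLeft_fst_assoc, whiskerLeft_snd_assoc, h.exists_lift_one.choose_spec, MonObj.comp_one,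
      _root_.mul_one, rightUnitor_hom]
  mul_assoc := by
    rw [← cancel_mono h.incl, Category.assoc, Category.assoc, Category.assoc,
      (h.exists_lift_mul (fst (UObj h) (UObj h)) (snd _ _)).choose_spec]
    simp only [MonObj.comp_mul, whiskerRight_fst_assoc, whiskerRight_snd_assoc, whiskerLeft_fst_assoc,
      whiskerLeft_snd_assoc, Category.assoc, associator_hom_fst_assoc,
      (h.exists_lift_mul (fst (UObj h) (UObj h)) (snd _ _)).choose_spec, associator_hom_snd_fst_assoc,
      associator_hom_snd_snd_assoc, _root_.mul_assoc]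
  left_inv := by
    rw [← cancel_mono h.incl, mul_comp_incl h, (h.exists_lift_inv (𝟙 (UObj h))).choose_spec, Category.id_comp,
      inv_mul_cancel]
    exact (one_comp_incl h).symm
  right_inv := by
    rw [← cancel_mono h.incl, mul_comp_incl h, (h.exists_lift_inv (𝟙 (UObj h))).choose_spec, Category.id_comp,
      mul_inv_cancel]
    exact (one_comp_incl h).symm

instance (h : IsClosedPos lam e a b) : IsMonHom h.incl where
  one_hom := by
    rw [MonObj.one_eq_one (M := G)]
    exact h.exists_lift_one.choose_spec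
  mul_hom := by
    rw [MonObj.mul_eq_mul (M := G), MonObj.comp_mul, tensorHom_fst, tensorHom_snd]
    exact (h.exists_lift_mul (fst (UObj h) (UObj h)) (snd _ _)).choose_spec

/-- The subgroup is closed. -/
theorem IsClosedPos.isClosedImmersion (h : IsClosedPos lam e a b) : IsClosedImmersion (vmap a).left := by
  haveI := h.mono_vmap
  haveI : Mono (vmap a).left := (Over.forget S).map_mono (vmap a)
  haveI : IsAffineHom G.hom := D.reductive.1
  haveI := isAffineHom_pow (S := S) p
  haveI := smooth_pow (S := S) p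
  haveI : IsAffineHom ((vmap a).left ≫ G.hom) := by rw [Over.w (vmap a)]; infer_instance
  haveI : IsAffineHom (vmap a).left := IsAffineHom.of_comp _ G.hom
  haveI : LocallyOfFiniteType ((vmap a).left ≫ G.hom) := by rw [Over.w (vmap a)]; infer_instance
  haveI : LocallyOfFiniteType (vmap a).left := locallyOfFiniteType_of_comp _ G.hom
  haveI : UniversallyClosed (vmap a).left := by
    refine UniversallyClosed.of_valuativeCriterion _ fun V => ?_
    let φ := algebraMap V.R V.K
    let s : Spec (CommRingCat.of V.R) ⟶ S := V.i₂ ≫ G.hom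
    let sK : Spec (CommRingCat.of V.K) ⟶ S := Spec.map (CommRingCat.ofHom φ) ≫ s
    let g : pX s ⟶ G := Over.homMk V.i₂ rfl
    let x : pX sK ⟶ RedSub.pow (Red.Ga S) p := Over.homMk V.i₁ (by
      show V.i₁ ≫ _ = _
      rw [← Over.w (vmap a), ← Category.assoc, V.commSq.w, Category.assoc]
      rfl)
    have hgx : mor φ rfl ≫ g = x ≫ vmap a := Over.OverMorphism.ext V.commSq.w.symm
    obtain ⟨w, hw⟩ := exists_sec sK (coord x)
    have hl : Lim sK D lam (mor φ rfl ≫ g) 1 := by
      rw [hgx, comp_vmap, hw]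
      exact lim_Prod a h.pos w
    obtain ⟨w', hw'⟩ := exists_Prod_of_lim h.full (lim_of_injective φ (IsFractionRing.injective V.R V.K) rfl hl)
    have h1 := hgx
    rw [hw', comp_Prod_sec, comp_vmap, hw] at h1
    have h2 : (fun l => sec sK (φ (w' l))) = Fin.append (fun i => sec sK (w i)) (fun _ => 0) :=
      Prod_pos_injective h.full (by rw [h1, Prod_append, Prod_zero]; exact (_root_.mul_one _).symm)
    have h3 : g = D.Prod a (fun i => sec s (w' (Fin.castAdd q i))) := by
      rw [hw']
      have hz : ∀ j, w' (Fin.natAdd p j) = 0 := fun j => IsFractionRing.injective V.R V.K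
        (by
        have := congrFun h2 (Fin.natAdd p j)
        rw [Fin.append_right] at this
        rw [map_zero]
        exact (sec_bijective sK).injective (this.trans (map_zero _).symm))
      rw [show (fun l => sec s (w' l)) = Fin.append (fun i => sec s (w' (Fin.castAdd q i))) (fun _ => 0) from
        funext fun l => Fin.addCases (fun i => by simp) (fun j => by simp [hz, sec]) l, Prod_append, Prod_zero]
      exact _root_.mul_one _
    let z : pX s ⟶ RedSub.pow (Red.Ga S) p := ofCoord fun i => sec s (w' (Fin.castAdd q i))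
    have hz : z.left ≫ (vmap a).left = V.i₂ := by
      rw [← Over.comp_left, ofCoord_vmap, ← h3]; rfl
    exact ⟨⟨⟨z.left, by rw [← cancel_mono (vmap a).left, Category.assoc, hz, V.commSq.w], hz⟩⟩⟩
  haveI : IsProper (vmap a).left := {}
  exact (IsClosedImmersion.iff_isProper_and_mono _).2 ⟨inferInstance, inferInstance⟩

end Subgroup

end

end Groth.Agent.SplitGrp
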