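import Groth.Agent.SplitGrp.Commutator

/-!
# Words in positive root subgroups
-/

universe u

open CategoryTheory CategoryTheory.Limits MonoidalCategory CartesianMonoidalCategory MonObj GrpObj AlgebraicGeometry
open scoped Polynomial LaurentPolynomial

attribute [local instance] CategoryTheory.Hom.monoid CategoryTheory.Hom.group
set_option linter.style.haveILetI false
set_option linter.unusedSectionVars false

namespace Groth.Agent.SplitGrp

noncomputable section

section Algebra

open MvPolynomial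

variable {R : Type u} [CommRing R] {M : Type} [AddCommGroup M] {κ : Type} [Fintype κ] (wt : κ → M)

/-- The weight of a monomial. -/
def monWt (d : κ →₀ ℕ) : M := ∑ i, (d i : ℤ) • wt i

/-- The substitution attached to a torus acting by given weights. -/
def wordSubst : MvPolynomial κ R →+* MonoidAlgebra (MvPolynomial κ R) (Multiplicative M) :=
  eval₂Hom ((MonoidAlgebra.singleOneRingHom).comp MvPolynomial.C)
    fun i => MonoidAlgebra.single (Multiplicative.ofAdd (wt i)) (X i)

theorem prod_single_wt (d : κ →₀ ℕ) (s : Finset κ) :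
    ∏ i ∈ s, (MonoidAlgebra.single (Multiplicative.ofAdd (wt i)) (X i : MvPolynomial κ R)) ^ d i =
      MonoidAlgebra.single (Multiplicative.ofAdd (∑ i ∈ s, (d i : ℤ) • wt i)) (∏ i ∈ s, (X i : MvPolynomial κ R) ^ d i) := by
  classical
  induction s using Finset.induction_on with
  | empty => rfl
  | insert i s hi ih =>
    rw [Finset.prod_insert hi, Finset.prod_insert hi, Finset.sum_insert hi, ih, MonoidAlgebra.single_pow,
      MonoidAlgebra.single_mul_single, ofAdd_add, ← ofAdd_nsmul, natCast_zsmul]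

theorem coeff_wordSubst (p : MvPolynomial κ R) (d : κ →₀ ℕ) :
    coeff d ((wordSubst wt p).coeff (Multiplicative.ofAdd (monWt wt d))) = coeff d p := by
  classical
  induction p using MvPolynomial.induction_on' with
  | monomial d' c =>
    have e : wordSubst wt (monomial d' c) = MonoidAlgebra.single (Multiplicative.ofAdd (monWt wt d')) (monomial d' c) := by
      rw [wordSubst, eval₂Hom_monomial, Finsupp.prod_fintype _ _ (fun i => pow_zero _), prod_single_wt]
      show MonoidAlgebra.single (1 : Multiplicative M) (MvPolynomial.C c) * _ = _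
      rw [MonoidAlgebra.single_mul_single, _root_.one_mul, MvPolynomial.monomial_eq (s := d'),
        Finsupp.prod_fintype _ _ (fun i => pow_zero _)]
      rfl
    rw [e]
    by_cases hdd : d' = d
    · subst hdd; simp
    · rw [coeff_monomial, if_neg hdd, MonoidAlgebra.coeff_single, Finsupp.single_apply]
      split_ifs
      · rw [coeff_monomial, if_neg hdd]
      · exact coeff_zero d
  | add p q hp hq =>
    rw [map_add, MonoidAlgebra.coeff_add, Finsupp.add_apply, coeff_add, coeff_add, hp, hq]

theorem monWt_eq_of_wordSubst {r : M} {p : MvPolynomial κ R}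
    (h : MonoidAlgebra.single (Multiplicative.ofAdd r) p = wordSubst wt p) {d : κ →₀ ℕ} (hd : coeff d p ≠ 0) :
    r = monWt wt d := by
  classical
  by_contra hne
  apply hd
  rw [← coeff_wordSubst wt p d, ← h, MonoidAlgebra.coeff_single, Finsupp.single_apply,
    if_neg (Multiplicative.ofAdd.injective.ne hne), coeff_zero]

/-- Setting a set of variables to zero. -/
def killSet (P : κ → Prop) [DecidablePred P] : MvPolynomial κ R →+* MvPolynomial κ R :=
  eval₂Hom MvPolynomial.C fun i => if P i then 0 else X i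

theorem coeff_killSet (P : κ → Prop) [DecidablePred P] {d : κ →₀ ℕ} (hd : ∀ i, P i → d i = 0)
    (p : MvPolynomial κ R) : coeff d (killSet P p) = coeff d p := by
  classical
  induction p using MvPolynomial.induction_on' with
  | monomial d' c =>
    rw [killSet, eval₂Hom_monomial, Finsupp.prod_fintype _ _ (fun i => pow_zero _)]
    by_cases hd' : ∀ i, P i → d' i = 0
    · congr 1
      rw [monomial_eq (s := d'), Finsupp.prod_fintype _ _ (fun i => pow_zero _)]
      congr 1
      refine Finset.prod_congr rfl fun j _ => ?_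
      by_cases hj : P j
      · simp [hd' j hj]
      · simp [hj]
    · push_neg at hd'
      obtain ⟨i, hi, hi'⟩ := hd'
      rw [Finset.prod_eq_zero (Finset.mem_univ i) (by simp [hi, hi']), coeff_monomial,
        if_neg (fun e => hi' (by rw [e, hd i hi]))]
      simp
  | add p q hp hq => rw [map_add, coeff_add, coeff_add, hp, hq]

end Algebra

variable {S : Scheme.{u}} {G : Over S} [GrpObj G] {D : Sys G} {lam : D.M →+ ℤ} {n m : ℕ} {e : Fin n → D.idx}
  {e' : Fin m → D.idx}

/-- Substitutions in a universal word. -/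
def IsWord (e' : Fin m → D.idx) {k : ℕ} (f : Fin k → D.idx) {R : Type u} [CommRing R]
    (s : Spec (CommRingCat.of R) ⟶ S) (W : Fin m → MvPolynomial (Fin k) R) : Prop :=
  ∀ (B : Type u) [CommRing B] (t : Spec (CommRingCat.of B) ⟶ S) (φ : MvPolynomial (Fin k) R →+* B),
    Spec.map (CommRingCat.ofHom φ) ≫ Spec.map (CommRingCat.ofHom MvPolynomial.C) ≫ s = t →
      D.Prod f (fun i => sec t (φ (MvPolynomial.X i))) = D.Prod e' fun l => sec t (φ (W l))

theorem word_comp_C {R : Type u} [CommRing R] {k : ℕ} (s : Spec (CommRingCat.of R) ⟶ S) {B : Type u} [CommRing B]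
    (φ : MvPolynomial (Fin k) R →+* B) (g : R →+* B) (h : φ.comp MvPolynomial.C = g) :
    Spec.map (CommRingCat.ofHom φ) ≫ Spec.map (CommRingCat.ofHom MvPolynomial.C) ≫ s =
      Spec.map (CommRingCat.ofHom g) ≫ s := by
  rw [← Category.assoc, ← Spec.map_comp, ← CommRingCat.ofHom_comp, h]

theorem exists_word (h : IsFull lam e e') {k : ℕ} (f : Fin k → D.idx) (hf : ∀ i, 0 < lam (D.r (f i)))
    {R : Type u} [CommRing R] (s : Spec (CommRingCat.of R) ⟶ S) :
    ∃ W : Fin m → MvPolynomial (Fin k) R, IsWord e' f s W := by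
  obtain ⟨W, hW⟩ := exists_Prod_of_lim h (lim_Prod (s := Spec.map (CommRingCat.ofHom
    (MvPolynomial.C : R →+* MvPolynomial (Fin k) R)) ≫ s) (lam := lam) f hf MvPolynomial.X)
  refine ⟨W, fun B _ t φ hφ => ?_⟩
  have h1 := congrArg (mor φ hφ ≫ ·) hW
  rw [comp_Prod_sec, comp_Prod_sec] at h1
  exact h1

theorem IsWord.weight (h : IsFull lam e e') {k : ℕ} {f : Fin k → D.idx} {R : Type u} [CommRing R]
    {s : Spec (CommRingCat.of R) ⟶ S} {W : Fin m → MvPolynomial (Fin k) R} (hW : IsWord e' f s W) {l : Fin m}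
    {d : Fin k →₀ ℕ} (hd : MvPolynomial.coeff d (W l) ≠ 0) :
    D.r (e' l) = monWt (fun i => D.r (f i)) d := by
  let A := MonoidAlgebra (MvPolynomial (Fin k) R) (Multiplicative D.M)
  let inc : MvPolynomial (Fin k) R →+* A := MonoidAlgebra.singleOneRingHom
  let T : Multiplicative D.M →* A := MonoidAlgebra.of _ _
  let ψ : MvPolynomial (Fin k) R →+* A := wordSubst fun i => D.r (f i)
  let sA : Spec (CommRingCat.of A) ⟶ S := Spec.map (CommRingCat.ofHom (inc.comp MvPolynomial.C)) ≫ s
  have hψ := word_comp_C s ψ (inc.comp MvPolynomial.C) (RingHom.ext fun r => MvPolynomial.eval₂Hom_C _ _ r)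
  have e1 := hW A sA ψ hψ
  have e2 := hW A sA inc (word_comp_C s inc _ rfl)
  have e3 := conj_tpt_Prod sA T f (fun i => inc (MvPolynomial.X i))
  rw [e2, conj_tpt_Prod] at e3
  have hT : ∀ (r : D.M) (p : MvPolynomial (Fin k) R),
      T (Multiplicative.ofAdd r) * inc p = MonoidAlgebra.single (Multiplicative.ofAdd r) p := fun r p => by
    simp [T, inc, A, MonoidAlgebra.single_mul_single]
  simp only [hT] at e3
  have hX : (fun i => sec sA (ψ (MvPolynomial.X i))) =
      fun i => sec sA (MonoidAlgebra.single (Multiplicative.ofAdd (D.r (f i))) (MvPolynomial.X i)) :=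
    funext fun i => congrArg _ (MvPolynomial.eval₂Hom_X' _ _ _)
  rw [hX] at e1
  exact monWt_eq_of_wordSubst _ (congrFun (D.Prod_injective lam sA e' h.inj' h.pos (e3.trans e1)) l) hd

theorem IsWord.coeff_zero_eq (h : IsFull lam e e') {k : ℕ} {f : Fin k → D.idx} {R : Type u} [CommRing R]
    {s : Spec (CommRingCat.of R) ⟶ S} {W : Fin m → MvPolynomial (Fin k) R} (hW : IsWord e' f s W) (l : Fin m) :
    MvPolynomial.coeff 0 (W l) = 0 := by
  classical
  let sP : Spec (CommRingCat.of (MvPolynomial (Fin k) R)) ⟶ S := Spec.map (CommRingCat.ofHom MvPolynomial.C) ≫ s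
  have h1 := hW _ sP (killSet fun _ => True) (word_comp_C s _ MvPolynomial.C
    (RingHom.ext fun r => MvPolynomial.eval₂Hom_C _ _ r))
  rw [← coeff_killSet (fun _ => True) (d := 0) (fun _ _ => rfl)]
  have h2 : D.Prod e' (fun l => sec sP (killSet (fun _ => True) (W l))) = D.Prod e' (fun _ : Fin m => sec sP 0) := by
    rw [← h1]
    simp only [killSet, MvPolynomial.eval₂Hom_X', if_pos, sec, map_zero, Prod_zero]
  rw [congrFun (D.Prod_injective lam sP e' h.inj' h.pos h2) l, MvPolynomial.coeff_zero]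

theorem IsWord.eval (h : IsFull lam e e') {k : ℕ} {f : Fin k → D.idx} {R : Type u} [CommRing R]
    {s : Spec (CommRingCat.of R) ⟶ S} {W : Fin m → MvPolynomial (Fin k) R} (hW : IsWord e' f s W) (x : Fin k → R) :
    D.Prod f (fun i => sec s (x i)) = D.Prod e' fun l => sec s (MvPolynomial.eval x (W l)) := by
  have h1 := hW R s (MvPolynomial.eval x)
    ((word_comp_C s _ (RingHom.id R) (RingHom.ext fun r => MvPolynomial.eval_C r)).trans (by simp))
  simpa using h1

/-- The roots which occur in a word. -/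
theorem exists_word_coords (h : IsFull lam e e') {k : ℕ} (f : Fin k → D.idx) (hf : ∀ i, 0 < lam (D.r (f i)))
    {R : Type u} [CommRing R] (s : Spec (CommRingCat.of R) ⟶ S) :
    ∃ W : Fin m → MvPolynomial (Fin k) R,
      (∀ l d, MvPolynomial.coeff d (W l) ≠ 0 → d ≠ 0 ∧ D.r (e' l) = monWt (fun i => D.r (f i)) d) ∧
      ∀ x : Fin k → R, D.Prod f (fun i => sec s (x i)) = D.Prod e' fun l => sec s (MvPolynomial.eval x (W l)) := by
  obtain ⟨W, hW⟩ := exists_word h f hf s
  exact ⟨W, fun l d hd => ⟨fun h0 => hd (h0 ▸ hW.coeff_zero_eq h l), hW.weight h hd⟩, hW.eval h⟩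

/-- A word in roots is a product over any set of roots closed under their combinations. -/
theorem exists_Prod_word {p q : ℕ} {a : Fin p → D.idx} {b : Fin q → D.idx} (h : IsFull lam e (Fin.append a b))
    {k : ℕ} (f : Fin k → D.idx) (hf : ∀ i, 0 < lam (D.r (f i)))
    (hcl : ∀ (c : D.idx) (d : Fin k → ℕ), D.r c = ∑ i, (d i : ℤ) • D.r (f i) → c ∈ Set.range a)
    {X : Over S} (v : Fin k → Γ(X.left, ⊤)) : ∃ w : Fin p → Γ(X.left, ⊤), D.Prod f v = D.Prod a w := by
  have hzero : ∀ (B : Type u) [CommRing B] (s : Spec (CommRingCat.of B) ⟶ S) (x : pX s ⟶ X),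
      ∃ w : Fin (p + q) → B, x ≫ D.Prod f v = D.Prod (Fin.append a b) (fun l => sec s (w l)) ∧
        ∀ j, w (Fin.natAdd p j) = 0 := by
    intro B _ s x
    obtain ⟨W, hW, hev⟩ := exists_word_coords h f hf s
    obtain ⟨v', hv'⟩ := exists_sec s (fun i => x.left.appTop (v i))
    refine ⟨_, by rw [comp_Prod, hv']; exact hev v', fun j => ?_⟩
    rw [show W (Fin.natAdd p j) = 0 from MvPolynomial.ext _ _ fun d => ?_, map_zero]
    rw [MvPolynomial.coeff_zero]
    by_contra hd
    obtain ⟨i, hi⟩ := hcl _ (fun i => d i) (hW _ d hd).2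
    rw [Fin.append_right] at hi
    exact Fin.ne_of_lt (show (Fin.castAdd q i : ℕ) < Fin.natAdd p j by simp; omega)
      (h.inj' (by rw [Fin.append_left, Fin.append_right]; exact hi))
  obtain ⟨w, hw⟩ := exists_Prod_global h (g := D.Prod f v) fun B _ s x => by
    obtain ⟨w, hw, -⟩ := hzero B s x
    exact ⟨w, hw⟩
  refine ⟨fun i => w (Fin.castAdd q i), ?_⟩
  have h2 : D.Prod a (fun i => w (Fin.castAdd q i)) =
      D.Prod (Fin.append a b) (Fin.append (fun i => w (Fin.castAdd q i)) (fun _ => 0)) := by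
    rw [Prod_append, Prod_zero]; exact (_root_.mul_one _).symm
  rw [hw, h2]
  refine hom_ext_rings fun B _ s x => ?_
  obtain ⟨w', hw', h0⟩ := hzero B s x
  rw [hw, comp_Prod] at hw'
  have h1 := Prod_pos_injective h hw'
  rw [comp_Prod, comp_Prod]
  congr 1
  funext l
  refine Fin.addCases (fun i => by simp) (fun j => ?_) l
  rw [Fin.append_right, map_zero, congrFun h1 (Fin.natAdd p j), h0]
  exact map_zero _

theorem Prod_inv {X : Over S} : ∀ {k : ℕ} (f : Fin k → D.idx) (v : Fin k → Γ(X.left, ⊤)),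
    (D.Prod f v)⁻¹ = D.Prod (f ∘ Fin.rev) fun i => -v (Fin.rev i)
  | 0, _, _ => inv_one
  | k + 1, f, v => by
    rw [Prod_succ, _root_.mul_inv_rev, Prod_inv, show D.Prod (f ∘ Fin.rev) (fun i => -v (Fin.rev i)) =
      D.Prod (Fin.snoc ((f ∘ Fin.succ) ∘ Fin.rev) (f 0)) (Fin.snoc (fun i => -(v ∘ Fin.succ) (Fin.rev i)) (-v 0))
      from ?_]
    · rw [Sys.Prod, Sys.Prod, List.ofFn_succ' (f := fun l => D.U (Fin.snoc (α := fun _ => D.idx) _ _ l) _),
        List.prod_concat]
      simp only [Fin.snoc_castSucc, Fin.snoc_last]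
      congr 1
      exact (inv_eq_of_mul_eq_one_right (by rw [← U_add, add_neg_cancel, U_zero]))
    · congr 1 <;> funext i <;> refine Fin.lastCases ?_ (fun j => ?_) i <;> simp [Fin.rev_last, Fin.rev_castSucc]

end

end Groth.Agent.SplitGrp
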